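import Cfsg.Agent.Omega.EH3.RowS.Fam
import Cfsg.Agent.TitsThree.WBridge

/-!
# RowS, BACK (helper73), part 3: Witt frames of quadratic spaces over `ZMod 2`

`HF`, `PF` : the hermitian form and the admissible pairs of `(U, γ, Q)`.
`exists_wframe` : a Witt frame `W` with `W.e 0 = a` for a given singular vector `a ≠ 0`; the anisotropic part is `0` or
has order 4 (`Aniso`).
-/

set_option autoImplicit false

namespace Cfsg.Agent.Omega.EH3.RowS.WF

open Cfsg.Agent.TitsThree.Siegel Cfsg.Agent.TitsThree.SiegelGen Cfsg.Agent.Omega.EH3.RowS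

variable {U : Type*} [AddCommGroup U] [Module (ZMod 2) U] {γ : LinearMap.BilinForm (ZMod 2) U} {Q : U → ZMod 2}

/-- the hermitian form of a symplectic form -/
def HF (S : Sy γ) : HForm (ZMod 2) U where
  σ := RingEquiv.refl _
  σσ _ := rfl
  ε := 1
  ε_mul := by simp
  h v w := γ v w
  add_left v v' w := by rw [map_add]; rfl
  smul_left c v w := by rw [map_smul]; rfl
  swap v w := by
    show γ w v = 1 * γ v w
    rw [one_mul, S.comm]

theorem HF_h (S : Sy γ) (v w : U) : (HF S).h v w = γ v w := rfl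

theorem neg_z (c : ZMod 2) : -c = c := by revert c; decide

theorem neg_u (v : U) : -v = v := by
  rw [neg_eq_iff_add_eq_zero]
  exact add_self v

theorem sub_u (v w : U) : v - w = v + w := by rw [sub_eq_add_neg, neg_u]

/-- the admissible pairs `(w, Q w)` -/
def PF (S : Sy γ) (hQ : IsQ γ Q) : PQ (HF S) where
  ok w c := c = Q w
  ex w := ⟨_, rfl⟩
  zero := hQ.zero.symm
  rel {w c} hc := by
    show 1 * c + c = -γ w w
    rw [S.alt, one_mul, neg_zero]
    exact z2_add c
  add {w c w' c'} h h' := by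
    show c + c' - 1⁻¹ * γ w' w = Q (w + w')
    rw [hQ.add, h, h', inv_one, one_mul, S.comm w' w, sub_eq_add_neg, neg_z]
  smul {w c} a h := by
    show a * a * c = Q (a • w)
    rw [hQ.smul, h]
    rcases z2 a with rfl | rfl <;> simp
  lam {w c} m h := by
    show c + m - 1⁻¹ * m = Q w
    rw [inv_one, one_mul, add_sub_cancel_right]
    exact h

theorem PF_ok (S : Sy γ) (hQ : IsQ γ Q) (w : U) (c : ZMod 2) : (PF S hQ).ok w c ↔ c = Q w := Iff.rfl

theorem sie_eq (S : Sy γ) {u w : U} {c : ZMod 2} (hu : (HF S).h u u = 0) (hw : (HF S).h u w = 0) (v : U) :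
    (HF S).sie u w c hu hw v = rr γ u w c v := by
  rw [HForm.sie_apply]
  show v + γ v u • w - (1⁻¹ * γ v w) • u + (c * γ v u) • u = v + γ u v • w + γ w v • u + (c * γ u v) • u
  rw [inv_one, one_mul, sub_u, S.comm v u, S.comm v w]

/-! ### Partial frames -/

/-- a partial frame -/
structure PFr (γ : LinearMap.BilinForm (ZMod 2) U) (Q : U → ZMod 2) (k : ℕ) (e f : Fin k → U) : Prop where
  ee : ∀ i j, γ (e i) (e j) = 0
  ff : ∀ i j, γ (f i) (f j) = 0
  ef : ∀ i j, γ (e i) (f j) = if i = j then 1 else 0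
  qe : ∀ i, Q (e i) = 0
  qf : ∀ i, Q (f i) = 0

/-- the projection to the orthogonal complement -/
def pr (γ : LinearMap.BilinForm (ZMod 2) U) {k : ℕ} (e f : Fin k → U) (v : U) : U :=
  v + ∑ i, γ v (f i) • e i + ∑ i, γ v (e i) • f i

section

variable {k : ℕ} {e f : Fin k → U}

theorem sum_apply (c : Fin k → ZMod 2) (x : Fin k → U) (y : U) :
    γ (∑ i, c i • x i) y = ∑ i, c i * γ (x i) y := by
  rw [map_sum, LinearMap.sum_apply]
  exact Finset.sum_congr rfl fun i _ => by rw [map_smul, LinearMap.smul_apply, smul_eq_mul]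

variable (S : Sy γ) (hF : PFr γ Q k e f)

include S hF

theorem fe (i j : Fin k) : γ (f i) (e j) = if i = j then 1 else 0 := by
  rw [S.comm, hF.ef]
  simp [eq_comm]

theorem pr_e (v : U) (j : Fin k) : γ (pr γ e f v) (e j) = 0 := by
  unfold pr
  rw [map_add, map_add, LinearMap.add_apply, LinearMap.add_apply, sum_apply, sum_apply]
  simp only [hF.ee, fe S hF, mul_zero, Finset.sum_const_zero, add_zero, mul_ite, mul_one, Finset.sum_ite_eq',
    Finset.mem_univ, if_true]
  exact z2_add _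

theorem pr_f (v : U) (j : Fin k) : γ (pr γ e f v) (f j) = 0 := by
  unfold pr
  rw [map_add, map_add, LinearMap.add_apply, LinearMap.add_apply, sum_apply, sum_apply]
  simp only [hF.ff, hF.ef, mul_zero, Finset.sum_const_zero, add_zero, mul_ite, mul_one, Finset.sum_ite_eq',
    Finset.mem_univ, if_true]
  exact z2_add _

theorem pr_perp {u : U} (he : ∀ i, γ u (e i) = 0) (hf : ∀ i, γ u (f i) = 0) (v : U) :
    γ (pr γ e f v) u = γ v u := by
  unfold pr
  rw [map_add, map_add, LinearMap.add_apply, LinearMap.add_apply, sum_apply, sum_apply]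
  have h1 : ∀ i, γ (e i) u = 0 := fun i => by rw [S.comm]; exact he i
  have h2 : ∀ i, γ (f i) u = 0 := fun i => by rw [S.comm]; exact hf i
  simp only [h1, h2, mul_zero, Finset.sum_const_zero, add_zero]

theorem inj_e : Function.Injective e := by
  intro i j hij
  by_contra hne
  have h1 := hF.ef i i
  rw [if_pos rfl, hij, hF.ef, if_neg (Ne.symm hne)] at h1
  exact absurd h1 (by decide)

theorem le_card [Finite U] : k ≤ Nat.card U := by
  have h1 := Nat.card_le_card_of_injective e (inj_e S hF)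
  rwa [Nat.card_eq_fintype_card, Fintype.card_fin] at h1

end

/-- one more hyperbolic pair -/
theorem exists_pair [Finite U] (S : Sy γ) (hQ : IsQ γ Q) {k : ℕ} {e f : Fin k → U} (hF : PFr γ Q k e f) {u : U}
    (hu : u ≠ 0) (hq : Q u = 0) (he : ∀ i, γ u (e i) = 0) (hf : ∀ i, γ u (f i) = 0) :
    ∃ v, PFr γ Q (k + 1) (Fin.snoc e u : Fin (k + 1) → U) (Fin.snoc f v : Fin (k + 1) → U) := by
  obtain ⟨v0, hv0⟩ := S.exists_one hu
  have h1 : γ (pr γ e f v0) u = 1 := by rw [pr_perp S hF he hf, hv0]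
  set v1 := pr γ e f v0 with hv1
  have h2 : ∀ i, γ v1 (e i) = 0 := pr_e S hF v0
  have h3 : ∀ i, γ v1 (f i) = 0 := pr_f S hF v0
  refine ⟨v1 + Q v1 • u, ?_⟩
  have hve : ∀ i, γ (v1 + Q v1 • u) (e i) = 0 := fun i => by
    rw [map_add, map_smul, LinearMap.add_apply, LinearMap.smul_apply, h2, he, smul_zero, add_zero]
  have hvf : ∀ i, γ (v1 + Q v1 • u) (f i) = 0 := fun i => by
    rw [map_add, map_smul, LinearMap.add_apply, LinearMap.smul_apply, h3, hf, smul_zero, add_zero]
  have hvu : γ (v1 + Q v1 • u) u = 1 := by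
    rw [map_add, map_smul, LinearMap.add_apply, LinearMap.smul_apply, h1, S.alt, smul_zero, add_zero]
  have hqv : Q (v1 + Q v1 • u) = 0 := by
    rw [hQ.add, hQ.smul, hq, mul_zero, add_zero, map_smul, h1, smul_eq_mul, mul_one]
    exact z2_add _
  constructor
  · intro i j
    refine Fin.lastCases ?_ (fun i => ?_) i <;> refine Fin.lastCases ?_ (fun j => ?_) j
    · rw [Fin.snoc_last]; exact S.alt u
    · rw [Fin.snoc_last, Fin.snoc_castSucc]; exact he j
    · rw [Fin.snoc_last, Fin.snoc_castSucc, S.comm]; exact he i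
    · rw [Fin.snoc_castSucc, Fin.snoc_castSucc]; exact hF.ee i j
  · intro i j
    refine Fin.lastCases ?_ (fun i => ?_) i <;> refine Fin.lastCases ?_ (fun j => ?_) j
    · rw [Fin.snoc_last]; exact S.alt _
    · rw [Fin.snoc_last, Fin.snoc_castSucc]; exact hvf j
    · rw [Fin.snoc_last, Fin.snoc_castSucc, S.comm]; exact hvf i
    · rw [Fin.snoc_castSucc, Fin.snoc_castSucc]; exact hF.ff i j
  · intro i j
    refine Fin.lastCases ?_ (fun i => ?_) i <;> refine Fin.lastCases ?_ (fun j => ?_) j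
    · rw [Fin.snoc_last, Fin.snoc_last, if_pos rfl, S.comm]; exact hvu
    · rw [Fin.snoc_last, Fin.snoc_castSucc, if_neg (Fin.castSucc_lt_last j).ne']; exact hf j
    · rw [Fin.snoc_last, Fin.snoc_castSucc, if_neg (Fin.castSucc_lt_last i).ne, S.comm]; exact hve i
    · rw [Fin.snoc_castSucc, Fin.snoc_castSucc, hF.ef]
      simp only [Fin.castSucc_inj]
  · intro i
    refine Fin.lastCases ?_ (fun i => ?_) i
    · rw [Fin.snoc_last]; exact hq
    · rw [Fin.snoc_castSucc]; exact hF.qe i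
  · intro i
    refine Fin.lastCases ?_ (fun i => ?_) i
    · rw [Fin.snoc_last]; exact hqv
    · rw [Fin.snoc_castSucc]; exact hF.qf i

/-- extension to a maximal frame -/
theorem exists_max [Finite U] (S : Sy γ) (hQ : IsQ γ Q) : ∀ (d k : ℕ) (e f : Fin (k + 1) → U),
    PFr γ Q (k + 1) e f → Nat.card U ≤ k + d →
    ∃ (k' : ℕ) (e' f' : Fin (k' + 1) → U), PFr γ Q (k' + 1) e' f' ∧ e' 0 = e 0 ∧
      ∀ u, (∀ i, γ u (e' i) = 0) → (∀ i, γ u (f' i) = 0) → Q u = 0 → u = 0 := by
  intro d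
  induction d with
  | zero =>
    intro k e f hF hk
    have := le_card S hF
    omega
  | succ d ih =>
    intro k e f hF hk
    by_cases hu : ∃ u, (∀ i, γ u (e i) = 0) ∧ (∀ i, γ u (f i) = 0) ∧ Q u = 0 ∧ u ≠ 0
    · obtain ⟨u, h1, h2, h3, h4⟩ := hu
      obtain ⟨v, hv⟩ := exists_pair S hQ hF h4 h3 h1 h2
      obtain ⟨k', e', f', h5, h6, h7⟩ := ih (k + 1) _ _ hv (by omega)
      refine ⟨k', e', f', h5, ?_, h7⟩
      rw [h6]
      exact Fin.snoc_castSucc (α := fun _ => U) u e (0 : Fin (k + 1))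
    · push Not at hu
      exact ⟨k, e, f, hF, rfl, fun u h1 h2 h3 => hu u h1 h2 h3⟩

theorem exists_first [Finite U] (S : Sy γ) (hQ : IsQ γ Q) {a : U} (ha : a ≠ 0) (hq : Q a = 0) :
    ∃ (e f : Fin 1 → U), PFr γ Q 1 e f ∧ e 0 = a := by
  have h0 : PFr γ Q 0 (Fin.elim0 : Fin 0 → U) (Fin.elim0 : Fin 0 → U) :=
    ⟨fun i => i.elim0, fun i => i.elim0, fun i => i.elim0, fun i => i.elim0, fun i => i.elim0⟩
  obtain ⟨v, hv⟩ := exists_pair S hQ h0 ha hq (fun i => i.elim0) (fun i => i.elim0)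
  exact ⟨_, _, hv, Fin.snoc_last (α := fun _ => U) (n := 0) a _⟩

/-! ### The Witt frame -/

/-- the orthogonal complement of a partial frame -/
def V0 (γ : LinearMap.BilinForm (ZMod 2) U) {k : ℕ} (e f : Fin k → U) : Submodule (ZMod 2) U where
  carrier := {u | (∀ i, γ u (e i) = 0) ∧ ∀ i, γ u (f i) = 0}
  add_mem' {x y} hx hy := ⟨fun i => by rw [map_add, LinearMap.add_apply, hx.1, hy.1, add_zero],
    fun i => by rw [map_add, LinearMap.add_apply, hx.2, hy.2, add_zero]⟩
  zero_mem' := ⟨fun i => by rw [map_zero]; rfl, fun i => by rw [map_zero]; rfl⟩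
  smul_mem' c x hx := ⟨fun i => by rw [map_smul, LinearMap.smul_apply, hx.1, smul_zero],
    fun i => by rw [map_smul, LinearMap.smul_apply, hx.2, smul_zero]⟩

theorem mem_V0 {k : ℕ} {e f : Fin k → U} {u : U} :
    u ∈ V0 γ e f ↔ (∀ i, γ u (e i) = 0) ∧ ∀ i, γ u (f i) = 0 := Iff.rfl

theorem eq_sum {k : ℕ} {e f : Fin k → U} (v : U) :
    v = ∑ i, γ v (f i) • e i + ∑ i, γ v (e i) • f i + pr γ e f v := by
  unfold pr
  have h1 := add_self (∑ i, γ v (f i) • e i)
  have h2 := add_self (∑ i, γ v (e i) • f i)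
  calc v = v + (∑ i, γ v (f i) • e i + ∑ i, γ v (f i) • e i) +
        (∑ i, γ v (e i) • f i + ∑ i, γ v (e i) • f i) := by rw [h1, h2, add_zero, add_zero]
    _ = _ := by abel

/-- the Witt frame of a maximal partial frame -/
def wf (S : Sy γ) (hQ : IsQ γ Q) {k : ℕ} {e f : Fin k → U} (hF : PFr γ Q k e f)
    (han : ∀ u, (∀ i, γ u (e i) = 0) → (∀ i, γ u (f i) = 0) → Q u = 0 → u = 0) : WFrame (PF S hQ) k where
  e := e
  f := f
  V0 := V0 γ e f
  ee := hF.ee
  ff := hF.ff
  ef := hF.ef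
  fe := fe S hF
  e_sing i := (hF.qe i).symm
  f_sing i := (hF.qf i).symm
  V0e w hw i := hw.1 i
  V0f w hw i := hw.2 i
  aniso w hw h := han w hw.1 hw.2 h.symm
  span v := ⟨_, _, pr γ e f v, ⟨pr_e S hF v, pr_f S hF v⟩, eq_sum v⟩

/-- the anisotropic part -/
structure Aniso (γ : LinearMap.BilinForm (ZMod 2) U) (Q : U → ZMod 2) (V : Submodule (ZMod 2) U) (x y : U) : Prop where
  x_mem : x ∈ V
  y_mem : y ∈ V
  qx : Q x = 1
  qy : Q y = 1
  xy : γ x y = 1
  all : ∀ w ∈ V, w = 0 ∨ w = x ∨ w = y ∨ w = x + y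

theorem card_aniso {V : Submodule (ZMod 2) U} {x y : U} (hQ : IsQ γ Q) (h : Aniso γ Q V x y) : Nat.card V = 4 := by
  have hx0 : x ≠ 0 := by rintro rfl; exact absurd (h.qx.symm.trans hQ.zero) (by decide)
  have hy0 : y ≠ 0 := by rintro rfl; exact absurd (h.qy.symm.trans hQ.zero) (by decide)
  have hxy : x + y ≠ 0 := by
    intro h1
    have h2 := hQ.add x y
    rw [h1, h.qx, h.qy, h.xy, hQ.zero] at h2
    exact absurd h2 (by decide)
  have hne : x ≠ y := fun h1 => hxy (add_eq_zero.2 h1)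
  have e1 : (V : Set U) = {0, x, y, x + y} := by
    ext w
    simp only [Set.mem_insert_iff, Set.mem_singleton_iff]
    constructor
    · exact h.all w
    · rintro (rfl | rfl | rfl | rfl)
      · exact V.zero_mem
      · exact h.x_mem
      · exact h.y_mem
      · exact V.add_mem h.x_mem h.y_mem
  have e2 : Nat.card V = (V : Set U).ncard := rfl
  rw [e2, e1]
  have h3 : (0 : U) ∉ ({x, y, x + y} : Set U) := by
    simp only [Set.mem_insert_iff, Set.mem_singleton_iff, not_or]
    exact ⟨hx0.symm, hy0.symm, hxy.symm⟩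
  have h4 : x ∉ ({y, x + y} : Set U) := by
    simp only [Set.mem_insert_iff, Set.mem_singleton_iff, not_or]
    exact ⟨hne, fun h5 => hy0 (left_eq_add.1 h5)⟩
  have h5 : y ∉ ({x + y} : Set U) := by
    rw [Set.mem_singleton_iff]
    exact fun h5 => hx0 (right_eq_add.1 h5)
  rw [Set.ncard_insert_of_notMem h3, Set.ncard_insert_of_notMem h4, Set.ncard_insert_of_notMem h5,
    Set.ncard_singleton]

/-- `V0` is trivial or a plane -/
theorem V0_cases [Finite U] (S : Sy γ) (hQ : IsQ γ Q) {k : ℕ} {e f : Fin k → U} (hF : PFr γ Q k e f)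
    (han : ∀ u, (∀ i, γ u (e i) = 0) → (∀ i, γ u (f i) = 0) → Q u = 0 → u = 0) :
    V0 γ e f = ⊥ ∨ ∃ x y, Aniso γ Q (V0 γ e f) x y := by
  by_cases hV : V0 γ e f = ⊥
  · exact Or.inl hV
  right
  obtain ⟨x, hx, hx0⟩ := (Submodule.ne_bot_iff _).1 hV
  have hq1 : ∀ u ∈ V0 γ e f, u ≠ 0 → Q u = 1 := fun u hu h0 => z2_ne fun h => h0 (han u hu.1 hu.2 h)
  obtain ⟨y0, hy0⟩ := S.exists_one hx0
  have hyx : γ (pr γ e f y0) x = 1 := by rw [pr_perp S hF hx.1 hx.2, hy0]
  have hy : pr γ e f y0 ∈ V0 γ e f := ⟨pr_e S hF y0, pr_f S hF y0⟩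
  set y := pr γ e f y0 with hyd
  have hyne : y ≠ 0 := by
    intro h
    rw [h, map_zero] at hyx
    exact absurd hyx (by simp)
  have hxy : γ x y = 1 := by rw [S.comm]; exact hyx
  refine ⟨x, y, hx, hy, hq1 x hx hx0, hq1 y hy hyne, hxy, fun w hw => ?_⟩
  have key : w + γ w y • x + γ w x • y = 0 := by
    by_contra hne
    have hw' : w + γ w y • x + γ w x • y ∈ V0 γ e f :=
      Submodule.add_mem _ (Submodule.add_mem _ hw (Submodule.smul_mem _ _ hx)) (Submodule.smul_mem _ _ hy)
    set w' := w + γ w y • x + γ w x • y with hwd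
    have h1 : γ w' x = 0 := by
      rw [hwd, map_add, map_add, map_smul, map_smul, LinearMap.add_apply, LinearMap.add_apply,
        LinearMap.smul_apply, LinearMap.smul_apply, S.alt, hyx, smul_zero, add_zero, smul_eq_mul, mul_one]
      exact z2_add _
    have h2 : γ w' y = 0 := by
      rw [hwd, map_add, map_add, map_smul, map_smul, LinearMap.add_apply, LinearMap.add_apply,
        LinearMap.smul_apply, LinearMap.smul_apply, S.alt, hxy, smul_zero, add_zero, smul_eq_mul, mul_one]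
      exact z2_add _
    have h3 : Q (w' + x) = 0 := by
      rw [hQ.add, hq1 w' hw' hne, hq1 x hx hx0, h1]
      decide
    have h4 : w' + x = 0 := by
      have := Submodule.add_mem _ hw' hx
      exact han _ this.1 this.2 h3
    have h5 : w' = x := add_eq_zero.1 h4
    rw [h5, hxy] at h2
    exact absurd h2 (by decide)
  have e1 : w = γ w y • x + γ w x • y := by
    rw [add_assoc] at key
    exact add_eq_zero.1 key
  rcases z2 (γ w y) with h1 | h1 <;> rcases z2 (γ w x) with h2 | h2 <;> rw [h1, h2] at e1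
  · left; rw [e1]; simp
  · right; right; left; rw [e1]; simp
  · right; left; rw [e1]; simp
  · right; right; right; rw [e1]; simp

/-- the order of `U` -/
theorem card_eq (S : Sy γ) {k : ℕ} {e f : Fin k → U} (hF : PFr γ Q k e f) :
    Nat.card U = 2 ^ (2 * k) * Nat.card (V0 γ e f) := by
  let g : U → (Fin k → ZMod 2) × (Fin k → ZMod 2) × V0 γ e f := fun v =>
    (fun i => γ v (f i), fun i => γ v (e i), ⟨pr γ e f v, pr_e S hF v, pr_f S hF v⟩)
  have hg : Function.Bijective g := by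
    constructor
    · intro v v' h
      have h1 : ∀ i, γ v (f i) = γ v' (f i) := fun i => congrFun (congrArg Prod.fst h) i
      have h2 : ∀ i, γ v (e i) = γ v' (e i) := fun i => congrFun (congrArg (fun x => x.2.1) h) i
      have h3 : pr γ e f v = pr γ e f v' := congrArg (fun x => (x.2.2 : U)) h
      rw [eq_sum (γ := γ) (e := e) (f := f) v, eq_sum (γ := γ) (e := e) (f := f) v', h3]
      simp only [h1, h2]
    · rintro ⟨a, b, w, hw1, hw2⟩
      have he : ∀ i, γ (∑ i, a i • e i + ∑ i, b i • f i + w) (e i) = b i := by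
        intro i
        rw [map_add, map_add, LinearMap.add_apply, LinearMap.add_apply, sum_apply, sum_apply, hw1]
        simp only [hF.ee, fe S hF, mul_zero, Finset.sum_const_zero, add_zero, zero_add, mul_ite, mul_one,
          Finset.sum_ite_eq', Finset.mem_univ, if_true]
      have hf : ∀ i, γ (∑ i, a i • e i + ∑ i, b i • f i + w) (f i) = a i := by
        intro i
        rw [map_add, map_add, LinearMap.add_apply, LinearMap.add_apply, sum_apply, sum_apply, hw2]
        simp only [hF.ff, hF.ef, mul_zero, Finset.sum_const_zero, add_zero, zero_add, mul_ite, mul_one,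
          Finset.sum_ite_eq', Finset.mem_univ, if_true]
      refine ⟨∑ i, a i • e i + ∑ i, b i • f i + w, ?_⟩
      refine Prod.ext (funext hf) (Prod.ext (funext he) (Subtype.ext ?_))
      show pr γ e f (∑ i, a i • e i + ∑ i, b i • f i + w) = w
      have h1 := eq_sum (γ := γ) (e := e) (f := f) (∑ i, a i • e i + ∑ i, b i • f i + w)
      simp only [he, hf] at h1
      exact (add_left_cancel h1).symm
  rw [Nat.card_congr (Equiv.ofBijective g hg), Nat.card_prod, Nat.card_prod, Nat.card_fun, Nat.card_zmod,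
    Nat.card_eq_fintype_card (α := Fin k), Fintype.card_fin]
  ring

/-- **the Witt frame** -/
theorem exists_wframe [Finite U] (S : Sy γ) (hQ : IsQ γ Q) {a : U} (ha : a ≠ 0) (hq : Q a = 0) :
    ∃ (k : ℕ) (W : WFrame (PF S hQ) (k + 1)), W.e 0 = a ∧ Nat.card U = 2 ^ (2 * (k + 1)) * Nat.card W.V0 ∧
      (W.V0 = ⊥ ∨ ∃ x y, Aniso γ Q W.V0 x y) := by
  obtain ⟨e, f, hF, he⟩ := exists_first S hQ ha hq
  obtain ⟨k, e', f', hF', he', han⟩ := exists_max S hQ (Nat.card U) 0 e f hF (by omega)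
  exact ⟨k, wf S hQ hF' han, he'.trans he, card_eq S hF', V0_cases S hQ hF' han⟩

end Cfsg.Agent.Omega.EH3.RowS.WF
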