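import Cfsg.Agent.Omega.EH3.RowS.Fam
import Mathlib.GroupTheory.Commutator.Basic

/-!
# EH3, row S (bb OMEGA #14257, #14554): the group `H₀` on `U` (helper754)

`AB σ γ a X L`: `M` acts faithfully through `σ` on the space `(U, γ)` (symmetric, nondegenerate) over `ZMod 2`;
`X` is normal in the stabiliser of the isotropic vector `a`, acts on `a^⊥` by all transvections with centre `a` and
regularly so; `L` is a quasisimple normal subgroup with centre of odd order, `C_X(L) = 1`, `L` moves `a`.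

Results: `AB.exists_off`, `AB.span_L`, `AB.alt`; `AB.exists_Q`: a quadratic form `Q` with polar form `γ`,
preserved by `M`, the nonzero singular vectors are `a^L`, all Siegel maps of `Q` are in `σ L`; `AB.X_le`, `AB.L_gen`.
-/

set_option autoImplicit false

namespace Cfsg.Agent.Omega.EH3.RowS

variable {U : Type*} [AddCommGroup U] [Module (ZMod 2) U]

/-- separation for a nondegenerate form -/
theorem sep_of_nondeg [Finite U] {γ : LinearMap.BilinForm (ZMod 2) U} (nd : ∀ v, (∀ u, γ v u = 0) → v = 0)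
    {W : Submodule (ZMod 2) U} {v : U} (hv : v ∉ W) : ∃ y, γ y v = 1 ∧ ∀ u ∈ W, γ y u = 0 := by
  have hinj : Function.Injective (γ : U →ₗ[ZMod 2] (U →ₗ[ZMod 2] ZMod 2)) := by
    rw [injective_iff_map_eq_zero]
    intro v hv
    exact nd v fun u => by rw [hv]; rfl
  have hfd : FiniteDimensional (ZMod 2) U := Module.Finite.of_finite
  have hsurj : Function.Surjective (γ : U →ₗ[ZMod 2] (U →ₗ[ZMod 2] ZMod 2)) :=
    (LinearMap.injective_iff_surjective_of_finrank_eq_finrank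
      (by rw [Subspace.dual_finrank_eq] : Module.finrank (ZMod 2) U
        = Module.finrank (ZMod 2) (Module.Dual (ZMod 2) U))).1 hinj
  obtain ⟨φ, hφ, hW⟩ := Submodule.exists_le_ker_of_notMem hv
  obtain ⟨y, hy⟩ := hsurj φ
  refine ⟨y, ?_, fun u hu => ?_⟩
  · rw [hy]; exact z2_ne hφ
  · rw [hy]; exact hW hu

theorem rr_add_u (γ : LinearMap.BilinForm (ZMod 2) U) (u w : U) (l : ZMod 2) (v : U) :
    rr γ u (w + u) l v = rr γ u w l v := by
  simp only [rr, map_add, LinearMap.add_apply, add_smul, smul_add]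
  calc v + (γ u v • w + γ u v • u) + (γ w v • u + γ u v • u) + (l * γ u v) • u
      = v + γ u v • w + γ w v • u + (l * γ u v) • u + (γ u v • u + γ u v • u) := by abel
    _ = _ := by rw [add_self, add_zero]

/-- composition of Siegel maps with the same centre -/
theorem rr_rr {γ : LinearMap.BilinForm (ZMod 2) U} {u w w' : U} {l l' : ZMod 2} (hu : γ u u = 0)
    (hw' : γ u w' = 0) (hw : γ w u = 0) (v : U) :
    rr γ u w l (rr γ u w' l' v) = rr γ u (w + w') (l + l' + γ w w') v := by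
  simp only [rr, map_add, map_smul, LinearMap.add_apply, smul_eq_mul, hu, hw', hw, mul_zero, add_zero,
    add_smul, smul_add, add_mul]
  rw [mul_comm (γ u v) (γ w w')]
  abel

/-- conjugation of Siegel maps -/
theorem rr_conj {γ : LinearMap.BilinForm (ZMod 2) U} {g : U ≃ₗ[ZMod 2] U}
    (hg : ∀ u v, γ (g u) (g v) = γ u v) {x : U ≃ₗ[ZMod 2] U} {u w : U} {l : ZMod 2}
    (hx : ∀ v, x v = rr γ u w l v) (v : U) : (g * x * g⁻¹) v = rr γ (g u) (g w) l v := by
  have h1 : g (g⁻¹ v) = v := by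
    rw [← LinearEquiv.mul_apply, mul_inv_cancel]; rfl
  rw [LinearEquiv.mul_apply, LinearEquiv.mul_apply, hx]
  simp only [rr, map_add, map_smul, h1]
  have h2 : γ u (g⁻¹ v) = γ (g u) v := by rw [← hg, h1]
  have h3 : γ w (g⁻¹ v) = γ (g w) v := by rw [← hg, h1]
  rw [h2, h3]

/-- the situation of `H₀` on `U` -/
structure AB {M : Type*} [Group M] (σ : M →* (U ≃ₗ[ZMod 2] U)) (γ : LinearMap.BilinForm (ZMod 2) U) (a : U)
    (X L : Subgroup M) : Prop where
  inj : Function.Injective σ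
  symm : ∀ u v, γ u v = γ v u
  nondeg : ∀ v, (∀ u, γ v u = 0) → v = 0
  iso : ∀ m u v, γ (σ m u) (σ m v) = γ u v
  card : 2 ^ 5 ≤ Nat.card U
  a_iso : γ a a = 0
  a_ne : a ≠ 0
  X_norm : ∀ m, σ m a = a → ∀ x ∈ X, m * x * m⁻¹ ∈ X
  X_perp : ∀ x ∈ X, ∀ u, γ a u = 0 → σ x u = u ∨ σ x u = u + a
  X_all : ∀ ψ : U →ₗ[ZMod 2] ZMod 2, ψ a = 0 → ∃ x ∈ X, ∀ u, γ a u = 0 → σ x u = u + ψ u • a
  X_inj : ∀ x ∈ X, (∀ u, γ a u = 0 → σ x u = u) → x = 1
  L_norm : L.Normal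
  L_perf : ⁅L, L⁆ = L
  L_simple : ∀ N : Subgroup M, N ≤ L → (∀ l ∈ L, ∀ n ∈ N, l * n * l⁻¹ ∈ N) →
    N = L ∨ ∀ n ∈ N, ∀ l ∈ L, l * n = n * l
  L_odd : ∀ n ∈ L, (∀ l ∈ L, l * n = n * l) → n * n = 1 → n = 1
  cen : ∀ x ∈ X, (∀ l ∈ L, l * x = x * l) → x = 1
  moves : ∃ l ∈ L, σ l a ≠ a

namespace AB

variable {M : Type*} [Group M] {σ : M →* (U ≃ₗ[ZMod 2] U)} {γ : LinearMap.BilinForm (ZMod 2) U} {a : U}
  {X L : Subgroup M}

theorem finite (A : AB σ γ a X L) : Finite U :=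
  Nat.finite_of_card_ne_zero (by have := A.card; omega)

theorem σ_mul (_A : AB σ γ a X L) (m n : M) (v : U) : σ (m * n) v = σ m (σ n v) := by
  rw [map_mul]; rfl

theorem σ_one (_A : AB σ γ a X L) (v : U) : σ 1 v = v := by rw [map_one]; rfl

theorem σ_inv (A : AB σ γ a X L) (m : M) (v : U) : σ m⁻¹ (σ m v) = v := by
  rw [← A.σ_mul, inv_mul_cancel, A.σ_one]

theorem σ_inv' (A : AB σ γ a X L) (m : M) (v : U) : σ m (σ m⁻¹ v) = v := by
  rw [← A.σ_mul, mul_inv_cancel, A.σ_one]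

theorem ext (A : AB σ γ a X L) {m n : M} (h : ∀ v, σ m v = σ n v) : m = n :=
  A.inj (LinearEquiv.ext h)

theorem sep (A : AB σ γ a X L) {w : U} (h0 : w ≠ 0) (h1 : w ≠ a) : ∃ y, γ a y = 0 ∧ γ y w = 1 := by
  have := A.finite
  obtain ⟨y, hy, hW⟩ := sep_of_nondeg A.nondeg (W := Submodule.span (ZMod 2) {a}) (v := w)
    (fun h => (Sy.mem_single h).elim h0 h1)
  exact ⟨y, by rw [A.symm]; exact hW a (Submodule.mem_span_singleton_self a), hy⟩

theorem exists_c (A : AB σ γ a X L) : ∃ c, γ a c = 1 := by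
  by_contra hcon
  push Not at hcon
  exact A.a_ne (A.nondeg a fun u => (z2 _).resolve_right (hcon u))

/-- vectors orthogonal to `a^⊥` -/
theorem eq_of_perp (A : AB σ γ a X L) {w : U} (h : ∀ u, γ a u = 0 → γ w u = 0) : w = 0 ∨ w = a := by
  by_contra hcon
  push Not at hcon
  obtain ⟨y, h1, h2⟩ := A.sep hcon.1 hcon.2
  have := h y h1
  rw [A.symm, h2] at this
  exact absurd this (by decide)

theorem X_a (A : AB σ γ a X L) {x : M} (hx : x ∈ X) : σ x a = a := by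
  rcases A.X_perp x hx a A.a_iso with h | h
  · exact h
  · exfalso
    rw [add_self] at h
    exact A.a_ne ((LinearEquiv.map_eq_zero_iff _).1 h)

/-- the elements of `X` are Siegel maps -/
theorem X_form (A : AB σ γ a X L) {x : M} (hx : x ∈ X) :
    ∃ w l, γ a w = 0 ∧ ∀ v, σ x v = rr γ a w l v := by
  obtain ⟨c, hc⟩ := A.exists_c
  set y := σ x c + c with hy
  have h1 : γ a y = 0 := by
    have h2 : γ a (σ x c) = 1 := by
      nth_rewrite 1 [← A.X_a hx]
      rw [A.iso, hc]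
    rw [hy, map_add, h2, hc]; decide
  have hxc : σ x c = c + y := by rw [hy, add_comm (σ x c) c, ← add_assoc, add_self, zero_add]
  have h2 : ∀ u, γ a u = 0 → σ x u = u + γ y u • a := by
    intro u hu
    have key : ∀ φ : ZMod 2, σ x u = u + φ • a → γ y u = φ := by
      intro φ h
      have h3 := A.iso x c u
      rw [hxc, h] at h3
      simp only [map_add, map_smul, LinearMap.add_apply, smul_eq_mul] at h3
      rw [A.symm c a, hc, A.symm y a, h1, add_zero, mul_one] at h3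
      rcases z2 (γ y u) with h4 | h4 <;> rcases z2 φ with h5 | h5
      · rw [h4, h5]
      · rw [h4, h5, add_zero] at h3
        have : (1 : ZMod 2) = 0 := by
          calc (1 : ZMod 2) = γ c u + (γ c u + 1) := by rw [← add_assoc, z2_add, zero_add]
            _ = γ c u + γ c u := by rw [h3]
            _ = 0 := z2_add _
        exact absurd this (by decide)
      · rw [h4, h5, add_zero] at h3
        have : (1 : ZMod 2) = 0 := by
          calc (1 : ZMod 2) = γ c u + (γ c u + 1) := by rw [← add_assoc, z2_add, zero_add]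
            _ = γ c u + γ c u := by rw [h3]
            _ = 0 := z2_add _
        exact absurd this (by decide)
      · rw [h4, h5]
    rcases A.X_perp x hx u hu with h | h
    · rw [key 0 (by rw [h, zero_smul, add_zero]), zero_smul, add_zero, h]
    · rw [key 1 (by rw [h, one_smul]), one_smul, h]
  refine ⟨y, γ y c, h1, fun v => ?_⟩
  have h3 : γ a (v + γ a v • c) = 0 := by
    rw [map_add, map_smul, hc, smul_eq_mul, mul_one, z2_add]
  have h4 : v = γ a v • c + (v + γ a v • c) := by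
    rw [add_comm v, ← add_assoc, add_self, zero_add]
  have h5 : σ x v = γ a v • (c + y) + ((v + γ a v • c) + γ y (v + γ a v • c) • a) := by
    nth_rewrite 1 [h4]
    rw [map_add, map_smul, hxc, h2 _ h3]
  rw [h5, rr, map_add, map_smul, smul_eq_mul, mul_comm (γ y c), smul_add, add_smul]
  calc γ a v • c + γ a v • y + (v + γ a v • c + (γ y v • a + (γ a v * γ y c) • a))
      = v + γ a v • y + γ y v • a + (γ a v * γ y c) • a + (γ a v • c + γ a v • c) := by abel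
    _ = _ := by rw [add_self, add_zero]

theorem X_ex (A : AB σ γ a X L) {w : U} (hw : γ a w = 0) : ∃ x ∈ X, ∃ l, ∀ v, σ x v = rr γ a w l v := by
  obtain ⟨x, hx, h1⟩ := A.X_all (γ w) (by rw [A.symm]; exact hw)
  obtain ⟨y, l, h2, h3⟩ := A.X_form hx
  refine ⟨x, hx, l, ?_⟩
  have h4 : y + w = 0 ∨ y + w = a := by
    apply A.eq_of_perp
    intro u hu
    have h5 := h1 u hu
    rw [h3, rr, hu, zero_smul, add_zero, mul_zero, zero_smul, add_zero] at h5
    have h6 : γ y u • a = γ w u • a := add_left_cancel h5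
    rw [map_add, LinearMap.add_apply]
    rcases z2 (γ y u) with h7 | h7 <;> rcases z2 (γ w u) with h8 | h8
    · rw [h7, h8, add_zero]
    · rw [h7, h8, zero_smul, one_smul] at h6; exact absurd h6.symm A.a_ne
    · rw [h7, h8, zero_smul, one_smul] at h6; exact absurd h6 A.a_ne
    · rw [h7, h8]; decide
  rcases h4 with h4 | h4
  · rw [add_eq_zero.1 h4] at h3; exact h3
  · have : y = w + a := by rw [← h4, add_comm y w, ← add_assoc, add_self, zero_add]
    intro v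
    rw [h3, this, rr_add_u]

theorem X_uniq (A : AB σ γ a X L) {w : U} (hw : γ a w = 0) {x x' : M} (hx : x ∈ X) (hx' : x' ∈ X) {l l' : ZMod 2}
    (h : ∀ v, σ x v = rr γ a w l v) (h' : ∀ v, σ x' v = rr γ a w l' v) : x = x' ∧ l = l' := by
  have hw' : γ w a = 0 := by rw [A.symm]; exact hw
  have sq : ∀ y ∈ X, ∀ z ∈ X, ∀ k k' : ZMod 2, (∀ v, σ y v = rr γ a w k v) → (∀ v, σ z v = rr γ a w k' v) →
      y * z = 1 := by
    intro y hy z hz k k' h1 h2
    apply A.X_inj _ (mul_mem hy hz)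
    intro u hu
    rw [A.σ_mul, h1, h2, rr_rr A.a_iso hw hw', rr, hu, add_self w]
    simp
  have h1 := sq x hx x' hx' l l' h h'
  have h2 := sq x' hx' x' hx' l' l' h' h'
  have h3 : x = x' := by
    rw [mul_eq_one_iff_eq_inv] at h1 h2
    rw [h1, ← h2]
  refine ⟨h3, ?_⟩
  obtain ⟨c, hc⟩ := A.exists_c
  have h4 := h c
  rw [h3, h' c, rr, rr, hc, mul_one, mul_one] at h4
  have h5 : l' • a = l • a := add_left_cancel h4
  rcases z2 l with h7 | h7 <;> rcases z2 l' with h8 | h8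
  · rw [h7, h8]
  · rw [h7, h8, zero_smul, one_smul] at h5; exact absurd h5 A.a_ne
  · rw [h7, h8, zero_smul, one_smul] at h5; exact absurd h5.symm A.a_ne
  · rw [h7, h8]

theorem X_sq (A : AB σ γ a X L) {x : M} (hx : x ∈ X) : x * x = 1 := by
  obtain ⟨w, l, h1, h2⟩ := A.X_form hx
  apply A.X_inj _ (mul_mem hx hx)
  intro u hu
  rw [A.σ_mul, h2, h2, rr_rr A.a_iso h1 (by rw [A.symm]; exact h1), rr, hu, add_self w]
  simp

theorem X_inv (A : AB σ γ a X L) {x : M} (hx : x ∈ X) : x⁻¹ = x :=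
  inv_eq_of_mul_eq_one_left (A.X_sq hx)

theorem X_comm (A : AB σ γ a X L) {x y : M} (hx : x ∈ X) (hy : y ∈ X) : x * y = y * x := by
  have h1 := A.X_inv (X.mul_mem hx hy)
  rw [mul_inv_rev, A.X_inv hx, A.X_inv hy] at h1
  exact h1.symm

/-- the span of `a^L` -/
def U0 (_A : AB σ γ a X L) : Submodule (ZMod 2) U := Submodule.span (ZMod 2) {u | ∃ l ∈ L, u = σ l a}

theorem a_mem_U0 (A : AB σ γ a X L) : a ∈ A.U0 :=
  Submodule.subset_span ⟨1, one_mem _, (A.σ_one a).symm⟩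

/-- `U0` is invariant under every `m` with `σ m a ∈ U0` -/
theorem U0_inv (A : AB σ γ a X L) {m : M} (hm : σ m a ∈ {u | ∃ l ∈ L, u = σ l a}) {u : U} (hu : u ∈ A.U0) :
    σ m u ∈ A.U0 := by
  have hn := A.L_norm
  obtain ⟨k, hk, hk'⟩ := hm
  have h : A.U0 ≤ A.U0.comap (σ m : U →ₗ[ZMod 2] U) := by
    conv_lhs => rw [U0]
    rw [Submodule.span_le]
    rintro _ ⟨l, hl, rfl⟩
    show σ m (σ l a) ∈ A.U0
    apply Submodule.subset_span
    refine ⟨m * l * m⁻¹ * k, mul_mem (hn.conj_mem l hl m) hk, ?_⟩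
    rw [A.σ_mul, ← hk', A.σ_mul, A.σ_inv, A.σ_mul]
  exact h hu

theorem U0_L (A : AB σ γ a X L) {l : M} (hl : l ∈ L) {u : U} (hu : u ∈ A.U0) : σ l u ∈ A.U0 :=
  A.U0_inv ⟨l, hl, rfl⟩ hu

theorem U0_X (A : AB σ γ a X L) {x : M} (hx : x ∈ X) {u : U} (hu : u ∈ A.U0) : σ x u ∈ A.U0 :=
  A.U0_inv ⟨1, one_mem _, by rw [A.X_a hx, A.σ_one]⟩ hu

/-- **(2)**: `a^L` is not totally isotropic -/
theorem exists_off (A : AB σ γ a X L) : ∃ l ∈ L, γ a (σ l a) = 1 := by
  by_contra hcon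
  push Not at hcon
  have h0 : ∀ l ∈ L, γ a (σ l a) = 0 := fun l hl => (z2 _).resolve_right (hcon l hl)
  have hn := A.L_norm
  -- `U0` is totally isotropic
  have hti1 : ∀ l ∈ L, ∀ u ∈ A.U0, γ (σ l a) u = 0 := by
    intro l hl u hu
    have h : A.U0 ≤ LinearMap.ker (γ (σ l a)) := by
      rw [U0, Submodule.span_le]
      rintro _ ⟨k, hk, rfl⟩
      show γ (σ l a) (σ k a) = 0
      have e : σ k a = σ l (σ (l⁻¹ * k) a) := by rw [A.σ_mul, A.σ_inv']
      rw [e, A.iso]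
      exact h0 _ (mul_mem (inv_mem hl) hk)
    exact h hu
  have hti : ∀ u ∈ A.U0, ∀ u' ∈ A.U0, γ u u' = 0 := by
    intro u hu u' hu'
    have h : A.U0 ≤ LinearMap.ker (γ u') := by
      conv_lhs => rw [U0]
      rw [Submodule.span_le]
      rintro _ ⟨k, hk, rfl⟩
      show γ u' (σ k a) = 0
      rw [A.symm]
      exact hti1 k hk u' hu'
    rw [A.symm]
    exact h hu
  obtain ⟨l₀, hl₀, hm⟩ := A.moves
  set w := σ l₀ a with hw
  have hw0 : w ≠ 0 := fun h => A.a_ne ((LinearEquiv.map_eq_zero_iff _).1 h)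
  have hwU : w ∈ A.U0 := Submodule.subset_span ⟨l₀, hl₀, rfl⟩
  obtain ⟨x, hx, lam, hxw⟩ := A.X_ex (h0 l₀ hl₀)
  -- the group `E`
  let E : Subgroup M :=
    { carrier := {m | (∀ v, σ m v + v ∈ A.U0) ∧ ∀ v, (∀ u ∈ A.U0, γ u v = 0) → σ m v = v}
      one_mem' := ⟨fun v => by rw [A.σ_one, add_self]; exact A.U0.zero_mem, fun v _ => A.σ_one v⟩
      mul_mem' := by
        rintro m n ⟨h1, h2⟩ ⟨h3, h4⟩
        refine ⟨fun v => ?_, fun v hv => by rw [A.σ_mul, h4 v hv, h2 v hv]⟩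
        have e : σ (m * n) v + v = (σ m (σ n v) + σ n v) + (σ n v + v) := by
          rw [A.σ_mul]
          calc σ m (σ n v) + v = σ m (σ n v) + (σ n v + σ n v) + v := by rw [add_self, add_zero]
            _ = _ := by abel
        rw [e]
        exact A.U0.add_mem (h1 _) (h3 _)
      inv_mem' := by
        rintro m ⟨h1, h2⟩
        refine ⟨fun v => ?_, fun v hv => ?_⟩
        · have h3 := h1 (σ m⁻¹ v)
          rw [A.σ_inv', add_comm] at h3
          exact h3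
        · nth_rewrite 1 [← h2 v hv]
          exact A.σ_inv m v }
  have hE : ∀ {m}, m ∈ E ↔ (∀ v, σ m v + v ∈ A.U0) ∧ ∀ v, (∀ u ∈ A.U0, γ u v = 0) → σ m v = v :=
    fun {m} => Iff.rfl
  have hEL : ∀ l ∈ L, ∀ m ∈ E, l * m * l⁻¹ ∈ E := by
    intro l hl m hm'
    obtain ⟨h1, h2⟩ := hE.1 hm'
    refine hE.2 ⟨fun v => ?_, fun v hv => ?_⟩
    · have e : σ (l * m * l⁻¹) v + v = σ l (σ m (σ l⁻¹ v) + σ l⁻¹ v) := by
        rw [map_add, A.σ_inv', A.σ_mul, A.σ_mul]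
      rw [e]
      exact A.U0_L hl (h1 _)
    · rw [A.σ_mul, A.σ_mul, h2, A.σ_inv']
      intro u hu
      rw [← A.iso l, A.σ_inv']
      exact hv _ (A.U0_L hl hu)
  have hE2 : ∀ m ∈ E, m * m = 1 := by
    intro m hm'
    obtain ⟨h1, h2⟩ := hE.1 hm'
    apply A.ext
    intro v
    have e : σ m v = v + (σ m v + v) := by
      rw [add_comm (σ m v) v, ← add_assoc, add_self, zero_add]
    rw [A.σ_mul, A.σ_one]
    calc σ m (σ m v) = σ m (v + (σ m v + v)) := by rw [← e]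
      _ = σ m v + (σ m v + v) := by rw [map_add, h2 (σ m v + v) (fun u hu => hti u hu _ (h1 v))]
      _ = v := by rw [← add_assoc, add_self, zero_add]
  have hxE : x ∈ E := by
    refine hE.2 ⟨fun v => ?_, fun v hv => ?_⟩
    · rw [hxw, rr]
      have e : v + γ a v • w + γ w v • a + (lam * γ a v) • a + v
          = γ a v • w + γ w v • a + (lam * γ a v) • a + (v + v) := by abel
      rw [e, add_self, add_zero]
      exact A.U0.add_mem (A.U0.add_mem (A.U0.smul_mem _ hwU) (A.U0.smul_mem _ A.a_mem_U0))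
        (A.U0.smul_mem _ A.a_mem_U0)
    · rw [hxw, rr, hv a A.a_mem_U0, hv w hwU]
      simp
  -- `E ∩ L` is trivial
  have hEL1 : ∀ n ∈ E ⊓ L, n = 1 := by
    rcases A.L_simple (E ⊓ L) inf_le_right
      (fun l hl n hn' => ⟨hEL l hl n hn'.1, hn.conj_mem n hn'.2 l⟩) with h1 | h1
    · exfalso
      have h2 : ∀ l ∈ L, l * l = 1 := by
        intro l hl
        rw [← h1] at hl
        exact hE2 l hl.1
      have h3 : ⁅L, L⁆ ≤ ⊥ := by
        rw [Subgroup.commutator_le]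
        intro g hg k hk
        have i1 := eq_inv_of_mul_eq_one_left (h2 g hg)
        have i2 := eq_inv_of_mul_eq_one_left (h2 k hk)
        have i3 := h2 (g * k) (mul_mem hg hk)
        rw [Subgroup.mem_bot, commutatorElement_def, ← i1, ← i2, ← i3]
        group
      rw [A.L_perf] at h3
      have h4 : l₀ = 1 := Subgroup.mem_bot.1 (h3 hl₀)
      apply hm
      rw [hw, h4, A.σ_one]
    · intro n hn'
      exact A.L_odd n hn'.2 (fun l hl => h1 n hn' l hl) (hE2 n hn'.1)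
  have hx1 : x = 1 := by
    apply A.cen x hx
    intro l hl
    have h1 : l * x * l⁻¹ * x⁻¹ ∈ E ⊓ L := by
      refine Subgroup.mem_inf.2 ⟨E.mul_mem (hEL l hl x hxE) (E.inv_mem hxE), ?_⟩
      have h2 := L.mul_mem hl (hn.conj_mem l⁻¹ (L.inv_mem hl) x)
      have e : l * x * l⁻¹ * x⁻¹ = l * (x * l⁻¹ * x⁻¹) := by group
      rw [e]; exact h2
    have h2 := hEL1 _ h1
    have h3 : l * x = (l * x * l⁻¹ * x⁻¹) * (x * l) := by group
    rw [h3, h2, one_mul]
  obtain ⟨y, h1, h2⟩ := A.sep hw0 hm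
  have h3 := hxw y
  rw [hx1, A.σ_one, rr, h1, zero_smul, add_zero, mul_zero, zero_smul, add_zero, A.symm w y, h2, one_smul] at h3
  exact A.a_ne (left_eq_add.1 h3)

/-- the vectors orthogonal to `a^L` are `0` -/
theorem perp_L (A : AB σ γ a X L) {v : U} (hv : ∀ u ∈ A.U0, γ u v = 0) : v = 0 := by
  by_contra h0
  obtain ⟨l, hl, hl1⟩ := A.exists_off
  have hlU : σ l a ∈ A.U0 := Submodule.subset_span ⟨l, hl, rfl⟩
  have hva : v ≠ a := by
    rintro rfl
    have := hv _ hlU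
    rw [A.symm, hl1] at this
    exact absurd this (by decide)
  have := A.finite
  obtain ⟨y, h1, h2⟩ := A.sep h0 hva
  obtain ⟨x, hx, h3⟩ := A.X_all (γ y) (by rw [A.symm]; exact h1)
  have h4 := h3 v (hv a A.a_mem_U0)
  rw [h2, one_smul] at h4
  -- `σ x v ⊥ U0`
  have h5 : γ (σ l a) (σ x v) = 0 := by
    rw [← A.σ_inv' x (σ l a), A.iso]
    exact hv _ (A.U0_X (inv_mem hx) hlU)
  rw [h4, map_add, hv _ hlU, zero_add, A.symm, hl1] at h5
  exact absurd h5 (by decide)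

theorem U0_top (A : AB σ γ a X L) : A.U0 = ⊤ := by
  have := A.finite
  by_contra h
  obtain ⟨v, -, hv⟩ := SetLike.exists_of_lt (lt_top_iff_ne_top.2 h)
  obtain ⟨y, h1, h2⟩ := sep_of_nondeg A.nondeg hv
  have h3 : y = 0 := A.perp_L (fun u hu => by rw [A.symm]; exact h2 u hu)
  rw [h3] at h1
  simp at h1

theorem alt (A : AB σ γ a X L) (v : U) : γ v v = 0 := by
  let K : Submodule (ZMod 2) U :=
    { carrier := {v | γ v v = 0}
      zero_mem' := by simp
      add_mem' := by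
        intro u v hu hv
        have hu' : γ u u = 0 := hu
        have hv' : γ v v = 0 := hv
        show γ (u + v) (u + v) = 0
        rw [map_add, map_add, LinearMap.add_apply, LinearMap.add_apply, hu', hv', zero_add, add_zero, A.symm v u,
          z2_add]
      smul_mem' := by
        intro c u hu
        have hu' : γ u u = 0 := hu
        show γ (c • u) (c • u) = 0
        rw [map_smul, map_smul, LinearMap.smul_apply, hu', smul_zero, smul_zero] }
  have h : A.U0 ≤ K := by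
    rw [U0, Submodule.span_le]
    rintro _ ⟨l, hl, rfl⟩
    show γ (σ l a) (σ l a) = 0
    rw [A.iso, A.a_iso]
  have h2 : v ∈ A.U0 := by rw [A.U0_top]; exact Submodule.mem_top
  exact h h2

theorem sy (A : AB σ γ a X L) : Sy γ := ⟨A.alt, A.nondeg⟩

/-! ### the function `f` -/

/-- `rr u w l` is induced by an element of `X_u` -/
def PP (σ : M →* (U ≃ₗ[ZMod 2] U)) (γ : LinearMap.BilinForm (ZMod 2) U) (a : U) (X : Subgroup M) (u w : U)
    (l : ZMod 2) : Prop :=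
  ∃ m x, x ∈ X ∧ σ m a = u ∧ ∀ v, σ (m * x * m⁻¹) v = rr γ u w l v

theorem conj_form (A : AB σ γ a X L) {x : M} {u w : U} {l : ZMod 2} (m : M) (h : ∀ v, σ x v = rr γ u w l v)
    (v : U) : σ (m * x * m⁻¹) v = rr γ (σ m u) (σ m w) l v := by
  rw [map_mul, map_mul, map_inv]
  exact rr_conj (A.iso m) h v

theorem PP_a (A : AB σ γ a X L) {w : U} (_hw : γ a w = 0) {l : ZMod 2} :
    PP σ γ a X a w l ↔ ∃ x ∈ X, ∀ v, σ x v = rr γ a w l v := by
  constructor
  · rintro ⟨m, x, hx, hm, h⟩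
    exact ⟨m * x * m⁻¹, A.X_norm m hm x hx, h⟩
  · rintro ⟨x, hx, h⟩
    exact ⟨1, x, hx, A.σ_one a, fun v => by rw [one_mul, inv_one, mul_one]; exact h v⟩

theorem PP_eqv (A : AB σ γ a X L) (m : M) {u w : U} {l : ZMod 2} (h : PP σ γ a X u w l) :
    PP σ γ a X (σ m u) (σ m w) l := by
  obtain ⟨k, x, hx, rfl, h⟩ := h
  refine ⟨m * k, x, hx, A.σ_mul m k a, fun v => ?_⟩
  have e : m * k * x * (m * k)⁻¹ = m * (k * x * k⁻¹) * m⁻¹ := by group
  rw [e]
  exact A.conj_form m h v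

theorem PP_eqv_iff (A : AB σ γ a X L) (m : M) {u w : U} {l : ZMod 2} :
    PP σ γ a X (σ m u) (σ m w) l ↔ PP σ γ a X u w l := by
  refine ⟨fun h => ?_, A.PP_eqv m⟩
  have := A.PP_eqv m⁻¹ h
  rwa [A.σ_inv, A.σ_inv] at this

theorem PP_uniq (A : AB σ γ a X L) {u w : U} (hu : ∃ m, u = σ m a) (hw : γ u w = 0) {l l' : ZMod 2}
    (h : PP σ γ a X u w l) (h' : PP σ γ a X u w l') : l = l' := by
  obtain ⟨m, rfl⟩ := hu
  have e : w = σ m (σ m⁻¹ w) := (A.σ_inv' m w).symm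
  rw [e] at h h' hw
  rw [A.iso] at hw
  rw [A.PP_eqv_iff, A.PP_a hw] at h h'
  obtain ⟨x, hx, h1⟩ := h
  obtain ⟨y, hy, h2⟩ := h'
  exact (A.X_uniq hw hx hy h1 h2).2

theorem PP_ex (A : AB σ γ a X L) {u w : U} (hu : ∃ m, u = σ m a) (hw : γ u w = 0) :
    ∃ l, PP σ γ a X u w l := by
  obtain ⟨m, rfl⟩ := hu
  have e : w = σ m (σ m⁻¹ w) := (A.σ_inv' m w).symm
  rw [e] at hw ⊢
  rw [A.iso] at hw
  obtain ⟨x, hx, l, h⟩ := A.X_ex hw
  exact ⟨l, (A.PP_eqv_iff m).2 ((A.PP_a hw).2 ⟨x, hx, h⟩)⟩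

open Classical in
/-- the value `f u w` -/
noncomputable def ff (σ : M →* (U ≃ₗ[ZMod 2] U)) (γ : LinearMap.BilinForm (ZMod 2) U) (a : U) (X : Subgroup M)
    (u w : U) : ZMod 2 := if PP σ γ a X u w 1 then 1 else 0

theorem ff_spec (A : AB σ γ a X L) {u w : U} (hu : ∃ m, u = σ m a) (hw : γ u w = 0) :
    PP σ γ a X u w (ff σ γ a X u w) := by
  obtain ⟨l, hl⟩ := A.PP_ex hu hw
  by_cases h : PP σ γ a X u w 1
  · rw [ff, if_pos h]; exact h
  · rw [ff, if_neg h]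
    rcases z2 l with rfl | rfl
    · exact hl
    · exact absurd hl h

theorem ff_eq (A : AB σ γ a X L) {u w : U} (hu : ∃ m, u = σ m a) (hw : γ u w = 0) {l : ZMod 2}
    (h : PP σ γ a X u w l) : ff σ γ a X u w = l := A.PP_uniq hu hw (A.ff_spec hu hw) h

theorem ff_eqv (A : AB σ γ a X L) (m : M) (u w : U) : ff σ γ a X (σ m u) (σ m w) = ff σ γ a X u w := by
  by_cases h : PP σ γ a X u w 1
  · rw [ff, ff, if_pos h, if_pos ((A.PP_eqv_iff m).2 h)]
  · rw [ff, ff, if_neg h, if_neg (fun h' => h ((A.PP_eqv_iff m).1 h'))]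

theorem ff_a_self (A : AB σ γ a X L) : ff σ γ a X a a = 0 := by
  apply A.ff_eq ⟨1, (A.σ_one a).symm⟩ A.a_iso
  refine (A.PP_a A.a_iso).2 ⟨1, one_mem _, fun v => ?_⟩
  rw [A.σ_one, rr, zero_mul, zero_smul, add_zero]
  calc v = v + (γ a v • a + γ a v • a) := by rw [add_self, add_zero]
    _ = _ := by rw [add_assoc]

theorem ff_a_add (A : AB σ γ a X L) {w w' : U} (hw : γ a w = 0) (hw' : γ a w' = 0) :
    ff σ γ a X a (w + w') = ff σ γ a X a w + ff σ γ a X a w' + γ w w' := by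
  have ha : ∃ m, a = σ m a := ⟨1, (A.σ_one a).symm⟩
  obtain ⟨x, hx, h⟩ := (A.PP_a hw).1 (A.ff_spec ha hw)
  obtain ⟨y, hy, h'⟩ := (A.PP_a hw').1 (A.ff_spec ha hw')
  have hs : γ a (w + w') = 0 := by rw [map_add, hw, hw', add_zero]
  apply A.ff_eq ha hs
  refine (A.PP_a hs).2 ⟨x * y, mul_mem hx hy, fun v => ?_⟩
  rw [A.σ_mul, h, h', rr_rr A.a_iso hw' (by rw [A.symm]; exact hw)]

/-- the family of a subgroup `N ≥ L, X` -/
theorem ffFam (A : AB σ γ a X L) {N : Subgroup M} (hL : L ≤ N) (hX : X ≤ N) :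
    FF γ {u | ∃ n ∈ N, u = σ n a} (ff σ γ a X) (N.map σ) where
  sy := A.sy
  card := A.card
  zero := by
    rintro ⟨n, -, h⟩
    exact A.a_ne ((LinearEquiv.map_eq_zero_iff _).1 h.symm)
  span := by
    rw [eq_top_iff, ← A.U0_top, U0]
    apply Submodule.span_mono
    rintro _ ⟨l, hl, rfl⟩
    exact ⟨l, hL hl, rfl⟩
  iso := by
    rintro _ ⟨n, -, rfl⟩ u v
    exact A.iso n u v
  mem := by
    rintro _ ⟨n, hn, rfl⟩ _ ⟨k, hk, rfl⟩
    exact ⟨n * k, mul_mem hn hk, (A.σ_mul n k a).symm⟩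
  trans := by
    rintro _ ⟨n, hn, rfl⟩ _ ⟨k, hk, rfl⟩
    refine ⟨σ (k * n⁻¹), ⟨_, mul_mem hk (inv_mem hn), rfl⟩, ?_⟩
    rw [A.σ_mul, A.σ_inv]
  f_add := by
    rintro _ ⟨n, -, rfl⟩ w w' hw hw'
    have e : w = σ n (σ n⁻¹ w) := (A.σ_inv' n w).symm
    have e' : w' = σ n (σ n⁻¹ w') := (A.σ_inv' n w').symm
    rw [e, e', ← map_add, A.ff_eqv, A.ff_eqv, A.ff_eqv, A.iso]
    rw [e, A.iso] at hw
    rw [e', A.iso] at hw'
    exact A.ff_a_add hw hw'
  f_self := by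
    rintro _ ⟨n, -, rfl⟩
    rw [A.ff_eqv, A.ff_a_self]
  f_eqv := by
    rintro _ ⟨n, -, rfl⟩ u _ w _
    exact A.ff_eqv n u w
  r_mem := by
    rintro _ ⟨n, hn, rfl⟩ w hw
    have e : w = σ n (σ n⁻¹ w) := (A.σ_inv' n w).symm
    rw [e, A.iso] at hw
    obtain ⟨x, hx, h⟩ := (A.PP_a hw).1 (A.ff_spec ⟨1, (A.σ_one a).symm⟩ hw)
    refine ⟨σ (n * x * n⁻¹), ⟨_, mul_mem (mul_mem hn (hX hx)) (inv_mem hn), rfl⟩, fun v => ?_⟩
    have h2 := A.conj_form n h v
    rw [h2]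
    nth_rewrite 4 [e]
    nth_rewrite 3 [e]
    rw [A.ff_eqv]

/-- **the quadratic form** -/
theorem exists_Q (A : AB σ γ a X L) : ∃ Q : U → ZMod 2, IsQ γ Q ∧
    (∀ v, (∃ l ∈ L, v = σ l a) ↔ v ≠ 0 ∧ Q v = 0) ∧ (∀ m v, Q (σ m v) = Q v) ∧
    (∀ x ∈ X, ∃ w, γ a w = 0 ∧ ∀ v, σ x v = rr γ a w (Q w) v) ∧
    ∀ w, γ a w = 0 → ∃ x ∈ X, ∀ v, σ x v = rr γ a w (Q w) v := by
  have hn := A.L_norm
  obtain ⟨Q, h1, h2, h3, h4⟩ := (A.ffFam (N := ⊤) le_top le_top).exists_Q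
  obtain ⟨Q', h1', h2', h3', h4'⟩ := (A.ffFam (N := L ⊔ X) le_sup_left le_sup_right).exists_Q
  obtain ⟨l₀, hl₀, hc⟩ := A.exists_off
  -- `a^(L X) = a^L`
  have hLX : ∀ v, v ∈ {u | ∃ n ∈ L ⊔ X, u = σ n a} ↔ ∃ l ∈ L, v = σ l a := by
    intro v
    constructor
    · rintro ⟨n, hn', rfl⟩
      obtain ⟨l, hl, x, hx, rfl⟩ := Subgroup.mem_sup_of_normal_left.1 hn'
      exact ⟨l, hl, by rw [A.σ_mul, A.X_a hx]⟩
    · rintro ⟨l, hl, rfl⟩
      exact ⟨l, Subgroup.mem_sup_left hl, rfl⟩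
  have ha : a ∈ {u | ∃ n ∈ (⊤ : Subgroup M), u = σ n a} := ⟨1, Subgroup.mem_top _, (A.σ_one a).symm⟩
  have ha' : a ∈ {u | ∃ n ∈ L ⊔ X, u = σ n a} := ⟨1, one_mem _, (A.σ_one a).symm⟩
  have hc1 : Q (σ l₀ a) = 0 := ((h2 _).1 ⟨l₀, Subgroup.mem_top _, rfl⟩).2
  have hc2 : Q' (σ l₀ a) = 0 := ((h2' _).1 ⟨l₀, Subgroup.mem_sup_left hl₀, rfl⟩).2
  have hQQ : ∀ v, Q v = Q' v := by
    have hp : ∀ v, γ a v = 0 → Q v = Q' v := fun v hv => by
      rw [← h4 a ha v hv, ← h4' a ha' v hv]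
    intro v
    rcases z2 (γ a v) with h | h
    · exact hp v h
    · have e : v = σ l₀ a + (v + σ l₀ a) := by
        rw [add_comm v, ← add_assoc, add_self, zero_add]
      rw [e, h1.add, h1'.add, hc1, hc2, hp (v + σ l₀ a) (by rw [map_add, h, hc]; decide)]
  refine ⟨Q, h1, fun v => ?_, fun m v => h3 (σ m) ⟨m, Subgroup.mem_top _, rfl⟩ v, fun x hx => ?_, fun w hw => ?_⟩
  · rw [← hLX, h2', hQQ]
  · obtain ⟨w, l, hw, h⟩ := A.X_form hx
    refine ⟨w, hw, ?_⟩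
    have h5 : ff σ γ a X a w = l := A.ff_eq ⟨1, (A.σ_one a).symm⟩ hw ((A.PP_a hw).2 ⟨x, hx, h⟩)
    rw [← h4 a ha w hw, h5]
    exact h
  · obtain ⟨x, hx, h⟩ := (A.PP_a hw).1 (A.ff_spec ⟨1, (A.σ_one a).symm⟩ hw)
    refine ⟨x, hx, ?_⟩
    rw [← h4 a ha w hw]
    exact h

end AB

end Cfsg.Agent.Omega.EH3.RowS
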