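import Cfsg.Agent.Omega.EH3.RowS.Gen

/-!
# EH3, row S (bb OMEGA #14257, #14554): `C_H(L) = ⟨d, t⟩`, `H = ⟨d, t⟩ × H₀` (helper754)

`SD ρ a d t X L`: the group `H` acts faithfully on `V`; `d` has order 3, `1 + d + d² = 0` on `V`, `t` is an involution
inverting `d`, `t a = a`, `d, t` commute with the normal subgroup `L`, `X ≤ L`, `C_V(X) = {0, a, da, a + da}`, an element
commuting with `L` and fixing `a` and `da` is trivial.

`SD.mem_of_comm`: `C_H(L) = {1, d, d⁻¹, t, dt, d⁻¹t}`; `SD.exists_split`: `H = ⟨d,t⟩ · C_H(⟨d,t⟩)`.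
-/

set_option autoImplicit false

namespace Cfsg.Agent.Omega.EH3.RowS

variable {H V : Type*} [Group H] [AddCommGroup V] [Module (ZMod 2) V]

/-- the situation -/
structure SD (ρ : H →* (V ≃ₗ[ZMod 2] V)) (a : V) (d t : H) (X L : Subgroup H) : Prop where
  a_ne : a ≠ 0
  dd : ∀ v, ρ d (ρ d v) = v + ρ d v
  d3 : d * d * d = 1
  t2 : t * t = 1
  tdt : t * d * t⁻¹ = d⁻¹
  ta : ρ t a = a
  norm : L.Normal
  cd : ∀ l ∈ L, l * d = d * l
  ct : ∀ l ∈ L, l * t = t * l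
  le : X ≤ L
  fix : ∀ v, (∀ x ∈ X, ρ x v = v) → v = 0 ∨ v = a ∨ v = ρ d a ∨ v = a + ρ d a
  eq_one : ∀ g : H, (∀ l ∈ L, l * g = g * l) → ρ g a = a → ρ g (ρ d a) = ρ d a → g = 1

namespace SD

variable {ρ : H →* (V ≃ₗ[ZMod 2] V)} {a : V} {d t : H} {X L : Subgroup H}

theorem ρ_mul (_S : SD ρ a d t X L) (g h : H) (v : V) : ρ (g * h) v = ρ g (ρ h v) := by
  rw [map_mul]; rfl

theorem ρ_one (_S : SD ρ a d t X L) (v : V) : ρ 1 v = v := by
  rw [map_one]; rfl

theorem ρ_inv (S : SD ρ a d t X L) (g : H) (v : V) : ρ g⁻¹ (ρ g v) = v := by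
  rw [← S.ρ_mul, inv_mul_cancel, S.ρ_one]

theorem d_inv (S : SD ρ a d t X L) : d⁻¹ = d * d := by
  rw [inv_eq_iff_mul_eq_one, ← mul_assoc]; exact S.d3

theorem ρ_d_inv (S : SD ρ a d t X L) (v : V) : ρ d⁻¹ v = v + ρ d v := by
  rw [S.d_inv, S.ρ_mul, S.dd]

theorem t_inv (S : SD ρ a d t X L) : t⁻¹ = t := inv_eq_of_mul_eq_one_left S.t2

theorem td (S : SD ρ a d t X L) : t * d = d⁻¹ * t := by
  have h := S.tdt
  rw [mul_inv_eq_iff_eq_mul] at h
  exact h

theorem ρ_t_d (S : SD ρ a d t X L) : ρ t (ρ d a) = a + ρ d a := by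
  rw [← S.ρ_mul, S.td, S.ρ_mul, S.ta, S.ρ_d_inv]

theorem ρd_ne (S : SD ρ a d t X L) : ρ d a ≠ 0 := fun h => S.a_ne ((LinearEquiv.map_eq_zero_iff _).1 h)

theorem ρd_ne_a (S : SD ρ a d t X L) : ρ d a ≠ a := by
  intro h
  have h1 := S.dd a
  rw [h, h, add_self] at h1
  exact S.a_ne h1

theorem inv_comm (_S : SD ρ a d t X L) {g : H} (h : ∀ l ∈ L, l * g = g * l) : ∀ l ∈ L, l * g⁻¹ = g⁻¹ * l := by
  intro l hl
  have := h l hl
  calc l * g⁻¹ = g⁻¹ * (g * l) * g⁻¹ := by group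
    _ = g⁻¹ * (l * g) * g⁻¹ := by rw [this]
    _ = _ := by group

theorem mul_comm' (_S : SD ρ a d t X L) {g k : H} (h : ∀ l ∈ L, l * g = g * l) (h' : ∀ l ∈ L, l * k = k * l) :
    ∀ l ∈ L, l * (g * k) = (g * k) * l := by
  intro l hl
  rw [← mul_assoc, h l hl, mul_assoc, h' l hl, mul_assoc]

/-- the image of `a` and `d a` under an element commuting with `L` -/
theorem image (S : SD ρ a d t X L) {g : H} (h : ∀ l ∈ L, l * g = g * l) {v : V} (hv : v ≠ 0)
    (hfix : ∀ x ∈ X, ρ x v = v) : ρ g v = a ∨ ρ g v = ρ d a ∨ ρ g v = a + ρ d a := by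
  have h1 : ρ g v = 0 ∨ ρ g v = a ∨ ρ g v = ρ d a ∨ ρ g v = a + ρ d a := by
    apply S.fix
    intro x hx
    rw [← S.ρ_mul, h x (S.le hx), S.ρ_mul, hfix x hx]
  rcases h1 with h1 | h1
  · exact absurd ((LinearEquiv.map_eq_zero_iff _).1 h1) hv
  · exact h1

theorem mem_of_fix (S : SD ρ a d t X L) (hXa : ∀ x ∈ X, ρ x a = a) {g : H} (h : ∀ l ∈ L, l * g = g * l)
    (hga : ρ g a = a) : g = 1 ∨ g = t := by
  have hXd : ∀ x ∈ X, ρ x (ρ d a) = ρ d a := by
    intro x hx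
    rw [← S.ρ_mul, S.cd x (S.le hx), S.ρ_mul, hXa x hx]
  rcases S.image h S.ρd_ne hXd with h1 | h1 | h1
  · exfalso
    have h2 : ρ g (ρ d a) = ρ g a := by rw [h1, hga]
    exact S.ρd_ne_a ((ρ g).injective h2)
  · left; exact S.eq_one g h hga h1
  · right
    have h2 := S.eq_one (t * g) (S.mul_comm' S.ct h) (by rw [S.ρ_mul, hga, S.ta])
      (by rw [S.ρ_mul, h1, map_add, S.ta, S.ρ_t_d, ← add_assoc, add_self, zero_add])
    rw [← S.t_inv, inv_mul_eq_one] at h2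
    exact h2.symm

/-- **`C_H(L) = ⟨d, t⟩`** -/
theorem mem_of_comm (S : SD ρ a d t X L) (hXa : ∀ x ∈ X, ρ x a = a) {g : H} (h : ∀ l ∈ L, l * g = g * l) :
    g = 1 ∨ g = t ∨ g = d ∨ g = d * t ∨ g = d⁻¹ ∨ g = d⁻¹ * t := by
  rcases S.image h S.a_ne hXa with h1 | h1 | h1
  · rcases S.mem_of_fix hXa h h1 with h2 | h2
    · exact Or.inl h2
    · exact Or.inr (Or.inl h2)
  · -- `g a = d a`
    have h3 := S.mem_of_fix hXa (S.mul_comm' (S.inv_comm S.cd) h) (by rw [S.ρ_mul, h1, S.ρ_inv])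
    rcases h3 with h3 | h3
    · rw [inv_mul_eq_one] at h3
      exact Or.inr (Or.inr (Or.inl h3.symm))
    · rw [inv_mul_eq_iff_eq_mul] at h3
      exact Or.inr (Or.inr (Or.inr (Or.inl h3)))
  · have h3 := S.mem_of_fix hXa (S.mul_comm' S.cd h) (by
      rw [S.ρ_mul, h1, map_add, S.dd, add_comm (ρ d a), add_assoc, add_self, add_zero])
    rcases h3 with h3 | h3
    · have : g = d⁻¹ := eq_inv_of_mul_eq_one_right h3
      exact Or.inr (Or.inr (Or.inr (Or.inr (Or.inl this))))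
    · have : g = d⁻¹ * t := by rw [← h3]; group
      exact Or.inr (Or.inr (Or.inr (Or.inr (Or.inr this))))

theorem comm_of_conj (S : SD ρ a d t X L) {k : H} (hk : ∀ l ∈ L, l * k = k * l) (h : H) :
    ∀ l ∈ L, l * (h * k * h⁻¹) = (h * k * h⁻¹) * l := by
  intro l hl
  have h1 := hk _ (S.norm.conj_mem l hl h⁻¹)
  rw [inv_inv] at h1
  calc l * (h * k * h⁻¹) = h * ((h⁻¹ * l * h) * k) * h⁻¹ := by group
    _ = h * (k * (h⁻¹ * l * h)) * h⁻¹ := by rw [h1]
    _ = _ := by group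

/-- **`H = ⟨d, t⟩ C_H(⟨d, t⟩)`** -/
theorem exists_split (S : SD ρ a d t X L) (hXa : ∀ x ∈ X, ρ x a = a) (h : H) :
    ∃ s ∈ Subgroup.closure {d, t}, ∃ k : H, k * d = d * k ∧ k * t = t * k ∧ h = s * k := by
  have hd : d ∈ Subgroup.closure ({d, t} : Set H) := Subgroup.subset_closure (by simp)
  have ht : t ∈ Subgroup.closure ({d, t} : Set H) := Subgroup.subset_closure (by simp)
  have hd1 : d ≠ 1 := by
    intro h0
    apply S.ρd_ne_a
    rw [h0, S.ρ_one]
  have ht1 : t ≠ 1 := by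
    intro h0
    have h1 := S.tdt
    rw [h0, one_mul, inv_one, mul_one, S.d_inv] at h1
    exact hd1 (left_eq_mul.1 h1)
  have hdd : d⁻¹ ≠ d := by
    intro h0
    rw [S.d_inv] at h0
    exact hd1 (mul_eq_left.1 h0)
  -- the conjugates of `d`
  have key : ∀ h : H, h * d * h⁻¹ = d → ∃ s ∈ Subgroup.closure ({d, t} : Set H), ∃ k : H,
      k * d = d * k ∧ k * t = t * k ∧ h = s * k := by
    intro h hh
    have hhd : h * d = d * h := mul_inv_eq_iff_eq_mul.1 hh
    -- `h t h⁻¹ ∈ {t, dt, d⁻¹t}`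
    have h2 : (h * t * h⁻¹) * (h * t * h⁻¹) = 1 := by
      have : (h * t * h⁻¹) * (h * t * h⁻¹) = h * (t * t) * h⁻¹ := by group
      rw [this, S.t2]; group
    have hne : h * t * h⁻¹ ≠ 1 := by
      intro h0
      apply ht1
      rw [mul_inv_eq_one] at h0
      exact mul_eq_left.1 h0
    rcases S.mem_of_comm hXa (S.comm_of_conj S.ct h) with h3 | h3 | h3 | h3 | h3 | h3
    · exact absurd h3 hne
    · exact ⟨1, one_mem _, h, hhd, mul_inv_eq_iff_eq_mul.1 h3, by rw [one_mul]⟩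
    · exfalso
      rw [h3] at h2
      exact hdd (inv_eq_of_mul_eq_one_left h2)
    · -- `h t h⁻¹ = d t = d⁻¹ t d`: `k = d h`
      refine ⟨d⁻¹, inv_mem hd, d * h, ?_, ?_, by group⟩
      · rw [mul_assoc, hhd]
      · have h4 : h * t = d * t * h := mul_inv_eq_iff_eq_mul.1 h3
        have h5 : d * d * t = t * d := by rw [S.td, S.d_inv]
        calc d * h * t = d * (h * t) := by group
          _ = d * d * t * h := by rw [h4]; group
          _ = t * d * h := by rw [h5]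
          _ = _ := by group
    · exfalso
      rw [h3] at h2
      apply hdd
      have := inv_eq_of_mul_eq_one_left h2
      rw [inv_inv] at this
      exact this.symm
    · -- `h t h⁻¹ = d⁻¹ t`: `k = d⁻¹ h`
      refine ⟨d, hd, d⁻¹ * h, ?_, ?_, by group⟩
      · calc d⁻¹ * h * d = d⁻¹ * (h * d) := by group
          _ = d⁻¹ * (d * h) := by rw [hhd]
          _ = _ := by group
      · have h4 : h * t = d⁻¹ * t * h := mul_inv_eq_iff_eq_mul.1 h3
        have h5 : d⁻¹ * d⁻¹ * t = t * d⁻¹ := by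
          have h6 : t * d⁻¹ = d * t := by
            have := S.td
            calc t * d⁻¹ = d * (d⁻¹ * t) * d⁻¹ := by group
              _ = d * (t * d) * d⁻¹ := by rw [this]
              _ = _ := by group
          have h7 : d⁻¹ * d⁻¹ = d := by
            rw [← mul_inv_rev, ← S.d_inv, inv_inv]
          rw [h6, h7]
        calc d⁻¹ * h * t = d⁻¹ * (h * t) := by group
          _ = d⁻¹ * d⁻¹ * t * h := by rw [h4]; group
          _ = t * d⁻¹ * h := by rw [h5]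
          _ = _ := by group
  rcases S.mem_of_comm hXa (S.comm_of_conj S.cd h) with h3 | h3 | h3 | h3 | h3 | h3
  · exfalso
    apply hd1
    rw [mul_inv_eq_one] at h3
    exact mul_eq_left.1 h3
  · exfalso
    -- `d³ = 1`, `t² = 1`
    have h4 : t * t * t = 1 := by
      rw [← h3]
      have : (h * d * h⁻¹) * (h * d * h⁻¹) * (h * d * h⁻¹) = h * (d * d * d) * h⁻¹ := by group
      rw [this, S.d3]; group
    rw [S.t2, one_mul] at h4
    exact ht1 h4
  · exact key h h3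
  · exfalso
    have h4 : (d * t) * (d * t) * (d * t) = 1 := by
      rw [← h3]
      have : (h * d * h⁻¹) * (h * d * h⁻¹) * (h * d * h⁻¹) = h * (d * d * d) * h⁻¹ := by group
      rw [this, S.d3]; group
    have h5 : (d * t) * (d * t) = 1 := by
      calc (d * t) * (d * t) = d * (t * d) * t := by group
        _ = d * (d⁻¹ * t) * t := by rw [S.td]
        _ = t * t := by group
        _ = 1 := S.t2
    rw [h5, one_mul] at h4
    rw [mul_eq_one_iff_eq_inv, S.t_inv] at h4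
    have h6 := S.d3
    rw [h4, S.t2, one_mul] at h6
    exact ht1 h6
  · -- `h d h⁻¹ = d⁻¹`
    have h4 : (t * h) * d * (t * h)⁻¹ = d := by
      have e : (t * h) * d * (t * h)⁻¹ = t * (h * d * h⁻¹) * t⁻¹ := by group
      rw [e, h3]
      have : t * d⁻¹ * t⁻¹ = (t * d * t⁻¹)⁻¹ := by group
      rw [this, S.tdt, inv_inv]
    obtain ⟨s, hs, k, h5, h6, h7⟩ := key _ h4
    refine ⟨t⁻¹ * s, mul_mem (inv_mem ht) hs, k, h5, h6, ?_⟩
    rw [mul_assoc, ← h7]; group
  · exfalso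
    have h4 : (d⁻¹ * t) * (d⁻¹ * t) * (d⁻¹ * t) = 1 := by
      rw [← h3]
      have : (h * d * h⁻¹) * (h * d * h⁻¹) * (h * d * h⁻¹) = h * (d * d * d) * h⁻¹ := by group
      rw [this, S.d3]; group
    have h5 : (d⁻¹ * t) * (d⁻¹ * t) = 1 := by
      calc (d⁻¹ * t) * (d⁻¹ * t) = (t * d) * (d⁻¹ * t) := by rw [S.td]
        _ = t * t := by group
        _ = 1 := S.t2
    rw [h5, one_mul] at h4
    have h6 : t = d := by
      calc t = d * (d⁻¹ * t) := by group
        _ = d := by rw [h4, mul_one]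
    have h8 := S.d3
    rw [← h6, S.t2, one_mul] at h8
    exact ht1 h8

end SD

end Cfsg.Agent.Omega.EH3.RowS
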