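import Cfsg.Agent.Omega.EH3.RowS.Gen

/-!
# EH3, row S: `O(U,Q)` is generated by reflections and Siegel maps (helper754)

`Rf.tv v` : the reflection with centre `v` (`Q v = 1`); `Rf.sg u w` : the Siegel map (`Q u = 0`, `u ⊥ w`);
`Rf.Gam γ Q` : the subgroup generated by all of them.

`Rf.mem_Gam` : every linear isometry of `Q` is in `Gam γ Q` (`γ` nondegenerate).
`Rf.dich` : in dimension `≥ 5`, if `Ω` contains all Siegel maps, then `g ∈ Ω` or all `t_v g ∈ Ω`.
`QD.sq_mem` : `m * m ∈ L` for all `m : M`.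
-/

set_option autoImplicit false

namespace Cfsg.Agent.Omega.EH3.RowS

variable {U : Type*} [AddCommGroup U] [Module (ZMod 2) U]

namespace Rf

variable {γ : LinearMap.BilinForm (ZMod 2) U} {Q : U → ZMod 2}

/-- the reflection -/
def tvf (γ : LinearMap.BilinForm (ZMod 2) U) (v : U) : U →ₗ[ZMod 2] U where
  toFun x := x + γ v x • v
  map_add' x y := by rw [map_add, add_smul]; abel
  map_smul' c x := by rw [map_smul, smul_assoc, smul_add, RingHom.id_apply]

theorem tvf_apply (v x : U) : tvf γ v x = x + γ v x • v := rfl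

theorem tvf_tvf (S : Sy γ) (v x : U) : tvf γ v (tvf γ v x) = x := by
  rw [tvf_apply, tvf_apply, map_add, map_smul, S.alt, smul_zero, add_zero, add_assoc, add_self, add_zero]

/-- the reflection as an automorphism -/
def tv (S : Sy γ) (v : U) : U ≃ₗ[ZMod 2] U :=
  LinearEquiv.ofLinearMap (tvf γ v) (tvf γ v) (LinearMap.ext (tvf_tvf S v)) (LinearMap.ext (tvf_tvf S v))

theorem tv_apply (S : Sy γ) (v x : U) : tv S v x = x + γ v x • v := rfl

theorem tv_tv (S : Sy γ) (v : U) : tv S v * tv S v = 1 := LinearEquiv.ext (tvf_tvf S v)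

theorem Q_tv (S : Sy γ) (h : IsQ γ Q) {v : U} (hv : Q v = 1) (x : U) : Q (tv S v x) = Q x := by
  rw [tv_apply, h.add, h.smul, hv, map_smul, smul_eq_mul, S.comm x v, mul_one]
  have h1 : γ v x * γ v x = γ v x := by rcases z2 (γ v x) with h | h <;> rw [h] <;> decide
  rw [h1, add_assoc, z2_add, add_zero]

/-- Siegel map, linear -/
def sgf (γ : LinearMap.BilinForm (ZMod 2) U) (u w : U) (l : ZMod 2) : U →ₗ[ZMod 2] U where
  toFun x := rr γ u w l x
  map_add' x y := by
    simp only [rr, map_add, add_smul, mul_add]; abel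
  map_smul' c x := by
    simp only [rr, map_smul, smul_add, RingHom.id_apply, smul_eq_mul, mul_smul, smul_comm c l]

theorem sgf_sgf (S : Sy γ) {u w : U} (hw : γ u w = 0) (l : ZMod 2) (x : U) :
    sgf γ u w l (sgf γ u w l x) = x := by
  show rr γ u w l (rr γ u w l x) = x
  rw [rr_rr (S.alt u) hw (by rw [S.comm]; exact hw), add_self, S.alt, z2_add, add_zero, rr]
  simp

/-- Siegel map -/
def sg (S : Sy γ) {u w : U} (hw : γ u w = 0) (l : ZMod 2) : U ≃ₗ[ZMod 2] U :=
  LinearEquiv.ofLinearMap (sgf γ u w l) (sgf γ u w l) (LinearMap.ext (sgf_sgf S hw l)) (LinearMap.ext (sgf_sgf S hw l))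

theorem sg_apply (S : Sy γ) {u w : U} (hw : γ u w = 0) (l : ZMod 2) (x : U) : sg S hw l x = rr γ u w l x := rfl

/-- Siegel automorphisms -/
def IsSg (γ : LinearMap.BilinForm (ZMod 2) U) (Q : U → ZMod 2) (g : U ≃ₗ[ZMod 2] U) : Prop :=
  ∃ u w, u ≠ 0 ∧ Q u = 0 ∧ γ u w = 0 ∧ ∀ x, g x = rr γ u w (Q w) x

/-- reflections -/
def IsTv (γ : LinearMap.BilinForm (ZMod 2) U) (Q : U → ZMod 2) (g : U ≃ₗ[ZMod 2] U) : Prop :=
  ∃ v, Q v = 1 ∧ ∀ x, g x = x + γ v x • v

/-- the group generated -/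
def Gam (γ : LinearMap.BilinForm (ZMod 2) U) (Q : U → ZMod 2) : Subgroup (U ≃ₗ[ZMod 2] U) :=
  Subgroup.closure {g | IsTv γ Q g ∨ IsSg γ Q g}

theorem tv_mem (S : Sy γ) {v : U} (hv : Q v = 1) : tv S v ∈ Gam γ Q :=
  Subgroup.subset_closure (Or.inl ⟨v, hv, tv_apply S v⟩)

theorem sg_mem (S : Sy γ) {u w : U} (hu : u ≠ 0) (hQ : Q u = 0) (hw : γ u w = 0) : sg S hw (Q w) ∈ Gam γ Q :=
  Subgroup.subset_closure (Or.inr ⟨u, w, hu, hQ, hw, sg_apply S hw (Q w)⟩)

/-- elements fixing `W^⊥` pointwise and preserving `Q` -/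
def Fx (γ : LinearMap.BilinForm (ZMod 2) U) (Q : U → ZMod 2) (W : Submodule (ZMod 2) U)
    (g : U ≃ₗ[ZMod 2] U) : Prop :=
  (∀ x, Q (g x) = Q x) ∧ ∀ x, (∀ w ∈ W, γ w x = 0) → g x = x

theorem Fx.mul {W : Submodule (ZMod 2) U} {g k : U ≃ₗ[ZMod 2] U} (hk : Fx γ Q W k) (hg : Fx γ Q W g) :
    Fx γ Q W (k * g) := by
  refine ⟨fun x => ?_, fun x hx => ?_⟩
  · rw [LinearEquiv.mul_apply, hk.1, hg.1]
  · rw [LinearEquiv.mul_apply, hg.2 x hx, hk.2 x hx]

theorem Fx.tv (S : Sy γ) (h : IsQ γ Q) {W : Submodule (ZMod 2) U} {v : U} (hv : Q v = 1) (hW : v ∈ W) :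
    Fx γ Q W (Rf.tv S v) :=
  ⟨Q_tv S h hv, fun x hx => by rw [tv_apply, hx v hW, zero_smul, add_zero]⟩

theorem Fx.sg (S : Sy γ) (h : IsQ γ Q) {W : Submodule (ZMod 2) U} {u w : U} (hu : Q u = 0) (hw : γ u w = 0)
    (huW : u ∈ W) (hwW : w ∈ W) : Fx γ Q W (Rf.sg S hw (Q w)) :=
  ⟨fun x => by rw [sg_apply]; exact h.rr S hu hw x, fun x hx => by
    rw [sg_apply, rr, hx u huW, hx w hwW]; simp⟩

theorem iso_of (h : IsQ γ Q) {g : U ≃ₗ[ZMod 2] U} (hg : ∀ x, Q (g x) = Q x) (x y : U) :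
    γ (g x) (g y) = γ x y := by
  have h1 := h.add (g x) (g y)
  rw [← map_add, hg, hg, hg, h.add] at h1
  exact (add_left_cancel h1).symm

/-- nondegenerate subspaces -/
def Nd (γ : LinearMap.BilinForm (ZMod 2) U) (W : Submodule (ZMod 2) U) : Prop :=
  ∀ w ∈ W, (∀ w' ∈ W, γ w w' = 0) → w = 0

theorem sy_of (S : Sy γ) {W : Submodule (ZMod 2) U} (hW : Nd γ W) : Sy (γ.restrict W) where
  alt w := S.alt w
  nondeg w hw := Subtype.ext (hW w w.2 fun w' hw' => hw ⟨w', hw'⟩)

/-- projection to `W` -/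
theorem exists_pr [Finite U] (S : Sy γ) {W : Submodule (ZMod 2) U} (hW : Nd γ W) (x : U) :
    ∃ w ∈ W, ∀ w' ∈ W, γ w' (x + w) = 0 := by
  obtain ⟨w, hw⟩ := (sy_of S hW).exists_rep ((γ x).comp W.subtype)
  refine ⟨w, w.2, fun w' hw' => ?_⟩
  have h1 : γ w w' = γ x w' := hw ⟨w', hw'⟩
  rw [map_add, S.comm w' x, S.comm w' w, h1, z2_add]

/-- `g` preserves `W` -/
theorem Fx.mem [Finite U] (S : Sy γ) (h : IsQ γ Q) {W : Submodule (ZMod 2) U} (hW : Nd γ W) {g : U ≃ₗ[ZMod 2] U}
    (hg : Fx γ Q W g) {w : U} (hw : w ∈ W) : g w ∈ W := by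
  obtain ⟨w₁, hw₁, h1⟩ := exists_pr S hW (g w)
  have h2 : g w + w₁ = 0 := by
    apply S.nondeg
    intro y
    obtain ⟨y₁, hy₁, h3⟩ := exists_pr S hW y
    have e : y = y₁ + (y + y₁) := by rw [add_comm y, ← add_assoc, add_self, zero_add]
    rw [e, map_add, S.comm _ y₁, h1 y₁ hy₁, zero_add, LinearMap.BilinForm.add_left, h3 w₁ hw₁, add_zero]
    have h4 := hg.2 (y + y₁) (fun w' hw' => h3 w' hw')
    rw [← h4, iso_of h hg.1]
    exact h3 w hw
  rw [add_eq_zero.1 h2]; exact hw₁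

theorem eq_one_of [Finite U] (S : Sy γ) {W : Submodule (ZMod 2) U} (hW : Nd γ W) {g : U ≃ₗ[ZMod 2] U}
    (hg : Fx γ Q W g) (h : ∀ w ∈ W, g w = w) : g = 1 := by
  apply LinearEquiv.ext
  intro x
  obtain ⟨w, hw, h1⟩ := exists_pr S hW x
  have e : x = w + (x + w) := by rw [add_comm x, ← add_assoc, add_self, zero_add]
  show g x = x
  rw [e, map_add, h w hw, hg.2 _ h1]

theorem tv_move (S : Sy γ) {x y : U} (hxy : γ x y = 1) : tv S (x + y) y = x := by
  rw [tv_apply, map_add, LinearMap.add_apply, hxy, S.alt, add_zero, one_smul]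
  calc y + (x + y) = x + (y + y) := by abel
    _ = x := by rw [add_self, add_zero]

theorem of_mul {g k : U ≃ₗ[ZMod 2] U} (hk : k ∈ Gam γ Q) (h : k * g ∈ Gam γ Q) : g ∈ Gam γ Q := by
  have h1 := mul_mem (inv_mem hk) h
  rwa [inv_mul_cancel_left] at h1

/-- move a singular vector -/
theorem exists_move [Finite U] (S : Sy γ) (h : IsQ γ Q) {W : Submodule (ZMod 2) U} (hW : Nd γ W) {x y : U}
    (hx : x ∈ W) (hy : y ∈ W) (hx0 : x ≠ 0) (hy0 : y ≠ 0) (hQx : Q x = 0) (hQy : Q y = 0) :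
    ∃ k ∈ Gam γ Q, Fx γ Q W k ∧ k y = x := by
  by_cases hxy : x = y
  · exact ⟨1, one_mem _, ⟨fun _ => rfl, fun _ _ => rfl⟩, hxy.symm⟩
  have one : ∀ x y, x ∈ W → y ∈ W → Q x = 0 → Q y = 0 → γ x y = 1 →
      ∃ k ∈ Gam γ Q, Fx γ Q W k ∧ k y = x := by
    intro x y hx hy hQx hQy h1
    have hQ : Q (x + y) = 1 := by rw [h.add, hQx, hQy, h1]; decide
    exact ⟨tv S (x + y), tv_mem S hQ, Fx.tv S h hQ (W.add_mem hx hy), tv_move S h1⟩
  rcases z2 (γ x y) with h1 | h1
  · -- an intermediate vector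
    obtain ⟨z, hz1, hz2⟩ := (sy_of S hW).exists_two (u := ⟨x, hx⟩) (v := ⟨y, hy⟩)
      (fun h0 => hx0 (congrArg Subtype.val h0)) (fun h0 => hy0 (congrArg Subtype.val h0))
      (fun h0 => hxy (congrArg Subtype.val h0).symm) 1 1
    have hz1' : γ (z : U) x = 1 := hz1
    have hz2' : γ (z : U) y = 1 := hz2
    obtain ⟨z', hz', h2, h3, h4⟩ : ∃ z' ∈ W, γ z' x = 1 ∧ γ z' y = 1 ∧ Q z' = 0 := by
      rcases z2 (Q z) with h2 | h2
      · exact ⟨z, z.2, hz1', hz2', h2⟩
      · refine ⟨z + x, W.add_mem z.2 hx, ?_, ?_, ?_⟩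
        · rw [map_add, LinearMap.add_apply, hz1', S.alt, add_zero]
        · rw [map_add, LinearMap.add_apply, hz2', h1, add_zero]
        · rw [h.add, h2, hQx, hz1']; decide
    obtain ⟨k, hk, hkF, hk'⟩ := one z' y hz' hy h4 hQy h3
    obtain ⟨k2, hk2, hkF2, hk2'⟩ := one x z' hx hz' hQx h4 (by rw [S.comm]; exact h2)
    exact ⟨k2 * k, mul_mem hk2 hk, hkF2.mul hkF, by rw [LinearEquiv.mul_apply, hk', hk2']⟩
  · exact one x y hx hy hQx hQy h1

/-- move a singular vector, fixing `e` -/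
theorem exists_move_fix [Finite U] (S : Sy γ) (h : IsQ γ Q) {W : Submodule (ZMod 2) U} {e f f' : U}
    (he : e ∈ W) (hf : f ∈ W) (hf' : f' ∈ W) (he0 : e ≠ 0) (hQe : Q e = 0) (hQf : Q f = 0) (hQf' : Q f' = 0)
    (hef : γ e f = 1) (hef' : γ e f' = 1) : ∃ k ∈ Gam γ Q, Fx γ Q W k ∧ k f' = f ∧ k e = e := by
  have hes : γ e (f + f') = 0 := by rw [map_add, hef, hef']; decide
  rcases z2 (γ f f') with h1 | h1
  · refine ⟨sg S hes (Q (f + f')), sg_mem S he0 hQe hes, Fx.sg S h hQe hes he (W.add_mem hf hf'), ?_, ?_⟩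
    · rw [sg_apply, rr, hef', one_smul, map_add, LinearMap.add_apply, h1, S.alt, add_zero, zero_smul, add_zero,
        h.add, hQf, hQf', h1]
      simp only [add_zero, zero_mul, zero_smul]
      calc f' + (f + f') = f + (f' + f') := by abel
        _ = f := by rw [add_self, add_zero]
    · rw [sg_apply, rr, S.alt, zero_smul, add_zero, mul_zero, zero_smul, add_zero, S.comm (f + f') e, hes, zero_smul,
        add_zero]
  · have hQ : Q (f + f') = 1 := by rw [h.add, hQf, hQf', h1]; decide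
    refine ⟨tv S (f + f'), tv_mem S hQ, Fx.tv S h hQ (W.add_mem hf hf'), tv_move S h1, ?_⟩
    rw [tv_apply, S.comm (f + f') e, hes, zero_smul, add_zero]

/-- **the induction** -/
theorem mem_of_Fx [Finite U] (S : Sy γ) (h : IsQ γ Q) (n : ℕ) : ∀ W : Submodule (ZMod 2) U, Nat.card W ≤ n →
    Nd γ W → ∀ g, Fx γ Q W g → g ∈ Gam γ Q := by
  induction n with
  | zero =>
    intro W hW
    have : 0 < Nat.card W := Nat.card_pos
    omega
  | succ n ih =>
    intro W hcard hW g hg
    by_cases hs : ∃ e ∈ W, e ≠ 0 ∧ Q e = 0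
    · obtain ⟨e, he, he0, hQe⟩ := hs
      obtain ⟨k, hk, hkF, hk'⟩ := exists_move S h hW he (hg.mem S h hW he) he0
        (fun h0 => he0 ((LinearEquiv.map_eq_zero_iff g).1 h0)) hQe (by rw [hg.1]; exact hQe)
      apply of_mul hk
      have hg1 : Fx γ Q W (k * g) := hkF.mul hg
      have hg1e : (k * g) e = e := hk'
      -- `f`
      obtain ⟨f, hf, hef, hQf⟩ : ∃ f ∈ W, γ e f = 1 ∧ Q f = 0 := by
        obtain ⟨f, hf⟩ := (sy_of S hW).exists_one (v := ⟨e, he⟩) (fun h0 => he0 (congrArg Subtype.val h0))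
        have hf' : γ (f : U) e = 1 := hf
        rcases z2 (Q f) with h1 | h1
        · exact ⟨f, f.2, by rw [S.comm]; exact hf', h1⟩
        · refine ⟨f + e, W.add_mem f.2 he, ?_, ?_⟩
          · rw [map_add, S.comm e f, hf', S.alt, add_zero]
          · rw [h.add, h1, hQe, hf']; decide
      set g1 := k * g with hg1def
      obtain ⟨k2, hk2, hkF2, hk2', hk2e⟩ := exists_move_fix S h he hf (hg1.mem S h hW hf) he0 hQe hQf
        (by rw [hg1.1]; exact hQf) hef (by
          nth_rewrite 1 [← hg1e]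
          rw [iso_of h hg1.1, hef])
      apply of_mul hk2
      have hg2 : Fx γ Q W (k2 * g1) := hkF2.mul hg1
      have hg2e : (k2 * g1) e = e := by rw [LinearEquiv.mul_apply, hg1e, hk2e]
      have hg2f : (k2 * g1) f = f := hk2'
      set g2 := k2 * g1 with hg2def
      -- the subspace `W₁`
      let W₁ : Submodule (ZMod 2) U := W ⊓ (LinearMap.ker (γ e) ⊓ LinearMap.ker (γ f))
      have hW₁ : ∀ x, x ∈ W₁ ↔ x ∈ W ∧ γ e x = 0 ∧ γ f x = 0 := fun x => Iff.rfl
      have hproj : ∀ w ∈ W, w + γ w f • e + γ w e • f ∈ W₁ := by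
        intro w hw
        refine (hW₁ _).2 ⟨W.add_mem (W.add_mem hw (W.smul_mem _ he)) (W.smul_mem _ hf), ?_, ?_⟩
        · rw [map_add, map_add, map_smul, map_smul, S.alt, hef, smul_zero, add_zero, smul_eq_mul, mul_one,
            S.comm w e, z2_add]
        · rw [map_add, map_add, map_smul, map_smul, S.alt, S.comm f e, hef, smul_zero, add_zero, smul_eq_mul,
            mul_one, S.comm w f, z2_add]
      have hNd : Nd γ W₁ := by
        intro w hw hw'
        obtain ⟨h1, h2, h3⟩ := (hW₁ w).1 hw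
        apply hW w h1
        intro w' hw''
        have h4 := hw' _ (hproj w' hw'')
        rwa [map_add, map_add, map_smul, map_smul, S.comm w e, h2, S.comm w f, h3, smul_zero, smul_zero, add_zero,
          add_zero] at h4
      have hlt : Nat.card W₁ ≤ n := by
        have h1 : (W₁ : Set U) ⊂ (W : Set U) := by
          refine ⟨fun x hx => ((hW₁ x).1 hx).1, fun h2 => ?_⟩
          have h3 := ((hW₁ e).1 (h2 he)).2.2
          rw [S.comm f e, hef] at h3
          exact absurd h3 (by decide)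
        have h2 := Set.Finite.card_lt_card (Set.toFinite (W : Set U)) h1
        have h3 : Nat.card W₁ < Nat.card W := h2
        omega
      apply ih W₁ hlt hNd g2
      refine ⟨hg2.1, fun x hx => ?_⟩
      obtain ⟨w, hw, h1⟩ := exists_pr S hW x
      have e1 : x = w + (x + w) := by rw [add_comm x, ← add_assoc, add_self, zero_add]
      have h2 : w + γ w f • e + γ w e • f = 0 := by
        apply hNd _ (hproj w hw)
        intro w' hw'
        obtain ⟨h3, h4, h5⟩ := (hW₁ w').1 hw'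
        have h6 := hx w' hw'
        rw [e1, map_add, h1 w' h3, add_zero] at h6
        rw [map_add, map_add, LinearMap.add_apply, LinearMap.add_apply, map_smul, map_smul, LinearMap.smul_apply,
          LinearMap.smul_apply, h4, h5, smul_zero, smul_zero, add_zero, add_zero, S.comm]
        exact h6
      have h3 : w = γ w f • e + γ w e • f := by
        rw [add_assoc] at h2
        exact add_eq_zero.1 h2
      have h4 : g2 w = w := by
        nth_rewrite 1 [h3]
        rw [map_add, map_smul, map_smul, hg2e, hg2f]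
        exact h3.symm
      rw [e1, map_add, h4, hg2.2 _ h1]
    · -- `W` anisotropic
      push Not at hs
      have hs' : ∀ w ∈ W, w ≠ 0 → Q w = 1 := fun w hw h0 => (z2 _).resolve_left (hs w hw h0)
      have hone : ∀ x ∈ W, ∀ y ∈ W, x ≠ 0 → y ≠ 0 → x ≠ y → γ x y = 1 := by
        intro x hx y hy hx0 hy0 hxy
        have h1 := h.add x y
        rw [hs' x hx hx0, hs' y hy hy0, hs' (x + y) (W.add_mem hx hy) (fun h0 => hxy (add_eq_zero.1 h0))] at h1
        rcases z2 (γ x y) with h2 | h2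
        · rw [h2] at h1; exact absurd h1 (by decide)
        · exact h2
      by_cases h0 : ∃ p ∈ W, p ≠ 0
      · obtain ⟨p, hp, hp0⟩ := h0
        -- fix `p`
        obtain ⟨k, hk, hkF, hk'⟩ : ∃ k ∈ Gam γ Q, Fx γ Q W k ∧ k (g p) = p := by
          by_cases hgp : g p = p
          · exact ⟨1, one_mem _, ⟨fun _ => rfl, fun _ _ => rfl⟩, hgp⟩
          · have h1 := hone p hp (g p) (hg.mem S h hW hp) hp0
              (fun h0 => hp0 ((LinearEquiv.map_eq_zero_iff g).1 h0)) (Ne.symm hgp)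
            have hQ : Q (p + g p) = 1 := hs' _ (W.add_mem hp (hg.mem S h hW hp))
              (fun h0 => hgp (add_eq_zero.1 h0).symm)
            exact ⟨tv S (p + g p), tv_mem S hQ, Fx.tv S h hQ (W.add_mem hp (hg.mem S h hW hp)), tv_move S h1⟩
        apply of_mul hk
        have hg1 : Fx γ Q W (k * g) := hkF.mul hg
        have hg1p : (k * g) p = p := hk'
        set g1 := k * g with hg1def
        by_cases h1 : ∃ r ∈ W, g1 r ≠ r
        · obtain ⟨r, hr, hr1⟩ := h1
          have hr0 : r ≠ 0 := by rintro rfl; exact hr1 (map_zero _)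
          have hrp : r ≠ p := by rintro rfl; exact hr1 hg1p
          have hgr := hg1.mem S h hW hr
          have hgr0 : g1 r ≠ 0 := fun h0 => hr0 ((LinearEquiv.map_eq_zero_iff g1).1 h0)
          have hgrp : g1 r ≠ p := by
            intro h2
            rw [← hg1p] at h2
            exact hrp (g1.injective h2)
          have h2 := hone r hr (g1 r) hgr hr0 hgr0 (Ne.symm hr1)
          have hQ : Q (r + g1 r) = 1 := hs' _ (W.add_mem hr hgr) (fun h0 => hr1 (add_eq_zero.1 h0).symm)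
          apply of_mul (tv_mem S hQ)
          have hg2 : Fx γ Q W (tv S (r + g1 r) * g1) := (Fx.tv S h hQ (W.add_mem hr hgr)).mul hg1
          have hg2r : (tv S (r + g1 r) * g1) r = r := tv_move S h2
          have hg2p : (tv S (r + g1 r) * g1) p = p := by
            rw [LinearEquiv.mul_apply, hg1p, tv_apply, map_add, LinearMap.add_apply,
              hone r hr p hp hr0 hp0 hrp, hone (g1 r) hgr p hp hgr0 hp0 hgrp,
              show (1 : ZMod 2) + 1 = 0 by decide, zero_smul, add_zero]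
          rw [eq_one_of S hW hg2]
          · exact one_mem _
          · intro s hs1
            by_cases s0 : s = 0
            · rw [s0, map_zero]
            by_cases sp : s = p
            · rw [sp]; exact hg2p
            by_cases sr : s = r
            · rw [sr]; exact hg2r
            by_cases spr : s = p + r
            · rw [spr, map_add, hg2p, hg2r]
            · exfalso
              have h3 := hone s hs1 (p + r) (W.add_mem hp hr) s0 (fun h0 => hrp (add_eq_zero.1 h0).symm) spr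
              rw [map_add, hone s hs1 p hp s0 hp0 sp, hone s hs1 r hr s0 hr0 sr] at h3
              exact absurd h3 (by decide)
        · push Not at h1
          rw [eq_one_of S hW hg1 h1]; exact one_mem _
      · push Not at h0
        rw [eq_one_of S hW hg (fun w hw => by rw [h0 w hw, map_zero])]
        exact one_mem _

/-- **every isometry of `Q` is in `Gam`** -/
theorem mem_Gam [Finite U] (S : Sy γ) (h : IsQ γ Q) {g : U ≃ₗ[ZMod 2] U} (hg : ∀ x, Q (g x) = Q x) :
    g ∈ Gam γ Q := by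
  refine mem_of_Fx S h (Nat.card (⊤ : Submodule (ZMod 2) U)) ⊤ le_rfl ?_ g ⟨hg, ?_⟩
  · intro w _ hw
    exact S.nondeg w fun u => hw u Submodule.mem_top
  · intro x hx
    have : x = 0 := S.nondeg x fun u => by rw [S.comm]; exact hx u Submodule.mem_top
    rw [this, map_zero]

/-! ### products of two reflections -/

/-- `t_u t_v` for `u ⊥ v` is a Siegel map -/
theorem tv_mul_tv_perp (S : Sy γ) (h : IsQ γ Q) {u v : U} (hu : Q u = 1) (hv : Q v = 1) (huv : γ u v = 0)
    (hne : u ≠ v) : IsSg γ Q (tv S u * tv S v) := by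
  refine ⟨u + v, u, fun h0 => hne (add_eq_zero.1 h0), by rw [h.add, hu, hv, huv]; decide, ?_, fun x => ?_⟩
  · rw [LinearMap.BilinForm.add_left, S.alt, S.comm v u, huv, add_zero]
  · rw [LinearEquiv.mul_apply, tv_apply, tv_apply, map_add, map_smul, huv, smul_zero, add_zero, rr, hu, one_mul,
      LinearMap.BilinForm.add_left]
    simp only [add_smul, smul_add]
    have e1 : γ u x • u + γ u x • u = 0 := add_self _
    have e2 : γ v x • u + γ v x • u = 0 := add_self _
    have e3 : γ u x • v + γ u x • v = 0 := add_self _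
    calc x + γ v x • v + γ u x • u
        = x + γ v x • v + γ u x • u + (γ u x • u + γ u x • u) + (γ v x • u + γ v x • u)
          + (γ u x • v + γ u x • v) := by rw [e1, e2, e3, add_zero, add_zero, add_zero]
      _ = _ := by abel

/-- products of two reflections lie in every group containing the Siegel maps (dimension `≥ 5`) -/
theorem tv_mul_tv_mem [Finite U] (S : Sy γ) (h : IsQ γ Q) (hd : 2 ^ 5 ≤ Nat.card U)
    {Ω : Subgroup (U ≃ₗ[ZMod 2] U)} (hΩ : ∀ g, IsSg γ Q g → g ∈ Ω) {u v : U} (hu : Q u = 1) (hv : Q v = 1) :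
    tv S u * tv S v ∈ Ω := by
  by_cases hne : u = v
  · rw [hne, tv_tv]; exact one_mem _
  rcases z2 (γ u v) with h1 | h1
  · exact hΩ _ (tv_mul_tv_perp S h hu hv h1 hne)
  · obtain ⟨w, w', i1, i2, i3, i4, i5⟩ := S.exists_hyp hd u v
    obtain ⟨s, hs1, hs2, hs3⟩ : ∃ s, γ u s = 0 ∧ γ v s = 0 ∧ Q s = 1 := by
      rcases z2 (Q w) with h2 | h2
      · rcases z2 (Q w') with h3 | h3
        · exact ⟨w + w', by rw [map_add, i1, i3, add_zero], by rw [map_add, i2, i4, add_zero],
            by rw [h.add, h2, h3, i5]; decide⟩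
        · exact ⟨w', i3, i4, h3⟩
      · exact ⟨w, i1, i2, h2⟩
    have hus : u ≠ s := by
      rintro rfl
      rw [S.comm v u, h1] at hs2
      exact absurd hs2 (by decide)
    have hvs : s ≠ v := by
      rintro rfl
      rw [h1] at hs1
      exact absurd hs1 (by decide)
    have e : tv S u * tv S v = (tv S u * tv S s) * (tv S s * tv S v) := by
      rw [mul_assoc, ← mul_assoc (tv S s), tv_tv, one_mul]
    rw [e]
    exact mul_mem (hΩ _ (tv_mul_tv_perp S h hu hs3 hs1 hus))
      (hΩ _ (tv_mul_tv_perp S h hs3 hv (by rw [S.comm]; exact hs2) hvs))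

/-- conjugates of Siegel maps under isometries -/
theorem IsSg.conj (h : IsQ γ Q) {g k : U ≃ₗ[ZMod 2] U} (hg : ∀ x, Q (g x) = Q x) (hk : IsSg γ Q k) :
    IsSg γ Q (g * k * g⁻¹) := by
  obtain ⟨u, w, h1, h2, h3, h4⟩ := hk
  have hi := iso_of h hg
  refine ⟨g u, g w, fun h0 => h1 ((LinearEquiv.map_eq_zero_iff g).1 h0), by rw [hg]; exact h2,
    by rw [hi]; exact h3, fun x => ?_⟩
  rw [rr_conj hi h4, hg]

/-- **dichotomy** -/
theorem dich [Finite U] (S : Sy γ) (h : IsQ γ Q) (hd : 2 ^ 5 ≤ Nat.card U)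
    {Ω : Subgroup (U ≃ₗ[ZMod 2] U)} (hΩ : ∀ g, IsSg γ Q g → g ∈ Ω) {g : U ≃ₗ[ZMod 2] U}
    (hg : ∀ x, Q (g x) = Q x) : g ∈ Ω ∨ ∀ v, Q v = 1 → tv S v * g ∈ Ω := by
  have h1 := mem_Gam S h hg
  clear hg
  unfold Gam at h1
  induction h1 using Subgroup.closure_induction_left with
  | one => exact Or.inl (one_mem _)
  | mul_left s hs y _ ih =>
    rcases hs with ⟨v, hv, hs⟩ | hs
    · have hsv : s = tv S v := LinearEquiv.ext fun x => by rw [hs, tv_apply]
      rw [hsv]
      rcases ih with ih | ih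
      · right
        intro v' hv'
        rw [← mul_assoc]
        exact mul_mem (tv_mul_tv_mem S h hd hΩ hv' hv) ih
      · left; exact ih v hv
    · rcases ih with ih | ih
      · left; exact mul_mem (hΩ _ hs) ih
      · right
        intro v hv
        have e : tv S v * (s * y) = (tv S v * s * (tv S v)⁻¹) * (tv S v * y) := by group
        rw [e]
        exact mul_mem (hΩ _ (hs.conj h (Q_tv S h hv))) (ih v hv)
  | inv_mul_cancel s hs y _ ih =>
    rcases hs with ⟨v, hv, hs⟩ | hs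
    · have hsv : s = tv S v := LinearEquiv.ext fun x => by rw [hs, tv_apply]
      have hsi : s⁻¹ = tv S v := by
        rw [hsv]; exact inv_eq_of_mul_eq_one_left (tv_tv S v)
      rw [hsi]
      rcases ih with ih | ih
      · right
        intro v' hv'
        rw [← mul_assoc]
        exact mul_mem (tv_mul_tv_mem S h hd hΩ hv' hv) ih
      · left; exact ih v hv
    · rcases ih with ih | ih
      · left; exact mul_mem (inv_mem (hΩ _ hs)) ih
      · right
        intro v hv
        have e : tv S v * (s⁻¹ * y) = (tv S v * s * (tv S v)⁻¹)⁻¹ * (tv S v * y) := by group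
        rw [e]
        exact mul_mem (inv_mem (hΩ _ (hs.conj h (Q_tv S h hv)))) (ih v hv)

end Rf

variable {M : Type*} [Group M] {σ : M →* (U ≃ₗ[ZMod 2] U)} {γ : LinearMap.BilinForm (ZMod 2) U} {a : U}
  {X L : Subgroup M} {Q : U → ZMod 2}

/-- `σ L` is generated by the Siegel maps -/
theorem QD.map_L (D : QD σ γ a X L Q) (A : AB σ γ a X L) :
    L.map σ = Subgroup.closure {g | Rf.IsSg γ Q g} := by
  apply le_antisymm
  · rw [← A.closure_eq, MonoidHom.map_closure, Subgroup.closure_le]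
    rintro _ ⟨_, ⟨l, hl, x, hx, rfl⟩, rfl⟩
    apply Subgroup.subset_closure
    obtain ⟨w, hw, h⟩ := D.X_form x hx
    refine ⟨σ l a, σ l w, fun h0 => A.a_ne ((LinearEquiv.map_eq_zero_iff _).1 h0), by rw [D.inv]; exact D.Q_a A,
      by rw [A.iso]; exact hw, fun v => ?_⟩
    rw [A.conj_form l h, D.inv]
  · rw [Subgroup.closure_le]
    rintro g ⟨u, w, h1, h2, h3, h4⟩
    obtain ⟨l, hl, h5⟩ := D.exists_siegel A h1 h2 h3
    exact ⟨l, hl, LinearEquiv.ext fun v => by rw [h5, h4]⟩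

/-- **`m² ∈ L`** -/
theorem QD.sq_mem (D : QD σ γ a X L Q) (A : AB σ γ a X L) (m : M) : m * m ∈ L := by
  have := A.finite
  have S := A.sy
  have hΩ : ∀ g, Rf.IsSg γ Q g → g ∈ L.map σ := by
    intro g hg
    rw [D.map_L A]
    exact Subgroup.subset_closure hg
  have hback : ∀ k : M, σ k ∈ L.map σ → k ∈ L := by
    rintro k ⟨l, hl, h⟩
    rw [← A.inj h]; exact hl
  rcases Rf.dich S D.isQ A.card hΩ (g := σ m) (D.inv m) with h | h
  · exact mul_mem (hback m h) (hback m h)
  · -- a nonsingular vector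
    obtain ⟨v, hv⟩ : ∃ v, Q v = 1 := by
      obtain ⟨w, w', -, -, -, -, h5⟩ := S.exists_hyp A.card a a
      by_contra hcon
      push Not at hcon
      have h0 : ∀ v, Q v = 0 := fun v => (z2 _).resolve_right (hcon v)
      have h1 := D.isQ.add w w'
      rw [h0, h0, h0, h5] at h1
      exact absurd h1 (by decide)
    obtain ⟨l, hl, h1⟩ := h v hv
    apply hback
    -- `σ m = t_v σ l`
    have h2 : σ m = Rf.tv S v * σ l := by
      rw [h1, ← mul_assoc, Rf.tv_tv, one_mul]
    have hinv : (Rf.tv S v)⁻¹ = Rf.tv S v := inv_eq_of_mul_eq_one_left (Rf.tv_tv S v)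
    have h3 : Rf.tv S v * σ l * (Rf.tv S v)⁻¹ ∈ L.map σ := by
      have h4 : σ l ∈ Subgroup.closure {g | Rf.IsSg γ Q g} := by
        rw [← D.map_L A]; exact ⟨l, hl, rfl⟩
      rw [D.map_L A]
      have h5 : Subgroup.closure {g | Rf.IsSg γ Q g} ≤
          (Subgroup.closure {g | Rf.IsSg γ Q g}).comap (MulAut.conj (Rf.tv S v)).toMonoidHom := by
        rw [Subgroup.closure_le]
        intro g hg
        apply Subgroup.subset_closure
        exact hg.conj D.isQ (Rf.Q_tv S D.isQ hv)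
      exact h5 h4
    have h6 : σ (m * m) = (Rf.tv S v * σ l * (Rf.tv S v)⁻¹) * σ l := by
      rw [map_mul, h2, hinv]; group
    rw [h6]
    exact mul_mem h3 ⟨l, hl, rfl⟩

end Cfsg.Agent.Omega.EH3.RowS
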