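import Cfsg.Agent.Omega.EH3.RowS.Sp

/-!
# RowS: the invariant quadratic form (helper465)
-/

set_option autoImplicit false

namespace Cfsg.Agent.Omega.EH3.RowS

open Module Cfsg.Agent.LargeExtra.SiegFam Cfsg.Agent.LargeExtra.SiegFam.Lin
open Cfsg.Agent.Omega.EH3.TCL (mul_app inv_app app_inv one_app z2 z4 z6 z8 n2 n4 n6 n8)

variable {U : Type*} [AddCommGroup U] [Module (ZMod 2) U]

namespace SpFam

variable {f : LinearMap.BilinForm (ZMod 2) U} {H : Subgroup (U ≃ₗ[ZMod 2] U)} {O : Set U}
  {X : U → Subgroup (U ≃ₗ[ZMod 2] U)} {p y : U} {γ γ' : ZMod 2} {x : U ≃ₗ[ZMod 2] U}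

theorem ladd' (v w u : U) : f (v + w) u = f v u + f w u := by
  rw [map_add, LinearMap.add_apply]

/-- a vector perpendicular to `S` and not to `s`, `S` a subspace, `s ∉ S` -/
theorem exists_off (F : SpFam f H O X) {S : Submodule (ZMod 2) U} {s : U} (hs : s ∉ S) :
    ∃ v, (∀ t ∈ S, f t v = 0) ∧ f s v = 1 := by
  have := F.alt.finDim
  by_contra hcon
  push Not at hcon
  apply hs
  rw [← F.alt.orth_orth S, mem_orth]
  intro v hv
  rw [mem_orth] at hv
  rw [F.comm]
  rcases zm (f s v) with h1 | h1
  · exact h1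
  · exact absurd h1 (hcon v hv)

theorem finrank_span_le (S : Finset U) : finrank (ZMod 2) (Submodule.span (ZMod 2) (S : Set U)) ≤ S.card :=
  finrank_span_finset_le_card S

theorem exists_notMem (F : SpFam f H O X) {S : Submodule (ZMod 2) U} {n : ℕ} (hS : finrank (ZMod 2) S ≤ n)
    (T : Submodule (ZMod 2) U) (hT : n < finrank (ZMod 2) T) : ∃ v ∈ T, v ∉ S := by
  have := F.alt.finDim
  by_contra hcon
  push Not at hcon
  have h1 := Submodule.finrank_mono (show T ≤ S from fun v hv => hcon v hv)
  omega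

/-- the span of two vectors -/
abbrev sp2 (u v : U) : Submodule (ZMod 2) U := Submodule.span (ZMod 2) ({u, v} : Set U)

theorem mem_sp2 {u v w : U} : w ∈ sp2 u v ↔ ∃ r s : ZMod 2, r • u + s • v = w :=
  Submodule.mem_span_pair

theorem finrank_sp2 (u v : U) : finrank (ZMod 2) (sp2 u v) ≤ 2 := by
  classical
  have h1 := finrank_span_finset_le_card (R := ZMod 2) ({u, v} : Finset U)
  have h2 : ((({u, v} : Finset U) : Set U)) = {u, v} := by simp
  rw [h2] at h1
  exact h1.trans Finset.card_le_two

theorem finrank_sp2_orth (F : SpFam f H O X) (u v : U) :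
    4 ≤ finrank (ZMod 2) (f.orthogonal (sp2 u v)) := by
  have h1 := F.alt.finrank_orth (sp2 u v)
  have h2 := finrank_sp2 u v
  have h3 := F.dim
  omega

theorem mem_sp2_orth (F : SpFam f H O X) {u v w : U} :
    w ∈ f.orthogonal (sp2 u v) ↔ f u w = 0 ∧ f v w = 0 := by
  rw [mem_orth]
  constructor
  · intro h
    exact ⟨h u (Submodule.subset_span (by simp)), h v (Submodule.subset_span (by simp))⟩
  · rintro ⟨h1, h2⟩ s hs
    obtain ⟨r, t, rfl⟩ := mem_sp2.1 hs
    rw [ladd', map_smul, map_smul, LinearMap.smul_apply, LinearMap.smul_apply, h1, h2]; simp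

/-! ### the second case -/

/-- all nonzero vectors are in `O` if `e, e + p ∈ O` -/
theorem all_of (F : SpFam f H O X) {p e : U} (hp : p ∈ O) (he : f p e = 1) (h1 : e ∈ O)
    (h2 : e + p ∈ O) {v : U} (hv : v ≠ 0) : v ∈ O := by
  -- off `p^⊥`
  have key : ∀ v, f p v = 1 → v ∈ O := by
    intro v hv
    have hs : f p (v + e) = 0 := by rw [map_add, hv, he]; decide
    obtain ⟨x, hx, e1⟩ := F.orbit hp he hs
    have hxH := F.X_le p hp hx
    rcases zm (f (v + e) e + cc f X p (v + e)) with h3 | h3
    · have e2 : x e = v := by rw [e1, h3, zero_smul]; v2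
      rw [← e2]; exact F.stable x hxH e h1
    · have e2 : x (e + p) = v := by rw [map_add, e1, h3, F.X_fix p hp x hx, one_smul]; v2
      rw [← e2]; exact F.stable x hxH _ h2
  -- all points
  have key2 : ∀ q ∈ O, ∀ v, f q v = 1 → v ∈ O := by
    intro q hq v hv
    obtain ⟨h, hh, rfl⟩ := F.trans p hp q hq
    have h3 : f p (h⁻¹ v) = 1 := by rw [← F.f_H h hh, inv_app]; exact hv
    have h4 := F.stable h hh _ (key _ h3)
    rwa [inv_app] at h4
  by_contra hcon
  apply hv
  apply F.span
  intro q hq
  rcases zm (f q v) with h3 | h3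
  · exact h3
  · exact absurd (key2 q hq v h3) hcon

/-- if `O` consists of all nonzero vectors then a transvection is not in `H` -/
theorem no_tv (F : SpFam f H O X) (hO : ∀ v, v ≠ 0 → v ∈ O) {p : U} {h : U ≃ₗ[ZMod 2] U} (hp : p ≠ 0)
    (hh : h ∈ H) (he : ∀ w, h w = w + f p w • p) : False := by
  -- all transvections
  have key : ∀ v, v ≠ 0 → ∃ h ∈ H, ∀ w, h w = w + f v w • v := by
    intro v hv
    obtain ⟨g, hg, rfl⟩ := F.trans p (hO p hp) v (hO v hv)
    refine ⟨g * h * g⁻¹, H.mul_mem (H.mul_mem hg hh) (H.inv_mem hg), fun w => ?_⟩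
    rw [mul_app, mul_app, he, map_add, map_smul, inv_app, ← F.f_H g hg p, inv_app]
  -- `cc p v = 1` for `v ∈ p^⊥`, `v ∉ ⟨p⟩`
  have hpO := hO p hp
  have key2 : ∀ v, f p v = 0 → v ≠ 0 → v ≠ p → cc f X p v = 1 := by
    intro v hv h0 h1
    have hmem : v ∉ Submodule.span (ZMod 2) ({p} : Set U) := by
      rw [mem_span_one]
      rintro (h2 | h2)
      · exact h0 h2
      · exact h1 h2
    obtain ⟨y, hy, hvy⟩ := F.exists_off hmem
    have hpy : f p y = 0 := hy p (Submodule.mem_span_singleton_self p)
    obtain ⟨g, hg, hge⟩ := key v h0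
    have hgp : g p = p := by rw [hge, F.comm, hv, zero_smul, add_zero]
    have h2 := F.cc_map hg hpO hpy
    rw [hgp, hge, hvy, one_smul, F.cc_add hpO hpy hv, F.comm y v, hvy] at h2
    revert h2
    generalize cc f X p y = s, cc f X p v = t
    revert s t; decide
  -- `v, w ∈ p^⊥` independent, perpendicular
  obtain ⟨v, hv, hvn⟩ := F.exists_notMem (finrank_sp2 p p) (f.orthogonal (sp2 p p))
    (lt_of_lt_of_le (by norm_num) (F.finrank_sp2_orth p p))
  obtain ⟨w, hw, hwn⟩ := F.exists_notMem (finrank_sp2 p v) (f.orthogonal (sp2 p v))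
    (lt_of_lt_of_le (by norm_num) (F.finrank_sp2_orth p v))
  rw [F.mem_sp2_orth] at hv hw
  have nv0 : v ≠ 0 := fun h => hvn (by rw [h]; exact Submodule.zero_mem _)
  have nvp : v ≠ p := fun h => hvn (by rw [h]; exact Submodule.subset_span (by simp))
  have nw0 : w ≠ 0 := fun h => hwn (by rw [h]; exact Submodule.zero_mem _)
  have nwp : w ≠ p := fun h => hwn (by rw [h]; exact Submodule.subset_span (by simp))
  have nwv : v + w ≠ 0 := fun h => hwn (by
    rw [← eq_of_add h]; exact Submodule.subset_span (by simp))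
  have nwvp : v + w ≠ p := fun h => hwn (by
    have e : w = p + v := by rw [← h]; v2
    rw [e]
    exact Submodule.add_mem _ (Submodule.subset_span (by simp)) (Submodule.subset_span (by simp)))
  have h1 := F.cc_add hpO hv.1 hw.1
  rw [key2 v hv.1 nv0 nvp, key2 w hw.1 nw0 nwp, hw.2,
    key2 (v + w) (by rw [map_add, hv.1, hw.1, add_zero]) nwv nwvp] at h1
  exact absurd h1 (by decide)

/-- (2a) the symmetry -/
theorem cc_symm (F : SpFam f H O X) (hO : ∀ v, v ≠ 0 → v ∈ O) {u v : U} (hu : u ≠ 0) (hv : v ≠ 0)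
    (huv : f u v = 0) : cc f X u v = cc f X v u := by
  have hvu : f v u = 0 := by rw [F.comm]; exact huv
  obtain ⟨x, hx, h1⟩ := F.exists_tx (hO u hu) huv
  obtain ⟨x', hx', h2⟩ := F.exists_tx (hO v hv) hvu
  have hH : x * x' ∈ H := H.mul_mem (F.X_le u (hO u hu) hx) (F.X_le v (hO v hv) hx')
  have key : ∀ w, (x * x') w = w + (cc f X v u * f v w) • v + (cc f X u v * f u w) • u := by
    intro w
    rw [mul_app, h2]
    have e1 : f v (tx f v u (cc f X v u) w) = f v w := by
      rw [tx, map_add, map_add, map_smul, map_smul, map_add, map_smul, F.self, hvu]; simp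
    have e2 : f u (tx f v u (cc f X v u) w) = f u w := by
      rw [tx, map_add, map_add, map_smul, map_smul, map_add, map_smul, F.self, huv]; simp
    rw [h1, tx, e1, e2, tx]
    rcases zm (f v w) with h3 | h3 <;> rcases zm (f u w) with h4 | h4 <;> rw [h3, h4] <;>
      simp only [zero_smul, one_smul, mul_zero, mul_one, add_zero] <;> v2
  rcases zm (cc f X u v) with h3 | h3 <;> rcases zm (cc f X v u) with h4 | h4 <;> rw [h3, h4]
  · exfalso
    refine F.no_tv hO hv hH fun w => ?_
    rw [key, h3, h4, zero_mul, zero_smul, add_zero, one_mul]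
  · exfalso
    refine F.no_tv hO hu hH fun w => ?_
    rw [key, h3, h4, zero_mul, zero_smul, add_zero, one_mul]

/-- the second case is impossible -/
theorem case_two (F : SpFam f H O X) (hO : ∀ v, v ≠ 0 → v ∈ O) : False := by
  obtain ⟨u, hu⟩ := F.ne
  have hu0 := F.zero u hu
  obtain ⟨v, hv, hvn⟩ := F.exists_notMem (finrank_sp2 u u) (f.orthogonal (sp2 u u))
    (lt_of_lt_of_le (by norm_num) (F.finrank_sp2_orth u u))
  obtain ⟨s, hs, hsn⟩ := F.exists_notMem (finrank_sp2 u v) (f.orthogonal (sp2 u v))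
    (lt_of_lt_of_le (by norm_num) (F.finrank_sp2_orth u v))
  obtain ⟨t, ht, hst⟩ := F.exists_off hsn
  rw [F.mem_sp2_orth] at hv hs
  have htu : f u t = 0 := ht u (Submodule.subset_span (by simp))
  have htv : f v t = 0 := ht v (Submodule.subset_span (by simp))
  have nv0 : v ≠ 0 := fun h => hvn (by rw [h]; exact Submodule.zero_mem _)
  have nvu : v ≠ u := fun h => hvn (by rw [h]; exact Submodule.subset_span (by simp))
  have nuv : u + v ≠ 0 := fun h => nvu (eq_of_add h).symm
  have huv : f u v = 0 := hv.1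
  have key : ∀ r, f u r = 0 → f v r = 0 → r ≠ 0 →
      cc f X u r + cc f X v r + cc f X (u + v) r = 0 := by
    intro r h1 h2 h3
    have hru : f r u = 0 := by rw [F.comm]; exact h1
    have hrv : f r v = 0 := by rw [F.comm]; exact h2
    rw [F.cc_symm hO hu0 h3 h1, F.cc_symm hO nv0 h3 h2,
      F.cc_symm hO nuv h3 (by rw [ladd', h1, h2, add_zero]), F.cc_add (hO r h3) hru hrv, huv]
    generalize cc f X r u = α, cc f X r v = β
    revert α β; decide
  have hs0 : s ≠ 0 := fun h => hsn (by rw [h]; exact Submodule.zero_mem _)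
  have ht0 : t ≠ 0 := by
    rintro rfl
    rw [map_zero] at hst
    exact zero_ne_one hst
  have hst0 : s + t ≠ 0 := by
    intro h
    rw [eq_of_add h, F.self] at hst
    exact zero_ne_one hst
  have k1 := key s hs.1 hs.2 hs0
  have k2 := key t htu htv ht0
  have k3 := key (s + t) (by rw [map_add, hs.1, htu, add_zero]) (by rw [map_add, hs.2, htv, add_zero]) hst0
  rw [F.cc_add (hO u hu0) hs.1 htu, F.cc_add (hO v nv0) hs.2 htv,
    F.cc_add (hO _ nuv) (by rw [ladd', hs.1, hs.2, add_zero]) (by rw [ladd', htu, htv, add_zero]), hst] at k3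
  revert k1 k2 k3
  generalize cc f X u s = c1, cc f X v s = c2, cc f X (u + v) s = c3, cc f X u t = c4, cc f X v t = c5,
    cc f X (u + v) t = c6
  revert c1 c2 c3 c4 c5 c6; decide

/-! ### the first case -/

/-- the quadratic form of a pair -/
noncomputable def qf (f : LinearMap.BilinForm (ZMod 2) U) (X : U → Subgroup (U ≃ₗ[ZMod 2] U)) (a e w : U) :
    ZMod 2 := f a w * f e w + cc f X a (w + f a w • e)

theorem not_both (F : SpFam f H O X) {p e : U} (hp : p ∈ O) (he : f p e = 1) (h1 : e ∈ O) :
    e + p ∉ O := fun h2 => F.case_two fun _ hv => F.all_of hp he h1 h2 hv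

theorem qf_add (F : SpFam f H O X) {a e : U} (ha : a ∈ O) (hae : f a e = 1) (v w : U) :
    qf f X a e (v + w) = qf f X a e v + qf f X a e w + f v w := by
  have hea : f e a = 1 := by rw [F.comm]; exact hae
  have h1 : ∀ v, f a (v + f a v • e) = 0 := by
    intro v
    rw [map_add, map_smul, hae, smul_eq_mul, mul_one, zadd]
  have e1 : v + w + f a (v + w) • e = (v + f a v • e) + (w + f a w • e) := by
    rw [map_add, add_smul]; abel
  rw [qf, qf, qf, e1, F.cc_add ha (h1 v) (h1 w)]
  simp only [map_add, map_smul, LinearMap.add_apply, LinearMap.smul_apply, smul_eq_mul]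
  rw [F.self e, F.comm v e]
  generalize cc f X a (v + f a v • e) = s, cc f X a (w + f a w • e) = t
  generalize f a v = α, f a w = β, f e v = γ, f e w = δ, f v w = ε
  revert α β γ δ ε s t; decide

theorem qf_a (F : SpFam f H O X) {a e : U} (ha : a ∈ O) : qf f X a e a = 0 := by
  rw [qf, F.self, zero_mul, zero_smul, add_zero, F.cc_self ha, zero_add]

theorem qf_e (F : SpFam f H O X) {a e : U} (ha : a ∈ O) (hae : f a e = 1) : qf f X a e e = 0 := by
  rw [qf, F.self, mul_zero, hae, one_smul, add_self, F.cc_zero ha, zero_add]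

theorem qf_perp {a e w : U} (h : f a w = 0) : qf f X a e w = cc f X a w := by
  rw [qf, h, zero_mul, zero_smul, add_zero, zero_add]

/-- off `a^⊥` the points are the singular vectors -/
theorem mem_off (F : SpFam f H O X) {a e w : U} (ha : a ∈ O) (he : e ∈ O) (hae : f a e = 1)
    (hw : f a w = 1) : w ∈ O ↔ qf f X a e w = 0 := by
  have hs : f a (w + e) = 0 := by rw [map_add, hw, hae]; decide
  obtain ⟨x, hx, h1⟩ := F.orbit ha hae hs
  have hxH := F.X_le a ha hx
  have e1 : qf f X a e w = f (w + e) e + cc f X a (w + e) := by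
    rw [qf, hw, one_mul, one_smul, ladd', F.self, add_zero, F.comm]
  have hxe := F.stable x hxH e he
  rw [e1]
  rcases zm (f (w + e) e + cc f X a (w + e)) with h2 | h2 <;> rw [h2] <;> rw [h2] at h1
  · have e2 : x e = w := by rw [h1, zero_smul]; v2
    rw [e2] at hxe
    exact ⟨fun _ => rfl, fun _ => hxe⟩
  · have e2 : x e = w + a := by rw [h1, one_smul]; v2
    rw [e2] at hxe
    constructor
    · intro h3
      exfalso
      exact F.not_both ha hw h3 hxe
    · intro h3
      exact absurd h3 (by decide)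

theorem cc_add_self (F : SpFam f H O X) (hp : p ∈ O) (hy : f p y = 0) :
    cc f X p (y + p) = cc f X p y := by
  rw [F.cc_add hp hy (F.self p), F.cc_self hp, F.comm, hy, add_zero, add_zero]

/-- the two forms agree -/
theorem cc_pair (F : SpFam f H O X) {a e y : U} (ha : a ∈ O) (he : e ∈ O) (hae : f a e = 1)
    (h1 : f a y = 0) (h2 : f e y = 0) : cc f X a y = cc f X e y := by
  have hea : f e a = 1 := by rw [F.comm]; exact hae
  have k1 := F.mem_off (w := a + e + y) ha he hae (by rw [map_add, map_add, F.self, hae, h1]; decide)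
  have k2 := F.mem_off (w := a + e + y) he ha hea (by rw [map_add, map_add, F.self, hea, h2]; decide)
  have c1 : qf f X a e (a + e + y) = 1 + cc f X a y := by
    rw [F.qf_add ha hae, F.qf_add ha hae, F.qf_a ha, F.qf_e ha hae, hae, qf_perp h1, ladd', h1, h2]
    generalize cc f X a y = s
    revert s; decide
  have c2 : qf f X e a (a + e + y) = 1 + cc f X e y := by
    rw [F.qf_add he hea, F.qf_add he hea, F.qf_a he, F.qf_e he hea, hae, qf_perp h2, ladd', h1, h2]
    generalize cc f X e y = s
    revert s; decide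
  rw [c1] at k1
  rw [c2] at k2
  have k3 := k1.symm.trans k2
  revert k3
  generalize cc f X a y = s, cc f X e y = t
  revert s t; decide

theorem qf_symm (F : SpFam f H O X) {a e : U} (ha : a ∈ O) (he : e ∈ O) (hae : f a e = 1) (w : U) :
    qf f X a e w = qf f X e a w := by
  have hea : f e a = 1 := by rw [F.comm]; exact hae
  have h1 : f a (w + f a w • e + f e w • a) = 0 := by
    rw [map_add, map_add, map_smul, map_smul, hae, F.self]; simp [zadd]
  have h2 : f e (w + f a w • e + f e w • a) = 0 := by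
    rw [map_add, map_add, map_smul, map_smul, hea, F.self]; simp [zadd]
  have h3 := F.cc_pair ha he hae h1 h2
  have h4 : cc f X a (w + f a w • e + f e w • a) = cc f X a (w + f a w • e) := by
    rcases zm (f e w) with h5 | h5 <;> rw [h5]
    · rw [zero_smul, add_zero]
    · rw [one_smul]
      apply F.cc_add_self ha
      rw [map_add, map_smul, hae, smul_eq_mul, mul_one, zadd]
  have h5 : cc f X e (w + f a w • e + f e w • a) = cc f X e (w + f e w • a) := by
    rcases zm (f a w) with h6 | h6 <;> rw [h6]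
    · rw [zero_smul, add_zero]
    · rw [one_smul]
      have e1 : w + e + f e w • a = (w + f e w • a) + e := by abel
      rw [e1]
      apply F.cc_add_self he
      rw [map_add, map_smul, hea, smul_eq_mul, mul_one, zadd]
  rw [qf, qf, ← h4, ← h5, h3, mul_comm]

/-- the points are the nonzero singular vectors -/
theorem mem_iff (F : SpFam f H O X) {a e : U} (ha : a ∈ O) (he : e ∈ O) (hae : f a e = 1) {w : U}
    (hw : w ≠ 0) : w ∈ O ↔ qf f X a e w = 0 := by
  have hea : f e a = 1 := by rw [F.comm]; exact hae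
  rcases zm (f a w) with h1 | h1
  · rcases zm (f e w) with h2 | h2
    · have hmem : w ∉ Submodule.span (ZMod 2) ({a} : Set U) := by
        rw [mem_span_one]
        rintro (h3 | h3)
        · exact hw h3
        · rw [h3, hea] at h2; exact one_ne_zero h2
      obtain ⟨y, hy, hwy⟩ := F.exists_off hmem
      have hay : f a y = 0 := hy a (Submodule.mem_span_singleton_self a)
      obtain ⟨x, hx, hx'⟩ := F.X_surj a ha y hay
      have hxH := F.X_le a ha hx
      have e1 : x w = w + a := by rw [hx' w h1, F.comm y w, hwy, one_smul]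
      have h3 : w ∈ O ↔ w + a ∈ O := by
        constructor
        · intro h4
          rw [← e1]; exact F.stable x hxH w h4
        · intro h4
          have h5 := F.stable x⁻¹ (H.inv_mem hxH) _ h4
          rwa [← e1, app_inv] at h5
      rw [h3, F.qf_symm ha he hae, F.mem_off he ha hea (by rw [map_add, h2, hea, zero_add]),
        F.qf_add he hea, F.qf_e he hea, F.comm w a, h1, add_zero, add_zero]
    · rw [F.qf_symm ha he hae]; exact F.mem_off he ha hea h2
  · exact F.mem_off ha he hae h1

/-- **the invariant quadratic form** -/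
theorem main (F : SpFam f H O X) :
    ∃ q : U → ZMod 2, (∀ v w, q (v + w) = q v + q w + f v w) ∧ (∀ h ∈ H, ∀ v, q (h v) = q v) ∧
      (∀ v, v ∈ O ↔ v ≠ 0 ∧ q v = 0) ∧
      (∀ p ∈ O, ∀ y, f p y = 0 → ∃ x ∈ X p, ∀ u, x u = sg q f p y u) ∧
      ∀ p ∈ O, ∀ x ∈ X p, ∃ y, f p y = 0 ∧ ∀ u, x u = sg q f p y u := by
  obtain ⟨a, ha⟩ := F.ne
  obtain ⟨e, he, hea⟩ : ∃ e ∈ O, f e a = 1 := by
    by_contra hcon
    push Not at hcon
    apply F.zero a ha
    apply F.span
    intro c hc
    rcases zm (f c a) with h1 | h1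
    · exact h1
    · exact absurd h1 (hcon c hc)
  have hae : f a e = 1 := by rw [F.comm]; exact hea
  have hadd := F.qf_add ha hae
  have h0 : qf f X a e 0 = 0 := by
    rw [qf, map_zero, zero_mul, zero_smul, add_zero, F.cc_zero ha, zero_add]
  have hO : ∀ v, v ∈ O ↔ v ≠ 0 ∧ qf f X a e v = 0 := by
    intro v
    constructor
    · intro hv
      exact ⟨F.zero v hv, (F.mem_iff ha he hae (F.zero v hv)).1 hv⟩
    · rintro ⟨h1, h2⟩
      exact (F.mem_iff ha he hae h1).2 h2
  -- invariance
  have hinv : ∀ h ∈ H, ∀ v, qf f X a e (h v) = qf f X a e v := by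
    intro h hh
    let φ : U →ₗ[ZMod 2] ZMod 2 := AddMonoidHom.toZModLinearMap 2
      { toFun := fun v => qf f X a e (h v) + qf f X a e v
        map_zero' := by rw [map_zero, h0, add_zero]
        map_add' := by
          intro v w
          rw [map_add, hadd, hadd, F.f_H h hh]
          generalize qf f X a e (h v) = s, qf f X a e (h w) = t, qf f X a e v = r, qf f X a e w = k,
            f v w = l
          revert s t r k l; decide }
    obtain ⟨m, hm⟩ := exists_rep F.alt φ
    have hm0 : m = 0 := by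
      apply F.span
      intro p hp
      rw [F.comm, ← hm]
      show qf f X a e (h p) + qf f X a e p = 0
      rw [((hO p).1 hp).2, ((hO (h p)).1 (F.stable h hh p hp)).2, add_zero]
    intro v
    have h1 : qf f X a e (h v) + qf f X a e v = 0 := by
      have := hm v
      rw [hm0, map_zero, LinearMap.zero_apply] at this
      exact this
    exact CharTwo.add_eq_zero.1 h1
  -- Siegel elements
  have hcc : ∀ p ∈ O, ∀ y, f p y = 0 → cc f X p y = qf f X a e y := by
    intro p hp y hy
    obtain ⟨x, hx, h1⟩ := F.exists_tx hp hy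
    obtain ⟨w, hw⟩ := F.alt.exists_ne (F.zero p hp)
    have h2 := hinv x (F.X_le p hp hx) w
    rw [h1, tx, hw, one_smul, hadd, hadd, hadd] at h2
    have hq : ∀ t : ZMod 2, qf f X a e (t • p) = 0 := by
      intro t
      rcases zm t with rfl | rfl
      · rw [zero_smul]; exact h0
      · rw [one_smul]; exact ((hO p).1 hp).2
    have hwp : f w p = 1 := by rw [F.comm]; exact hw
    have hyp : f y p = 0 := by rw [F.comm]; exact hy
    rw [hq, hq] at h2
    simp only [map_add, map_smul, LinearMap.add_apply, LinearMap.smul_apply, smul_eq_mul, hwp, hyp, hy,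
      F.self p, F.comm w y] at h2
    revert h2
    generalize qf f X a e w = s, f y w = t, qf f X a e y = r, cc f X p y = k
    revert s t r k; decide
  have hsg : ∀ p ∈ O, ∀ y, f p y = 0 → ∀ u, tx f p y (cc f X p y) u = sg (qf f X a e) f p y u := by
    intro p hp y hy u
    rw [hcc p hp y hy, tx, sg, smul_add, smul_smul, mul_comm (f p u)]; abel
  refine ⟨qf f X a e, hadd, hinv, hO, fun p hp y hy => ?_, fun p hp x hx => ?_⟩
  · obtain ⟨x, hx, h1⟩ := F.exists_tx hp hy
    exact ⟨x, hx, fun u => by rw [h1, hsg p hp y hy]⟩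
  · -- the functional of `x`
    obtain ⟨w, hw⟩ := F.alt.exists_ne (F.zero p hp)
    have hxH := F.X_le p hp hx
    have hpy : f p (x w + w) = 0 := by
      have h1 := F.f_H x hxH p w
      rw [F.X_fix p hp x hx] at h1
      rw [map_add, h1, zadd]
    refine ⟨x w + w, hpy, ?_⟩
    have h1 : ∀ u, f p u = 0 → x u = u + f (x w + w) u • p := by
      intro u hu
      have h2 := F.f_H x hxH w u
      have h3 : f (x w) p = 1 := by
        have h4 := F.f_H x hxH p w
        rw [F.X_fix p hp x hx] at h4
        rw [F.comm, h4, hw]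
      rw [ladd', ← h2]
      rcases F.X_perp p hp x hx u hu with h4 | h4 <;> rw [h4]
      · rw [zadd, zero_smul, add_zero]
      · rw [map_add, h3]
        have : f (x w) u + (f (x w) u + 1) = 1 := by
          generalize f (x w) u = s
          revert s; decide
        rw [this, one_smul]
    obtain ⟨γ, h2⟩ := F.eq_tx hp hx hpy h1
    intro u
    rw [h2, ← hsg p hp _ hpy, F.cc_eq hp hpy hx h2]

end SpFam

end Cfsg.Agent.Omega.EH3.RowS
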