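import Cfsg.Agent.Omega.EH3.RowS.Front
import Cfsg.Agent.Omega.EH3.RowS.WF
import Cfsg.Agent.Omega.EH3.Of
import Cfsg.Agent.Omega.All.DNConj

/-!
# EH3, row S: the tensor structure `Ten` (helper754)

* `Tri.card_ge` : `64 ≤ |U|`;
* `ee` : `n_i ⊗ u`; `Tri.exists_perm` : `ρ h (n_i ⊗ u) = n_{σ i} ⊗ g u`;
* `Tri.ten` : helper165's `All.DN.Ten` for a pair `(z, a)` with `C : Cfg ..`, `S : Tri ..`.
-/

set_option autoImplicit false

namespace Cfsg.Agent.Omega.EH3.RowS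

open Subgroup

section

variable {H V : Type*} [Group H] [AddCommGroup V] [Module (ZMod 2) V]

/-- `n_i ⊗ u` -/
def ee (ρ : H →* (V ≃ₗ[ZMod 2] V)) (d t : H) (i : Fin 3) (u : UU ρ t) : V :=
  if i = 0 then (u : V) else if i = 1 then ρ d u else u + ρ d u

variable {ρ : H →* (V ≃ₗ[ZMod 2] V)} {d t : H}

theorem ee_zero (u : UU ρ t) : ee ρ d t 0 u = u := rfl

theorem ee_one (u : UU ρ t) : ee ρ d t 1 u = ρ d u := rfl

theorem ee_two (u : UU ρ t) : ee ρ d t 2 u = u + ρ d u := rfl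

/-- the 3-cycle `0 ↦ 1 ↦ 2 ↦ 0` -/
def cyc : Equiv.Perm (Fin 3) := finRotate 3

end

namespace Tri

variable {H V : Type*} [Group H] [AddCommGroup V] [Module (ZMod 2) V]
  {ρ : H →* (V ≃ₗ[ZMod 2] V)} {b : LinearMap.BilinForm (ZMod 2) V} {q : V → ZMod 2}
  {a : V} {D : Submodule (ZMod 2) V} {X : Subgroup H} {w : ℕ} {L : Subgroup H} {d t : H}

variable (C : Cfg ρ b q a D X w) (S : Tri ρ X L d t)
include C S

/-- `w` is even -/
theorem exists_half (hN : L.Normal) (hq : IsQuasisimple L) (hZ : Odd (Nat.card (center L))) : ∃ k, w = 2 * k := by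
  obtain ⟨Q, hQ⟩ := S.exists_QD C hN hq hZ
  have A := S.ab C hN hq hZ
  have hS := A.sy
  have hfin := A.finite
  have hcard := S.card_U C
  obtain ⟨k, W, hWe, hcd, hV⟩ := WF.exists_wframe hS hQ.isQ (a := (⟨a, S.a_mem C⟩ : UU ρ t)) A.a_ne (hQ.Q_a A)
  rw [hcard] at hcd
  rcases hV with hV | ⟨x, y, hV⟩
  · have h1 : Nat.card W.V0 = 1 := by rw [hV]; simp
    rw [h1, mul_one] at hcd
    exact ⟨_, Nat.pow_right_injective le_rfl hcd⟩
  · have h1 : Nat.card W.V0 = 4 := WF.card_aniso hQ.isQ hV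
    have h0 : (4 : ℕ) = 2 ^ 2 := by norm_num
    rw [h1, h0, ← pow_add] at hcd
    have h2 : w = 2 * (k + 1) + 2 := Nat.pow_right_injective le_rfl hcd
    exact ⟨k + 2, by omega⟩

theorem card_ge (hN : L.Normal) (hq : IsQuasisimple L) (hZ : Odd (Nat.card (center L))) :
    64 ≤ Nat.card (UU ρ t) := by
  obtain ⟨k, hk⟩ := S.exists_half C hN hq hZ
  have h5 := C.five
  rw [S.card_U C]
  calc 64 = 2 ^ 6 := by norm_num
    _ ≤ 2 ^ w := Nat.pow_le_pow_right (by norm_num) (by omega)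

theorem d_ee (i : Fin 3) (u : UU ρ t) : ρ d (ee ρ d t i u) = ee ρ d t (cyc i) u := by
  fin_cases i
  · rfl
  · exact S.om C u
  · show ρ d ((u : V) + ρ d u) = u
    rw [map_add, S.om C, ← add_assoc, add_comm (ρ d (u : V)), add_assoc, C.add_self, add_zero]

theorem t_ee (i : Fin 3) (u : UU ρ t) : ρ t (ee ρ d t i u) = ee ρ d t (Equiv.swap 1 2 i) u := by
  have h1 : ρ t (u : V) = u := u.2
  fin_cases i
  · exact h1
  · show ρ t (ρ d (u : V)) = u + ρ d u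
    rw [S.t_om C, h1]
  · show ρ t ((u : V) + ρ d u) = ρ d u
    rw [map_add, S.t_om C, h1, ← add_assoc, C.add_self, zero_add]

theorem exists_perm_closure {s : H} (hs : s ∈ closure {d, t}) :
    ∃ σ : Equiv.Perm (Fin 3), ∀ i u, ρ s (ee ρ d t i u) = ee ρ d t (σ i) u := by
  induction hs using closure_induction with
  | mem x hx =>
    rcases hx with rfl | hx
    · exact ⟨cyc, S.d_ee C⟩
    · rw [Set.mem_singleton_iff] at hx
      subst hx
      exact ⟨Equiv.swap 1 2, S.t_ee C⟩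
  | one => exact ⟨1, fun i u => C.ρ_one _⟩
  | mul x y _ _ h1 h2 =>
    obtain ⟨σ, h1⟩ := h1
    obtain ⟨τ, h2⟩ := h2
    exact ⟨σ * τ, fun i u => by rw [C.ρ_mul, h2, h1]; rfl⟩
  | inv x _ h1 =>
    obtain ⟨σ, h1⟩ := h1
    refine ⟨σ.symm, fun i u => ?_⟩
    have h2 := h1 (σ.symm i) u
    rw [Equiv.apply_symm_apply] at h2
    rw [← h2, C.ρ_inv_apply]

theorem exists_perm (hN : L.Normal) (hq : IsQuasisimple L) (hZ : Odd (Nat.card (center L))) (h : H) :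
    ∃ (σ : Equiv.Perm (Fin 3)) (g : UU ρ t → UU ρ t), ∀ i u, ρ h (ee ρ d t i u) = ee ρ d t (σ i) (g u) := by
  obtain ⟨s, hs, k, hk, rfl⟩ := S.exists_split C hN hq hZ h
  obtain ⟨σ, h1⟩ := S.exists_perm_closure C hs
  refine ⟨σ, fun u => ⟨ρ k u, inv_U hk u.2⟩, fun i u => ?_⟩
  rw [C.ρ_mul, ← h1]
  congr 1
  fin_cases i
  · rfl
  · exact comm_om hk _
  · show ρ k ((u : V) + ρ d u) = ρ k u + ρ d (ρ k u)
    rw [map_add, comm_om hk]

theorem q_ee (hN : L.Normal) (hq : IsQuasisimple L) (i : Fin 3) (u : UU ρ t) : q (ee ρ d t i u) = 0 := by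
  have h0 := S.q_U_zero C hN hq u.2
  fin_cases i
  · exact h0
  · show q (ρ d (u : V)) = 0
    rw [C.q_inv]; exact h0
  · show q ((u : V) + ρ d u) = 0
    rw [← S.om C, C.q_inv, C.q_inv]; exact h0

end Tri

open Cfsg.Agent.Co2Type.Quad Cfsg.Agent.LargeExtra Cfsg.Agent.LargeExtra.Base
open Cfsg.Agent.Omega.All.DN (Ten)

variable {G : Type*} [Group G] {Q A : Subgroup G} {z a : G}

/-- **the tensor structure** -/
theorem ten (p : Pair Q z A a) {w : ℕ}
    (C : Cfg (p.H.subtype : p.H →* (p.lz.V ≃ₗ[ZMod 2] p.lz.V)) p.lz.b p.lz.q p.va p.D (p.X.subgroupOf p.H) w)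
    {L : Subgroup p.H} {d t : p.H}
    (S : Tri (p.H.subtype : p.H →* (p.lz.V ≃ₗ[ZMod 2] p.lz.V)) (p.X.subgroupOf p.H) L d t)
    (hN : L.Normal) (hq : IsQuasisimple L) (hZ : Odd (Nat.card (center L))) :
    Ten p.lz (ee (p.H.subtype : p.H →* (p.lz.V ≃ₗ[ZMod 2] p.lz.V)) d t) where
  add := by
    intro i u u'
    fin_cases i
    · rfl
    · exact map_add _ _ _
    · show ((u : p.lz.V) + u') + p.H.subtype d ((u : p.lz.V) + u') = _ + _
      rw [map_add]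
      show ((u : p.lz.V) + u') + (p.H.subtype d u + p.H.subtype d u') =
        ((u : p.lz.V) + p.H.subtype d u) + (u' + p.H.subtype d u')
      abel
  sum := by
    intro u
    show (u : p.lz.V) + p.H.subtype d u + (u + p.H.subtype d u) = 0
    exact C.add_self _
  inj01 := by
    intro x y hxy
    obtain ⟨h1, h2⟩ := S.dec_zero C x.2 y.2 hxy
    exact ⟨Subtype.ext h1, Subtype.ext h2⟩
  surj01 := by
    intro v
    obtain ⟨u, hu, u', hu', h⟩ := S.dec C v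
    exact ⟨⟨u, hu⟩, ⟨u', hu'⟩, h⟩
  q_e := fun i u => S.q_ee C hN hq i u
  act_ex := fun c => S.exists_perm C hN hq hZ ⟨p.lz.act c, ⟨c, rfl⟩⟩
  th_ex := by
    obtain ⟨c, hc⟩ := d.2
    refine ⟨c, cyc, by decide, by decide, fun i u => ?_⟩
    rw [hc]
    exact S.d_ee C i u
  nt := ⟨⟨p.va, S.a_mem C⟩, fun h => C.a_ne (congrArg Subtype.val h)⟩

end Cfsg.Agent.Omega.EH3.RowS
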