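import Cfsg.Agent.Omega.EH3.RowS.Out
import Cfsg.Agent.Omega.EH3.RowS.Abs

/-!
# EH3, the `S₃ × Ω_w(2)`-row: the instance of helper754's `AB` (helper888)

`Tri.ab` : `AB ρ₀ gam a X₀ (L.subgroupOf H₀)` from `Cfg`, `Tri`, `L` normal quasisimple with centre of odd order.
-/

set_option autoImplicit false

namespace Cfsg.Agent.Omega.EH3.RowS

open Subgroup

namespace Tri

variable {H V : Type*} [Group H] [AddCommGroup V] [Module (ZMod 2) V]
  {ρ : H →* (V ≃ₗ[ZMod 2] V)} {b : LinearMap.BilinForm (ZMod 2) V} {q : V → ZMod 2}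
  {a : V} {D : Submodule (ZMod 2) V} {X : Subgroup H} {w : ℕ} {L : Subgroup H} {d t : H}

variable (C : Cfg ρ b q a D X w) (S : Tri ρ X L d t)
include C S

theorem ρ₀_inj : Function.Injective (ρ₀ ρ d t) := by
  intro g h hgh
  have key : ∀ u ∈ UU ρ t, ρ (g : H) u = ρ (h : H) u := by
    intro u hu
    have h1 : ρ₀ ρ d t g ⟨u, hu⟩ = ρ₀ ρ d t h ⟨u, hu⟩ := by rw [hgh]
    exact congrArg Subtype.val h1
  apply Subtype.ext
  apply C.ext
  intro v
  obtain ⟨u1, h1, u2, h2, rfl⟩ := S.dec C v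
  rw [map_add, map_add, key u1 h1, comm_om g.2, comm_om h.2, key u2 h2]

/-- the projection of `V` onto `U` -/
def pr : V →ₗ[ZMod 2] UU ρ t where
  toFun v := ⟨v + ρ d (v + ρ t v), by
    have h := S.add_t_mem C v
    rw [mem_UU] at h ⊢
    rw [map_add, S.t_om C, h]
    have : ρ t v + (v + ρ t v + ρ d (v + ρ t v)) = v + ρ d (v + ρ t v) + (ρ t v + ρ t v) := by abel
    rw [this, C.add_self, add_zero]⟩
  map_add' u v := Subtype.ext (by
    show u + v + ρ d (u + v + ρ t (u + v)) = (u + ρ d (u + ρ t u)) + (v + ρ d (v + ρ t v))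
    simp only [map_add]; abel)
  map_smul' k v := Subtype.ext (by
    show k • v + ρ d (k • v + ρ t (k • v)) = k • (v + ρ d (v + ρ t v))
    simp only [map_add, map_smul, smul_add])

theorem pr_U {u : V} (hu : u ∈ UU ρ t) : S.pr C u = ⟨u, hu⟩ := Subtype.ext (by
  show u + ρ d (u + ρ t u) = u
  rw [mem_UU.1 hu, C.add_self, map_zero, add_zero])

omit C in
theorem perf (hq : IsQuasisimple L) :
    ⁅L.subgroupOf (HH d t), L.subgroupOf (HH d t)⁆ = L.subgroupOf (HH d t) := by
  have h1 : ⁅L, L⁆ = L := by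
    have h2 := hq.1.commutator_eq_top
    have h3 : (commutator L).map L.subtype = ⁅L, L⁆ := by
      rw [_root_.commutator_def, map_commutator, ← MonoidHom.range_eq_map, range_subtype]
    rw [← h3, h2, ← MonoidHom.range_eq_map, range_subtype]
  have hinj : Function.Injective (Subgroup.map (HH d t).subtype) :=
    Subgroup.map_injective (subtype_injective _)
  apply hinj
  rw [map_commutator, subgroupOf_map_subtype, inf_eq_left.2 S.L_le, h1]

/-- **the instance** -/
theorem ab (hN : L.Normal) (hq : IsQuasisimple L) (hZ : Odd (Nat.card (center L))) :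
    AB (ρ₀ ρ d t) (gam ρ b d t) (⟨a, S.a_mem C⟩ : UU ρ t) (X.subgroupOf (HH d t))
      (L.subgroupOf (HH d t)) where
  inj := S.ρ₀_inj C
  symm := fun u v => S.gam_symm C u.2 v.2
  nondeg := (S.scfg C hN hq).nondeg
  iso := (S.scfg C hN hq).B_inv
  card := by
    rw [S.card_U C]
    exact Nat.pow_le_pow_right (by norm_num) C.five
  a_iso := (S.scfg C hN hq).B_self _
  a_ne := (S.scfg C hN hq).a_ne
  X_norm := (S.scfg C hN hq).X_norm
  X_perp := (S.scfg C hN hq).X_perp
  X_all := by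
    intro ψ hψ
    obtain ⟨x, hx, h1⟩ := C.X_all (ψ.comp (S.pr C)) (by
      rw [LinearMap.comp_apply, S.pr_U C (S.a_mem C)]; exact hψ)
    obtain ⟨y, hy, hyH, -, h2⟩ := S.X_zero C hx
    refine ⟨⟨y, hyH⟩, hy, fun u hu => Subtype.ext ?_⟩
    show ρ y (u : V) = (u : V) + ψ u • a
    rw [h2 u u.2, h1 u (S.U_le_D C u.2 hu), LinearMap.comp_apply, S.pr_U C u.2]
  X_inj := (S.scfg C hN hq).X_semi
  L_norm := hN.subgroupOf _
  L_perf := S.perf hq
  L_simple := by
    intro N hNL hn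
    have h1 : ((N.map (HH d t).subtype).subgroupOf L).Normal := by
      constructor
      rintro ⟨n, hnL⟩ hn' ⟨l, hl⟩
      rw [mem_subgroupOf] at hn' ⊢
      obtain ⟨⟨n', hn'H⟩, hn'N, he⟩ := hn'
      have he' : n' = n := he
      subst he'
      exact ⟨_, hn ⟨l, S.L_le hl⟩ hl _ hn'N, rfl⟩
    rcases Cfsg.Agent.Lib.ComponentSolvable.quasisimple_normal_cases hq h1 with h2 | h2
    · left
      refine le_antisymm hNL ?_
      rintro ⟨l, hlH⟩ hl
      have hl' : l ∈ L := hl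
      have h3 : (⟨l, hl'⟩ : L) ∈ (N.map (HH d t).subtype).subgroupOf L := by rw [h2]; trivial
      rw [mem_subgroupOf] at h3
      obtain ⟨⟨n', hn'H⟩, hn'N, he⟩ := h3
      have he' : n' = l := he
      subst he'
      exact hn'N
    · right
      rintro ⟨n, hnH⟩ hnN ⟨l, hlH⟩ hl
      have hnL : n ∈ L := hNL hnN
      have hl' : l ∈ L := hl
      have h3 : (⟨n, hnL⟩ : L) ∈ center L := h2 ⟨_, hnN, rfl⟩
      have h4 : l * n = n * l := congrArg Subtype.val (mem_center_iff.1 h3 ⟨l, hl'⟩)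
      exact Subtype.ext h4
  L_odd := by
    rintro ⟨n, hnH⟩ hnL hc hnn
    have hnL' : n ∈ L := hnL
    have h3 : (⟨n, hnL'⟩ : L) ∈ center L := mem_center_iff.2 fun l => by
      have h1 : (l : H) * n = n * l := congrArg Subtype.val (hc ⟨l, S.L_le l.2⟩ l.2)
      exact Subtype.ext h1
    have hfin := C.finite_H
    have h4 : (⟨⟨n, hnL'⟩, h3⟩ : center L) ^ 2 = 1 := by
      have h1 : n * n = 1 := congrArg Subtype.val hnn
      rw [pow_two]
      exact Subtype.ext (Subtype.ext h1)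
    have h5 : orderOf (⟨⟨n, hnL'⟩, h3⟩ : center L) ∣ 2 := orderOf_dvd_of_pow_eq_one h4
    have h6 : orderOf (⟨⟨n, hnL'⟩, h3⟩ : center L) ∣ Nat.card (center L) := orderOf_dvd_natCard _
    have h7 : orderOf (⟨⟨n, hnL'⟩, h3⟩ : center L) = 1 := by
      have h8 := Nat.dvd_gcd h5 h6
      have h9 : Nat.gcd 2 (Nat.card (center L)) = 1 := (Nat.coprime_two_left).2 hZ
      rw [h9] at h8
      exact Nat.dvd_one.1 h8
    rw [orderOf_eq_one_iff] at h7
    exact Subtype.ext (congrArg (fun z : center L => ((z : L) : H)) h7)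
  cen := by
    rintro ⟨x, hxH⟩ hx hc
    have hxX : x ∈ X := hx
    rcases S.cent_X C hN hq hxX (fun l hl => congrArg Subtype.val (hc ⟨l, S.L_le hl⟩ hl)) with h | h
    · exact Subtype.ext h
    · exact absurd (h ▸ hxH) S.t_not_mem
  moves := by
    obtain ⟨l, hl, h⟩ := S.exists_move C hN hq
    exact ⟨⟨l, S.L_le hl⟩, hl, fun h' => h (congrArg Subtype.val h')⟩

end Tri

end Cfsg.Agent.Omega.EH3.RowS
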