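import Cfsg.Agent.Omega.EH3Close.Ext
import Cfsg.Agent.ParSys.FreeCount
import Cfsg.Agent.Nodes.TypeD

/-!
# RowS, BACK (helper73), part 7: the diagrams

`sumM M` : the Coxeter matrix of an isolated node and `M`; `eO r : Option (Unit ⊕ Fin r) ≃ Fin (r + 2)`.
`typeD_ext`, `typeB_ext` : joining the new node with the isolated node and the node `0` of `D_{n+2}`, `B_{m+1}` gives
`D_{n+4}`, `B_{m+3}`.
-/

set_option autoImplicit false

namespace Cfsg.Agent.Omega.EH3.RowS.Diag

open Cfsg.Agent.Omega.EH3Close Cfsg.Agent.ParSys.RootEpsBD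

/-- an isolated node and `M` -/
def sumM {J : Type*} (M : CoxeterMatrix J) : CoxeterMatrix (Unit ⊕ J) where
  M := Matrix.of fun
    | .inl _, .inl _ => 1
    | .inl _, .inr _ => 2
    | .inr _, .inl _ => 2
    | .inr i, .inr j => M i j
  isSymm := by
    ext i j
    rcases i with _ | i <;> rcases j with _ | j <;> try rfl
    exact M.symmetric j i
  diagonal i := by
    rcases i with _ | i
    · rfl
    · exact M.diagonal i
  off_diagonal i j hij := by
    rcases i with _ | i <;> rcases j with _ | j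
    · exact absurd rfl hij
    · show 2 ≠ 1
      decide
    · show 2 ≠ 1
      decide
    · exact M.off_diagonal i j fun h => hij (by rw [h])

variable {J : Type*} {M : CoxeterMatrix J}

theorem sumM_inl_inl (i j : Unit) : sumM M (.inl i) (.inl j) = 1 := rfl
theorem sumM_inl_inr (i : Unit) (j : J) : sumM M (.inl i) (.inr j) = 2 := rfl
theorem sumM_inr_inl (i : J) (j : Unit) : sumM M (.inr i) (.inl j) = 2 := rfl
theorem sumM_inr_inr (i j : J) : sumM M (.inr i) (.inr j) = M i j := rfl

/-- the numbering -/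
def eO (r : ℕ) : Option (Unit ⊕ Fin r) ≃ Fin (r + 2) where
  toFun
    | none => 1
    | some (.inl _) => 0
    | some (.inr j) => ⟨j + 2, by omega⟩
  invFun i := if h : (i : ℕ) < 2 then (if (i : ℕ) = 0 then some (.inl ()) else none) else some (.inr ⟨i - 2, by omega⟩)
  left_inv o := by
    rcases o with _ | ⟨_ | j⟩
    · rfl
    · rfl
    · simp
  right_inv i := by
    dsimp only
    by_cases h : (i : ℕ) < 2
    · rw [dif_pos h]
      by_cases h0 : (i : ℕ) = 0
      · rw [if_pos h0]; exact Fin.ext h0.symm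
      · rw [if_neg h0]
        exact Fin.ext (by show 1 = (i : ℕ); omega)
    · rw [dif_neg h]
      exact Fin.ext (by show (i : ℕ) - 2 + 2 = (i : ℕ); omega)

theorem eO_none (r : ℕ) : ((eO r none : Fin (r + 2)) : ℕ) = 1 := rfl
theorem eO_inl (r : ℕ) (u : Unit) : ((eO r (some (.inl u)) : Fin (r + 2)) : ℕ) = 0 := rfl
theorem eO_inr (r : ℕ) (j : Fin r) : ((eO r (some (.inr j)) : Fin (r + 2)) : ℕ) = j + 2 := rfl

/-- the new node is joined with the isolated node and with `0` -/
def jn (r : ℕ) : Finset (Unit ⊕ Fin (r + 1)) := {Sum.inl (), Sum.inr 0}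

theorem mem_jn_inl (r : ℕ) (u : Unit) : (Sum.inl u : Unit ⊕ Fin (r + 1)) ∈ jn r := by
  unfold jn; simp

theorem mem_jn_inr (r : ℕ) (j : Fin (r + 1)) : (Sum.inr j : Unit ⊕ Fin (r + 1)) ∈ jn r ↔ (j : ℕ) = 0 := by
  rw [jn, Finset.mem_insert, Finset.mem_singleton, Sum.inr.injEq, Fin.ext_iff]
  constructor
  · rintro (h | h)
    · exact absurd h (by simp)
    · exact h
  · exact fun h => Or.inr h

theorem typeD_ext (n : ℕ) (hn : 1 ≤ n) :
    TypeD (m := n + 2) ((extM (sumM (Nodes.TypeD.M n)) (jn (n + 1))).reindex (eO (n + 2))) := by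
  intro i j hij
  obtain ⟨i, rfl⟩ := (eO (n + 2)).surjective i
  obtain ⟨j, rfl⟩ := (eO (n + 2)).surjective j
  have hij' : i ≠ j := fun h => hij (by rw [h])
  rw [CoxeterMatrix.reindex_apply, Equiv.symm_apply_apply, Equiv.symm_apply_apply]
  rcases i with _ | ⟨_ | i⟩ <;> rcases j with _ | ⟨_ | j⟩
  · exact absurd rfl hij'
  · rw [extM_none_some, if_pos (mem_jn_inl _ _), eO_none, eO_inl]; simp
  · rw [extM_none_some, eO_none, eO_inr]
    simp only [mem_jn_inr]
    split_ifs <;> omega
  · rw [extM_some_none, if_pos (mem_jn_inl _ _), eO_none, eO_inl]; simp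
  · exact absurd rfl hij'
  · rw [extM_some_some, sumM_inl_inr, eO_inl, eO_inr, if_neg (by omega)]
  · rw [extM_some_none, eO_none, eO_inr]
    simp only [mem_jn_inr]
    split_ifs <;> omega
  · rw [extM_some_some, sumM_inr_inl, eO_inl, eO_inr, if_neg (by omega)]
  · have h1 : i ≠ j := fun h => hij' (by rw [h])
    rw [extM_some_some, sumM_inr_inr, eO_inr, eO_inr, Nodes.TypeD.M_apply, if_neg h1]
    have hi := i.2
    have hj := j.2
    refine if_congr ?_ rfl rfl
    simp only [Nodes.TypeD.Adj]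
    omega

theorem B_apply (n : ℕ) (i j : Fin n) : CoxeterMatrix.B n i j = if i = j then 1
    else (if (i : ℕ) = n - 1 ∧ (j : ℕ) = n - 2 ∨ (j : ℕ) = n - 1 ∧ (i : ℕ) = n - 2 then 4
      else (if (j : ℕ) + 1 = i ∨ (i : ℕ) + 1 = j then 3 else 2)) := rfl

theorem typeB_ext (m : ℕ) (hm : 1 ≤ m) :
    TypeB (m := m + 2) ((extM (sumM (CoxeterMatrix.B (m + 1))) (jn m)).reindex (eO (m + 1))) := by
  intro i j hij
  obtain ⟨i, rfl⟩ := (eO (m + 1)).surjective i
  obtain ⟨j, rfl⟩ := (eO (m + 1)).surjective j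
  have hij' : i ≠ j := fun h => hij (by rw [h])
  rw [CoxeterMatrix.reindex_apply, Equiv.symm_apply_apply, Equiv.symm_apply_apply]
  rcases i with _ | ⟨_ | i⟩ <;> rcases j with _ | ⟨_ | j⟩
  · exact absurd rfl hij'
  · rw [extM_none_some, if_pos (mem_jn_inl _ _), eO_none, eO_inl, if_neg (by omega), if_pos (by omega)]
  · rw [extM_none_some, eO_none, eO_inr]
    simp only [mem_jn_inr]
    split_ifs <;> omega
  · rw [extM_some_none, if_pos (mem_jn_inl _ _), eO_none, eO_inl, if_neg (by omega), if_pos (by omega)]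
  · exact absurd rfl hij'
  · rw [extM_some_some, sumM_inl_inr, eO_inl, eO_inr, if_neg (by omega), if_neg (by omega)]
  · rw [extM_some_none, eO_none, eO_inr]
    simp only [mem_jn_inr]
    split_ifs <;> omega
  · rw [extM_some_some, sumM_inr_inl, eO_inl, eO_inr, if_neg (by omega), if_neg (by omega)]
  · have h1 : i ≠ j := fun h => hij' (by rw [h])
    rw [extM_some_some, sumM_inr_inr, eO_inr, eO_inr, B_apply, if_neg h1]
    have hi := i.2
    have hj := j.2
    split_ifs <;> omega

end Cfsg.Agent.Omega.EH3.RowS.Diag
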