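import Mathlib.LinearAlgebra.BilinearForm.Orthogonal
import Mathlib.LinearAlgebra.Dual.Lemmas
import Mathlib.Data.ZMod.Basic
import Mathlib.Tactic

/-!
# EH3, row S (bb OMEGA #14257, #14554): the family theorem (helper754)

`FF U γ O f 𝒢`: a symplectic space `(U, γ)` over `ZMod 2` of dimension `≥ 5`, a spanning orbit `O` of the group `𝒢` of
isometries, for every `u ∈ O` a quadratic form `f u` on `u^⊥ / u` with polar form `γ`, such that the maps
`r u w (f u w) : v ↦ v + γ(u,v) w + γ(w,v) u + f(u,w) γ(u,v) u` (`u ∈ O`, `w ⊥ u`) lie in `𝒢`, and `f` is `𝒢`-equivariant.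

`FF.exists_Q`: there is a quadratic form `Q` with polar form `γ` which is preserved by `𝒢`, `O` = the nonzero singular
vectors, `f u w = Q w`.
-/

set_option autoImplicit false

namespace Cfsg.Agent.Omega.EH3.RowS

theorem z2 (c : ZMod 2) : c = 0 ∨ c = 1 := by revert c; decide

theorem z2_ne {c : ZMod 2} (h : c ≠ 0) : c = 1 := by revert c; decide

theorem z2_add (c : ZMod 2) : c + c = 0 := by revert c; decide

variable {U : Type*} [AddCommGroup U] [Module (ZMod 2) U]

theorem add_self (v : U) : v + v = 0 := by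
  have : v + v = (2 : ZMod 2) • v := by rw [two_smul]
  rw [this, show (2 : ZMod 2) = 0 from rfl, zero_smul]

theorem add_add_cancel (x y : U) : x + y + y = x := by
  rw [add_assoc, add_self, add_zero]

theorem add_eq_zero {x y : U} : x + y = 0 ↔ x = y := by
  constructor
  · intro h
    have := add_add_cancel x y
    rw [h, zero_add] at this
    exact this.symm
  · rintro rfl; exact add_self x

/-- a symplectic space over `ZMod 2` -/
structure Sy (γ : LinearMap.BilinForm (ZMod 2) U) : Prop where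
  alt : ∀ v, γ v v = 0
  nondeg : ∀ v, (∀ u, γ v u = 0) → v = 0

namespace Sy

variable {γ : LinearMap.BilinForm (ZMod 2) U}

theorem comm (S : Sy γ) (u v : U) : γ u v = γ v u := by
  have h := S.alt (u + v)
  rw [map_add, map_add, LinearMap.add_apply, LinearMap.add_apply, S.alt, S.alt, zero_add,
    add_zero] at h
  exact (CharTwo.add_eq_zero.1 h).symm

/-- every linear functional is `γ y` -/
theorem exists_rep [Finite U] (S : Sy γ) (φ : U →ₗ[ZMod 2] ZMod 2) : ∃ y, ∀ v, γ y v = φ v := by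
  have hinj : Function.Injective (γ : U →ₗ[ZMod 2] (U →ₗ[ZMod 2] ZMod 2)) := by
    rw [injective_iff_map_eq_zero]
    intro v hv
    exact S.nondeg v fun u => by rw [hv]; rfl
  have hfd : FiniteDimensional (ZMod 2) U := Module.Finite.of_finite
  have hsurj : Function.Surjective (γ : U →ₗ[ZMod 2] (U →ₗ[ZMod 2] ZMod 2)) :=
    (LinearMap.injective_iff_surjective_of_finrank_eq_finrank
      (by rw [Subspace.dual_finrank_eq] : Module.finrank (ZMod 2) U
        = Module.finrank (ZMod 2) (Module.Dual (ZMod 2) U))).1 hinj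
  obtain ⟨y, hy⟩ := hsurj φ
  exact ⟨y, fun v => by rw [hy]⟩

/-- separation -/
theorem exists_sep [Finite U] (S : Sy γ) {W : Submodule (ZMod 2) U} {v : U} (hv : v ∉ W) :
    ∃ y, γ y v = 1 ∧ ∀ u ∈ W, γ y u = 0 := by
  obtain ⟨φ, hφ, hW⟩ := Submodule.exists_le_ker_of_notMem hv
  obtain ⟨y, hy⟩ := S.exists_rep φ
  refine ⟨y, ?_, fun u hu => ?_⟩
  · rw [hy]; exact z2_ne hφ
  · rw [hy]; exact hW hu

theorem exists_one [Finite U] (S : Sy γ) {v : U} (hv : v ≠ 0) : ∃ y, γ y v = 1 := by
  obtain ⟨y, hy, -⟩ := S.exists_sep (W := ⊥) (v := v) (by simpa using hv)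
  exact ⟨y, hy⟩

theorem mem_pair {u v x : U} (h : x ∈ Submodule.span (ZMod 2) {u, v}) :
    x = 0 ∨ x = u ∨ x = v ∨ x = u + v := by
  obtain ⟨α, β, rfl⟩ := Submodule.mem_span_pair.1 h
  rcases z2 α with rfl | rfl <;> rcases z2 β with rfl | rfl <;> simp

theorem mem_single {u x : U} (h : x ∈ Submodule.span (ZMod 2) {u}) : x = 0 ∨ x = u := by
  obtain ⟨α, rfl⟩ := Submodule.mem_span_singleton.1 h
  rcases z2 α with rfl | rfl <;> simp

/-- `y ⊥ u`, `γ(y,v) = 1` for `v ∉ ⟨u⟩` -/
theorem exists_sep1 [Finite U] (S : Sy γ) {u v : U} (h0 : v ≠ 0) (h1 : v ≠ u) :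
    ∃ y, γ y v = 1 ∧ γ y u = 0 := by
  obtain ⟨y, hy, hW⟩ := S.exists_sep (W := Submodule.span (ZMod 2) {u}) (v := v)
    (fun h => (mem_single h).elim h0 h1)
  exact ⟨y, hy, hW u (Submodule.mem_span_singleton_self u)⟩

/-- `y ⊥ u₁, u₂`, `γ(y,v) = 1` for `v ∉ ⟨u₁, u₂⟩` -/
theorem exists_sep2 [Finite U] (S : Sy γ) {u₁ u₂ v : U} (h0 : v ≠ 0) (h1 : v ≠ u₁) (h2 : v ≠ u₂)
    (h3 : v ≠ u₁ + u₂) : ∃ y, γ y v = 1 ∧ γ y u₁ = 0 ∧ γ y u₂ = 0 := by
  obtain ⟨y, hy, hW⟩ := S.exists_sep (W := Submodule.span (ZMod 2) {u₁, u₂}) (v := v)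
    (fun h => by
      rcases mem_pair h with h | h | h | h
      · exact h0 h
      · exact h1 h
      · exact h2 h
      · exact h3 h)
  exact ⟨y, hy, hW _ (Submodule.subset_span (by simp)), hW _ (Submodule.subset_span (by simp))⟩

/-- two functionals prescribed on independent vectors -/
theorem exists_two [Finite U] (S : Sy γ) {u v : U} (hu : u ≠ 0) (hv : v ≠ 0) (huv : v ≠ u) (α β : ZMod 2) :
    ∃ y, γ y u = α ∧ γ y v = β := by
  obtain ⟨y1, h1, h2⟩ := S.exists_sep1 hv huv
  obtain ⟨y2, h3, h4⟩ := S.exists_sep1 hu (Ne.symm huv)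
  refine ⟨α • y2 + β • y1, ?_, ?_⟩ <;>
    simp only [map_add, map_smul, LinearMap.add_apply, LinearMap.smul_apply, h1, h2, h3, h4, smul_eq_mul] <;>
    ring

/-- in dimension `≥ 5` the space `⟨u,v⟩^⊥` contains `w, w'` with `γ(w,w') = 1` -/
theorem exists_hyp [Finite U] (S : Sy γ) (hd : 2 ^ 5 ≤ Nat.card U) (u v : U) :
    ∃ w w', γ u w = 0 ∧ γ v w = 0 ∧ γ u w' = 0 ∧ γ v w' = 0 ∧ γ w w' = 1 := by
  classical
  -- the map `U → ZMod 2 × ZMod 2`
  have hfd : FiniteDimensional (ZMod 2) U := Module.Finite.of_finite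
  let P : Submodule (ZMod 2) U := (LinearMap.ker (γ u)) ⊓ (LinearMap.ker (γ v))
  have hP : ∀ x, x ∈ P ↔ γ u x = 0 ∧ γ v x = 0 := fun x => by
    simp [P, Submodule.mem_inf, LinearMap.mem_ker]
  -- `|P| ≥ 8`
  have hcardP : 8 ≤ Nat.card P := by
    let g : U →ₗ[ZMod 2] (ZMod 2 × ZMod 2) := (γ u).prod (γ v)
    have hker : LinearMap.ker g = P := by
      ext x
      rw [hP, LinearMap.mem_ker, LinearMap.prod_apply, Prod.ext_iff]
      exact Iff.rfl
    have h1 := Submodule.card_eq_card_quotient_mul_card (LinearMap.ker g)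
    have h2 : Nat.card (U ⧸ LinearMap.ker g) ≤ 4 := by
      have h3 : Nat.card (U ⧸ LinearMap.ker g) = Nat.card (LinearMap.range g) :=
        Nat.card_congr g.quotKerEquivRange.toEquiv
      rw [h3]
      have h4 : Nat.card (LinearMap.range g) ≤ Nat.card (ZMod 2 × ZMod 2) :=
        Nat.card_le_card_of_injective _ Subtype.val_injective
      have h5 : Nat.card (ZMod 2 × ZMod 2) = 4 := by
        rw [Nat.card_prod, Nat.card_zmod]
      omega
    rw [hker] at h1 h2
    by_contra hcon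
    push Not at hcon
    have : Nat.card U < 2 ^ 5 := by
      rw [h1]
      calc Nat.card P * Nat.card (U ⧸ P) ≤ Nat.card P * 4 := Nat.mul_le_mul_left _ h2
        _ < 2 ^ 5 := by omega
    omega
  -- an element of `P` outside `⟨u, v⟩`
  obtain ⟨w, hw, hn⟩ : ∃ w ∈ P, w ∉ Submodule.span (ZMod 2) {u, v} := by
    by_contra hcon
    push Not at hcon
    have hle : P ≤ Submodule.span (ZMod 2) {u, v} := hcon
    have h1 : Nat.card P ≤ 4 := by
      let S4 : Finset U := {0, u, v, u + v}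
      have h2 : ∀ x : P, (x : U) ∈ S4 := by
        intro x
        have := mem_pair (hle x.2)
        simpa [S4] using this
      have h3 : Nat.card P ≤ Nat.card S4 :=
        Nat.card_le_card_of_injective (fun x : P => (⟨(x : U), h2 x⟩ : S4)) (fun x y h => by
          have := congrArg (Subtype.val) h
          exact Subtype.ext this)
      have h4 : Nat.card S4 = S4.card := by simp
      have h5 : S4.card ≤ 4 := Finset.card_le_four
      omega
    omega
  obtain ⟨w', h1, h2, h3⟩ := S.exists_sep2 (u₁ := u) (u₂ := v) (v := w)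
    (fun h => hn (h ▸ Submodule.zero_mem _)) (fun h => hn (h ▸ Submodule.subset_span (by simp)))
    (fun h => hn (h ▸ Submodule.subset_span (by simp)))
    (fun h => hn (h ▸ Submodule.add_mem _ (Submodule.subset_span (by simp)) (Submodule.subset_span (by simp))))
  exact ⟨w, w', ((hP w).1 hw).1, ((hP w).1 hw).2, by rw [S.comm]; exact h2, by rw [S.comm]; exact h3,
    by rw [S.comm]; exact h1⟩

end Sy

/-- the map `v ↦ v + γ(u,v) w + γ(w,v) u + l γ(u,v) u` -/
def rr (γ : LinearMap.BilinForm (ZMod 2) U) (u w : U) (l : ZMod 2) (v : U) : U :=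
  v + γ u v • w + γ w v • u + (l * γ u v) • u

/-- the family -/
structure FF (γ : LinearMap.BilinForm (ZMod 2) U) (O : Set U) (f : U → U → ZMod 2)
    (𝒢 : Subgroup (U ≃ₗ[ZMod 2] U)) : Prop where
  sy : Sy γ
  card : 2 ^ 5 ≤ Nat.card U
  zero : (0 : U) ∉ O
  span : Submodule.span (ZMod 2) O = ⊤
  iso : ∀ g ∈ 𝒢, ∀ u v, γ (g u) (g v) = γ u v
  mem : ∀ g ∈ 𝒢, ∀ u ∈ O, g u ∈ O
  trans : ∀ u ∈ O, ∀ v ∈ O, ∃ g ∈ 𝒢, g u = v
  f_add : ∀ u ∈ O, ∀ w w', γ u w = 0 → γ u w' = 0 → f u (w + w') = f u w + f u w' + γ w w'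
  f_self : ∀ u ∈ O, f u u = 0
  f_eqv : ∀ g ∈ 𝒢, ∀ u ∈ O, ∀ w, γ u w = 0 → f (g u) (g w) = f u w
  r_mem : ∀ u ∈ O, ∀ w, γ u w = 0 → ∃ g ∈ 𝒢, ∀ v, g v = rr γ u w (f u w) v

namespace FF

variable {γ : LinearMap.BilinForm (ZMod 2) U} {O : Set U} {f : U → U → ZMod 2} {𝒢 : Subgroup (U ≃ₗ[ZMod 2] U)}

theorem finite (F : FF γ O f 𝒢) : Finite U :=
  Nat.finite_of_card_ne_zero (by have := F.card; omega)

theorem f_zero (F : FF γ O f 𝒢) {u : U} (hu : u ∈ O) : f u 0 = 0 := by
  have h := F.f_add u hu 0 0 (by simp) (by simp)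
  rw [add_zero, map_zero] at h
  simp only [add_zero] at h
  have h2 := z2_add (f u 0)
  rw [h2] at h
  exact h

theorem r_O (F : FF γ O f 𝒢) {u w v : U} (hu : u ∈ O) (hw : γ u w = 0) (hv : v ∈ O) :
    rr γ u w (f u w) v ∈ O := by
  obtain ⟨g, hg, he⟩ := F.r_mem u hu w hw
  rw [← he]
  exact F.mem g hg v hv

theorem exists_off (F : FF γ O f 𝒢) {u : U} (hu : u ∈ O) : ∃ c ∈ O, γ u c = 1 := by
  by_contra hcon
  push Not at hcon
  have h1 : ∀ c ∈ O, γ u c = 0 := fun c hc => (z2 _).resolve_right (hcon c hc)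
  have h2 : (⊤ : Submodule (ZMod 2) U) ≤ LinearMap.ker (γ u) := by
    rw [← F.span, Submodule.span_le]
    intro c hc
    exact h1 c hc
  exact F.zero (F.sy.nondeg u (fun v => h2 (Submodule.mem_top)) ▸ hu)

/-- all vectors off `u^⊥` in `O` for one `u ∈ O`: `O` is the set of all nonzero vectors -/
theorem full_of (F : FF γ O f 𝒢) {u : U} (hu : u ∈ O) (h : ∀ v, γ u v = 1 → v ∈ O) :
    ∀ v, v ≠ 0 → v ∈ O := by
  have := F.finite
  -- transport
  have h' : ∀ u' ∈ O, ∀ v, γ u' v = 1 → v ∈ O := by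
    intro u' hu' v hv
    obtain ⟨g, hg, rfl⟩ := F.trans u hu u' hu'
    have h1 : v = g (g⁻¹ v) := by
      rw [← LinearEquiv.mul_apply, mul_inv_cancel]; rfl
    rw [h1]
    refine F.mem g hg _ (h _ ?_)
    rw [h1, F.iso g hg] at hv
    exact hv
  intro v hv
  have hu0 : u ≠ 0 := fun h0 => F.zero (h0 ▸ hu)
  by_cases hvu : v = u
  · rw [hvu]; exact hu
  obtain ⟨y, h1, h2⟩ := F.sy.exists_two hu0 hv hvu 1 1
  exact h' y (h y (by rw [F.sy.comm]; exact h1)) v h2

/-- `O` is not the set of all nonzero vectors -/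
theorem not_full (F : FF γ O f 𝒢) (hO : ∀ v, v ≠ 0 → v ∈ O) : False := by
  have := F.finite
  have S := F.sy
  have hne : ∀ v ∈ O, v ≠ 0 := fun v hv h0 => F.zero (h0 ▸ hv)
  -- transvections
  have htv : ∀ t : U, t ≠ 0 → (∃ g ∈ 𝒢, ∀ v, g v = v + γ t v • t) → False := by
    intro t ht ⟨g, hg, he⟩
    -- all transvections are in `𝒢`
    have hall : ∀ s, s ≠ 0 → ∃ g ∈ 𝒢, ∀ v, g v = v + γ s v • s := by
      intro s hs
      obtain ⟨k, hk, rfl⟩ := F.trans t (hO t ht) s (hO s hs)
      refine ⟨k * g * k⁻¹, mul_mem (mul_mem hk hg) (inv_mem hk), fun v => ?_⟩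
      have h1 : k (k⁻¹ v) = v := by
        rw [← LinearEquiv.mul_apply, mul_inv_cancel]; rfl
      rw [LinearEquiv.mul_apply, LinearEquiv.mul_apply, he, map_add, h1, map_smul]
      congr 2
      rw [← F.iso k hk, h1]
    -- choose `u`, `w, w'` in `u^⊥`
    obtain ⟨c, d, -, -, -, -, hcd⟩ := S.exists_hyp F.card t t
    have hu := hO t ht
    -- every `v ∈ u^⊥`, not in `⟨u⟩`, has `f u v = 1`
    have key : ∀ v, γ t v = 0 → v ≠ 0 → v ≠ t → f t v = 1 := by
      intro v hv h0 h1
      obtain ⟨y, h2, h3⟩ := S.exists_sep1 h0 h1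
      obtain ⟨g', hg', he'⟩ := hall v h0
      have hty : γ t y = 0 := by rw [S.comm]; exact h3
      have h4 := F.f_eqv g' hg' t hu y hty
      rw [he', he', S.comm v t, hv, zero_smul, add_zero, S.comm v y, h2, one_smul,
        F.f_add t hu y v hty hv, h2] at h4
      rcases z2 (f t v) with h5 | h5
      · rw [h5, add_zero] at h4
        exfalso
        have : (1 : ZMod 2) = 0 := by
          calc (1 : ZMod 2) = f t y + (f t y + 1) := by rw [← add_assoc, z2_add, zero_add]
            _ = f t y + f t y := by rw [h4]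
            _ = 0 := z2_add _
        exact absurd this (by decide)
      · exact h5
    -- `v, v' ∈ u^⊥` perpendicular
    obtain ⟨v, v1, h1, -, h2, -, h3⟩ := S.exists_hyp F.card t t
    have hv0 : v ≠ 0 := by rintro rfl; simp at h3
    have hvt : v ≠ t := by
      rintro rfl
      rw [h2] at h3
      exact absurd h3 (by decide)
    -- `v' ⊥ t, v`, not in `⟨t, v⟩`
    obtain ⟨x, x', h4, h5, -, -, h6⟩ := S.exists_hyp F.card t v
    -- `x ⊥ t, v`; `x ∉ ⟨t, v⟩`
    obtain ⟨x2, x3, h7, h8, h9, h10, h11⟩ := S.exists_hyp F.card t v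
    have e1 : γ t x2 = 0 := h7
    have hx0 : x2 ≠ 0 := by rintro rfl; simp at h11
    have hxt : x2 ≠ t := by
      rintro rfl
      rw [h9] at h11
      exact absurd h11 (by decide)
    have hxv : x2 ≠ v := by
      rintro rfl
      rw [h10] at h11
      exact absurd h11 (by decide)
    have hxs : v + x2 ≠ t := by
      intro h
      have h12 : γ (v + x2) x3 = 1 := by
        rw [map_add, LinearMap.add_apply, h10, h11, zero_add]
      rw [h, h9] at h12
      exact absurd h12 (by decide)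
    have h12 := F.f_add t hu v x2 h1 h7
    rw [key v h1 hv0 hvt, key x2 h7 hx0 hxt, h8,
      key (v + x2) (by rw [map_add, h1, h7, add_zero]) (fun h => hxv (add_eq_zero.1 h).symm) hxs] at h12
    exact absurd h12 (by decide)
  -- symmetry of `f`
  have hsym0 : ∀ u w, u ≠ 0 → w ≠ 0 → γ u w = 0 → f u w = 0 → f w u = 0 := by
    intro u w hu hw huw h0
    rcases z2 (f w u) with h1 | h1
    · exact h1
    · exfalso
      obtain ⟨g, hg, he⟩ := F.r_mem u (hO u hu) w huw
      obtain ⟨k, hk, hek⟩ := F.r_mem w (hO w hw) u (by rw [S.comm]; exact huw)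
      apply htv w hw
      refine ⟨g * k, mul_mem hg hk, fun v => ?_⟩
      rw [LinearEquiv.mul_apply, hek, he, h0, h1]
      simp only [rr, zero_mul, zero_smul, add_zero, one_mul, map_add, map_smul, huw, S.alt,
        smul_eq_mul, mul_zero, S.comm w u]
      have e1 : γ u v • w + γ u v • w = 0 := add_self _
      have e2 : γ w v • u + γ w v • u = 0 := add_self _
      calc v + γ w v • u + γ u v • w + γ w v • w + γ u v • w + γ w v • u
          = v + γ w v • w + (γ u v • w + γ u v • w) + (γ w v • u + γ w v • u) := by abel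
        _ = _ := by rw [e1, e2, add_zero, add_zero]
  have hsym : ∀ u w, u ≠ 0 → w ≠ 0 → γ u w = 0 → f w u = f u w := by
    intro u w hu hw huw
    rcases z2 (f u w) with h1 | h1
    · rw [h1]; exact hsym0 u w hu hw huw h1
    · rcases z2 (f w u) with h2 | h2
      · have := hsym0 w u hw hu (by rw [S.comm]; exact huw) h2
        rw [h1] at this
        exact absurd this (by decide)
      · rw [h1, h2]
  -- the final contradiction
  obtain ⟨c, d, -, -, -, -, hcd⟩ := S.exists_hyp F.card 0 0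
  have hc0 : c ≠ 0 := by rintro rfl; simp at hcd
  -- `v ⊥ c`, independent
  obtain ⟨v, v1, h1, -, h2, -, h3⟩ := S.exists_hyp F.card c c
  have hv0 : v ≠ 0 := by rintro rfl; simp at h3
  have hvc : v ≠ c := by
    rintro rfl
    rw [h2] at h3
    exact absurd h3 (by decide)
  have hcv : c + v ≠ 0 := fun h => hvc (add_eq_zero.1 h).symm
  obtain ⟨w, w', h4, h5, h6, h7, h8⟩ := S.exists_hyp F.card c v
  have hw0 : w ≠ 0 := by rintro rfl; simp at h8
  have hw'0 : w' ≠ 0 := by rintro rfl; simp at h8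
  have hww : w + w' ≠ 0 := by
    intro h
    rw [add_eq_zero.1 h, S.alt] at h8
    exact absurd h8 (by decide)
  have lin : ∀ y, y ≠ 0 → γ c y = 0 → γ v y = 0 → f (c + v) y = f c y + f v y := by
    intro y hy h9 h10
    rw [← hsym (c + v) y hcv hy (by rw [map_add, LinearMap.add_apply, h9, h10, add_zero]),
      F.f_add y (hO y hy) c v (by rw [S.comm]; exact h9) (by rw [S.comm]; exact h10), h1,
      hsym c y hc0 hy h9, hsym v y hv0 hy h10, add_zero]
  have e1 := lin w hw0 h4 h5
  have e2 := lin w' hw'0 h6 h7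
  have e3 := lin (w + w') hww (by rw [map_add, h4, h6, add_zero]) (by rw [map_add, h5, h7, add_zero])
  rw [F.f_add (c + v) (hO _ hcv) w w' (by rw [map_add, LinearMap.add_apply, h4, h5, add_zero])
    (by rw [map_add, LinearMap.add_apply, h6, h7, add_zero]), F.f_add c (hO _ hc0) w w' h4 h6,
    F.f_add v (hO _ hv0) w w' h5 h7, e1, e2, h8] at e3
  have : (1 : ZMod 2) = 0 := by
    have h9 : f c w + f v w + (f c w' + f v w') + 1 = f c w + f v w + (f c w' + f v w') := by
      rw [e3]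
      have : (1 : ZMod 2) + 1 = 0 := by decide
      calc f c w + f c w' + 1 + (f v w + f v w' + 1)
          = f c w + f v w + (f c w' + f v w') + (1 + 1) := by ring
        _ = _ := by rw [this, add_zero]
    exact left_eq_add.1 h9.symm |>.symm ▸ rfl
  exact absurd this (by decide)

/-- `c + u ∉ O` for `u, c ∈ O`, `γ(u,c) = 1` -/
theorem add_notMem (F : FF γ O f 𝒢) {u c : U} (hu : u ∈ O) (hc : c ∈ O) (huc : γ u c = 1) : c + u ∉ O := by
  intro h
  have S := F.sy
  apply F.not_full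
  apply F.full_of hu
  intro v hv
  -- `v = c + y + λ u`
  set y := v + c + γ v c • u with hy
  have hcu : γ c u = 1 := by rw [S.comm]; exact huc
  have h1 : γ u y = 0 := by
    rw [hy, map_add, map_add, map_smul, hv, huc, S.alt, smul_zero, add_zero]; decide
  have h2 : γ c y = 0 := by
    rw [hy, map_add, map_add, map_smul, S.alt, hcu, S.comm v c, smul_eq_mul, mul_one, add_zero, z2_add]
  have h3 := F.r_O hu h1 hc
  have h4 := F.r_O hu h1 h
  have e3 : rr γ u y (f u y) c = v + (γ v c + f u y) • u := by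
    rw [rr, huc, one_smul, S.comm y c, h2, zero_smul, add_zero, mul_one, hy, add_smul]
    calc c + (v + c + γ v c • u) + f u (v + c + γ v c • u) • u
        = v + (c + c) + (γ v c • u + f u (v + c + γ v c • u) • u) := by abel
      _ = _ := by rw [add_self, add_zero]
  have e4 : rr γ u y (f u y) (c + u) = v + (γ v c + f u y + 1) • u := by
    rw [rr, map_add, huc, S.alt, add_zero, one_smul, map_add, S.comm y c, h2, S.comm y u, h1, add_zero,
      zero_smul, add_zero, mul_one, hy, add_smul, add_smul, one_smul]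
    calc c + u + (v + c + γ v c • u) + f u (v + c + γ v c • u) • u
        = v + (c + c) + (γ v c • u + f u (v + c + γ v c • u) • u + u) := by abel
      _ = _ := by rw [add_self, add_zero]
  rcases z2 (γ v c + f u y) with h5 | h5
  · rw [e3, h5, zero_smul, add_zero] at h3
    exact h3
  · rw [e4, h5, show (1 : ZMod 2) + 1 = 0 by decide, zero_smul, add_zero] at h4
    exact h4

/-- `f u = f c` on `⟨u, c⟩^⊥` -/
theorem f_eq (F : FF γ O f 𝒢) {u c w : U} (hu : u ∈ O) (hc : c ∈ O) (huc : γ u c = 1) (huw : γ u w = 0)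
    (hcw : γ c w = 0) : f u w = f c w := by
  have S := F.sy
  have hcu : γ c u = 1 := by rw [S.comm]; exact huc
  have key : ∀ u c, u ∈ O → c ∈ O → γ u c = 1 → γ u w = 0 → γ c w = 0 → f c w = 1 → f u w = 1 := by
    intro u c hu hc huc huw hcw h1
    rcases z2 (f u w) with h2 | h2
    · exfalso
      have hcu : γ c u = 1 := by rw [S.comm]; exact huc
      have h3 := F.r_O hc hcw hu
      have h4 := F.r_O hu huw h3
      apply F.add_notMem hu hc huc
      have e : rr γ u w (f u w) (rr γ c w (f c w) u) = c + u := by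
        rw [h1, h2]
        simp only [rr, hcu, one_smul, S.comm w u, huw, zero_smul, add_zero, mul_one,
          map_add, S.alt, huc, zero_add, hcw, S.comm w c]
        calc u + w + c + w = c + u + (w + w) := by abel
          _ = _ := by rw [add_self, add_zero]
      rw [e] at h4
      exact h4
    · exact h2
  rcases z2 (f u w) with h1 | h1 <;> rcases z2 (f c w) with h2 | h2
  · rw [h1, h2]
  · rw [key u c hu hc huc huw hcw h2, h2]
  · rw [h1, key c u hc hu hcu hcw huw h1]
  · rw [h1, h2]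

/-- the quadratic form of a hyperbolic pair -/
def QQ (γ : LinearMap.BilinForm (ZMod 2) U) (f : U → U → ZMod 2) (u c : U) (v : U) : ZMod 2 :=
  γ v c * γ u v + f u (v + γ v c • u + γ u v • c)

theorem QQ_proj (F : FF γ O f 𝒢) {u c : U} (huc : γ u c = 1) (v : U) :
    γ u (v + γ v c • u + γ u v • c) = 0 ∧ γ c (v + γ v c • u + γ u v • c) = 0 := by
  have S := F.sy
  have hcu : γ c u = 1 := by rw [S.comm]; exact huc
  refine ⟨?_, ?_⟩
  · rw [map_add, map_add, map_smul, map_smul, S.alt, huc, smul_zero, add_zero, smul_eq_mul, mul_one, z2_add]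
  · rw [map_add, map_add, map_smul, map_smul, S.alt, hcu, smul_zero, add_zero, smul_eq_mul, mul_one, S.comm v c,
      z2_add]

theorem QQ_add (F : FF γ O f 𝒢) {u c : U} (hu : u ∈ O) (huc : γ u c = 1) (v v' : U) :
    QQ γ f u c (v + v') = QQ γ f u c v + QQ γ f u c v' + γ v v' := by
  have S := F.sy
  have hcu : γ c u = 1 := by rw [S.comm]; exact huc
  have e : v + v' + γ (v + v') c • u + γ u (v + v') • c
      = (v + γ v c • u + γ u v • c) + (v' + γ v' c • u + γ u v' • c) := by
    rw [map_add, map_add, LinearMap.add_apply, add_smul, add_smul]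
    abel
  have e2 : γ (v + γ v c • u + γ u v • c) (v' + γ v' c • u + γ u v' • c)
      = γ v v' + γ v c * γ u v' + γ u v * γ v' c := by
    simp only [map_add, map_smul, LinearMap.add_apply, LinearMap.smul_apply, smul_eq_mul, S.alt, huc, hcu,
      mul_one, mul_zero, add_zero, S.comm v u, S.comm c v']
    have h2 := z2_add (γ v c * γ u v')
    have h3 := z2_add (γ u v * γ v' c)
    linear_combination h2 + h3
  simp only [QQ]
  rw [e, F.f_add u hu _ _ (F.QQ_proj huc v).1 (F.QQ_proj huc v').1, e2]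
  simp only [map_add, LinearMap.add_apply]
  have h2 := z2_add (γ v c * γ u v')
  have h3 := z2_add (γ u v * γ v' c)
  linear_combination h2 + h3

theorem QQ_u (F : FF γ O f 𝒢) {u c : U} (hu : u ∈ O) (huc : γ u c = 1) : QQ γ f u c u = 0 := by
  have S := F.sy
  rw [QQ, S.alt, mul_zero, huc, one_smul, zero_smul, add_zero, add_self, F.f_zero hu, add_zero]

theorem QQ_perp (F : FF γ O f 𝒢) {u c : U} (hu : u ∈ O) {w : U} (hw : γ u w = 0) :
    QQ γ f u c w = f u w := by
  have S := F.sy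
  have h : QQ γ f u c w = f u w + f u (γ w c • u) + γ w (γ w c • u) := by
    rw [QQ, hw, mul_zero, zero_smul, add_zero, zero_add,
      F.f_add u hu w (γ w c • u) hw (by rw [map_smul, S.alt, smul_zero])]
  rw [h, map_smul, S.comm w u, hw, smul_zero, add_zero]
  rcases z2 (γ w c) with h1 | h1
  · rw [h1, zero_smul, F.f_zero hu, add_zero]
  · rw [h1, one_smul, F.f_self u hu, add_zero]

theorem QQ_c (F : FF γ O f 𝒢) {u c : U} (hu : u ∈ O) (huc : γ u c = 1) : QQ γ f u c c = 0 := by
  have S := F.sy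
  rw [QQ, S.alt, zero_mul, huc, one_smul, zero_smul, add_zero, add_self, F.f_zero hu, add_zero]

theorem QQ_perp' (F : FF γ O f 𝒢) {u c : U} (hu : u ∈ O) (hc : c ∈ O) (huc : γ u c = 1) {w : U}
    (hw : γ c w = 0) : QQ γ f u c w = f c w := by
  have S := F.sy
  have h1 := F.QQ_proj huc w
  rw [S.comm w c, hw, zero_smul, add_zero] at h1
  rw [QQ, S.comm w c, hw, zero_mul, zero_add, zero_smul, add_zero,
    F.f_eq hu hc huc h1.1 h1.2, F.f_add c hc w _ hw (by rw [map_smul, S.alt, smul_zero]), map_smul,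
    S.comm w c, hw, smul_zero, add_zero]
  rcases z2 (γ u w) with h2 | h2
  · rw [h2, zero_smul, F.f_zero hc, add_zero]
  · rw [h2, one_smul, F.f_self c hc, add_zero]

end FF

/-- a quadratic form with polar form `γ` -/
structure IsQ (γ : LinearMap.BilinForm (ZMod 2) U) (Q : U → ZMod 2) : Prop where
  add : ∀ v v', Q (v + v') = Q v + Q v' + γ v v'

theorem IsQ.zero {γ : LinearMap.BilinForm (ZMod 2) U} {Q : U → ZMod 2} (h : IsQ γ Q) : Q 0 = 0 := by
  have h1 := h.add 0 0
  rw [add_zero, map_zero, z2_add] at h1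
  simpa using h1

theorem IsQ.smul {γ : LinearMap.BilinForm (ZMod 2) U} {Q : U → ZMod 2} (h : IsQ γ Q) (α : ZMod 2) (v : U) :
    Q (α • v) = α * Q v := by
  rcases z2 α with rfl | rfl
  · rw [zero_smul, h.zero, zero_mul]
  · rw [one_smul, one_mul]

/-- the Siegel map preserves `Q` -/
theorem IsQ.rr {γ : LinearMap.BilinForm (ZMod 2) U} {Q : U → ZMod 2} (h : IsQ γ Q) (S : Sy γ) {u w : U}
    (hu : Q u = 0) (hw : γ u w = 0) (v : U) : Q (rr γ u w (Q w) v) = Q v := by
  rw [RowS.rr, h.add, h.add, h.add, h.smul, h.smul, h.smul, hu]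
  simp only [map_add, map_smul, LinearMap.add_apply, LinearMap.smul_apply, smul_eq_mul, S.alt, hw,
    mul_zero, add_zero, S.comm v u, S.comm v w, S.comm w u]
  have h1 : γ u v * γ u v = γ u v := by rcases z2 (γ u v) with h | h <;> rw [h] <;> decide
  have h2 := z2_add (γ u v * Q w)
  have h3 := z2_add (γ u v * γ w v)
  linear_combination h2 + h3 + Q w * h1

namespace FF

variable {γ : LinearMap.BilinForm (ZMod 2) U} {O : Set U} {f : U → U → ZMod 2} {𝒢 : Subgroup (U ≃ₗ[ZMod 2] U)}

theorem mem_iff_off (F : FF γ O f 𝒢) {u c : U} (hu : u ∈ O) (hc : c ∈ O) (huc : γ u c = 1) {v : U}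
    (hv : γ u v = 1) : v ∈ O ↔ QQ γ f u c v = 0 := by
  have S := F.sy
  have hcu : γ c u = 1 := by rw [S.comm]; exact huc
  set y := v + c + γ v c • u with hy
  have h1 : γ u y = 0 := by
    rw [hy, map_add, map_add, map_smul, hv, huc, S.alt, smul_zero, add_zero]; decide
  have h2 : γ c y = 0 := by
    rw [hy, map_add, map_add, map_smul, S.alt, hcu, S.comm v c, smul_eq_mul, mul_one, add_zero, z2_add]
  have hQ : QQ γ f u c v = γ v c + f u y := by
    rw [QQ, hv, mul_one, one_smul, hy]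
    congr 2
    abel
  have e3 : rr γ u y (f u y) c = v + QQ γ f u c v • u := by
    rw [hQ, rr, huc, one_smul, S.comm y c, h2, zero_smul, add_zero, mul_one, add_smul]
    calc c + y + f u y • u = v + (c + c) + (γ v c • u + f u y • u) := by
          nth_rewrite 1 [hy]; abel
      _ = _ := by rw [add_self, add_zero]
  have e4 : rr γ u y (f u y) v = c + QQ γ f u c v • u := by
    have hyv : γ y v = 0 := by
      rw [S.comm, hy, map_add, map_add, map_smul, S.alt, zero_add, S.comm v u, hv, smul_eq_mul, mul_one]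
      exact z2_add _
    rw [hQ, rr, hv, one_smul, mul_one, hyv, add_smul, zero_smul, add_zero]
    calc v + y + f u y • u = c + (v + v) + (γ v c • u + f u y • u) := by
          nth_rewrite 1 [hy]; abel
      _ = _ := by rw [add_self, add_zero]
  rcases z2 (QQ γ f u c v) with h5 | h5
  · rw [h5, zero_smul, add_zero] at e3
    refine ⟨fun _ => h5, fun _ => ?_⟩
    rw [← e3]
    exact F.r_O hu h1 hc
  · refine ⟨fun h => ?_, fun h => by rw [h5] at h; exact absurd h (by decide)⟩
    exfalso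
    rw [h5, one_smul] at e4
    apply F.add_notMem hu hc huc
    rw [← e4]
    exact F.r_O hu h1 h

theorem isQ_QQ (F : FF γ O f 𝒢) {u c : U} (hu : u ∈ O) (huc : γ u c = 1) : IsQ γ (QQ γ f u c) :=
  ⟨F.QQ_add hu huc⟩

theorem QQ_swap (F : FF γ O f 𝒢) {u c : U} (hu : u ∈ O) (hc : c ∈ O) (huc : γ u c = 1) (v : U) :
    QQ γ f c u v = QQ γ f u c v := by
  have S := F.sy
  have h1 := F.QQ_proj huc v
  rw [QQ, QQ, F.f_eq hu hc huc h1.1 h1.2, S.comm v u, S.comm v c, mul_comm]
  congr 2
  abel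

theorem mem_iff (F : FF γ O f 𝒢) {u c : U} (hu : u ∈ O) (hc : c ∈ O) (huc : γ u c = 1) {v : U}
    (hv : v ≠ 0) : v ∈ O ↔ QQ γ f u c v = 0 := by
  have := F.finite
  have S := F.sy
  have hcu : γ c u = 1 := by rw [S.comm]; exact huc
  rcases z2 (γ u v) with h1 | h1
  · rcases z2 (γ c v) with h2 | h2
    · have hu0 : u ≠ 0 := fun h0 => F.zero (h0 ▸ hu)
      have hvu : v ≠ u := by
        rintro rfl
        rw [hcu] at h2
        exact absurd h2 (by decide)
      obtain ⟨y, h3, h4⟩ := S.exists_two hu0 hv hvu 0 1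
      have huy : γ u y = 0 := by rw [S.comm]; exact h3
      obtain ⟨g, hg, he⟩ := F.r_mem u hu y huy
      have h5 : g v = v + u := by
        rw [he, rr, h1, h4, zero_smul, add_zero, one_smul, mul_zero, zero_smul, add_zero]
      have h6 : v ∈ O ↔ v + u ∈ O := by
        rw [← h5]
        refine ⟨fun h => F.mem g hg v h, fun h => ?_⟩
        have h7 := F.mem g⁻¹ (inv_mem hg) _ h
        rwa [← LinearEquiv.mul_apply, inv_mul_cancel] at h7
      have h7 : γ c (v + u) = 1 := by rw [map_add, h2, hcu, zero_add]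
      rw [h6, F.mem_iff_off hc hu hcu h7, F.QQ_swap hu hc huc, F.QQ_add hu huc, F.QQ_u hu huc, S.comm v u, h1,
        add_zero, add_zero]
    · rw [F.mem_iff_off hc hu hcu h2, F.QQ_swap hu hc huc]
  · exact F.mem_iff_off hu hc huc h1

/-- **the family theorem** -/
theorem exists_Q (F : FF γ O f 𝒢) : ∃ Q : U → ZMod 2, IsQ γ Q ∧ (∀ v, v ∈ O ↔ v ≠ 0 ∧ Q v = 0) ∧
    (∀ g ∈ 𝒢, ∀ v, Q (g v) = Q v) ∧ ∀ u ∈ O, ∀ w, γ u w = 0 → f u w = Q w := by
  have S := F.sy
  -- `O` is not empty
  have hne : ∃ u, u ∈ O := by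
    by_contra hcon
    push Not at hcon
    have h1 : O = ∅ := Set.eq_empty_iff_forall_notMem.2 hcon
    have h2 := F.span
    rw [h1, Submodule.span_empty] at h2
    have h3 : Nat.card U ≤ 1 := by
      have : Subsingleton U := by
        constructor
        intro x y
        have hx : x ∈ (⊥ : Submodule (ZMod 2) U) := h2 ▸ Submodule.mem_top
        have hy : y ∈ (⊥ : Submodule (ZMod 2) U) := h2 ▸ Submodule.mem_top
        rw [Submodule.mem_bot] at hx hy
        rw [hx, hy]
      exact Finite.card_le_one_iff_subsingleton.2 this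
    have := F.card
    omega
  obtain ⟨u, hu⟩ := hne
  obtain ⟨c, hc, huc⟩ := F.exists_off hu
  have hO : ∀ v, v ∈ O ↔ v ≠ 0 ∧ QQ γ f u c v = 0 := by
    intro v
    by_cases hv : v = 0
    · subst hv
      exact ⟨fun h => absurd h F.zero, fun h => absurd rfl h.1⟩
    · rw [F.mem_iff hu hc huc hv]
      exact ⟨fun h => ⟨hv, h⟩, fun h => h.2⟩
  have hinv : ∀ g ∈ 𝒢, ∀ v, QQ γ f u c (g v) = QQ γ f u c v := by
    intro g hg v
    by_cases hv : v = 0
    · rw [hv, map_zero]
    have hgv : g v ≠ 0 := fun h => hv ((LinearEquiv.map_eq_zero_iff g).1 h)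
    have h1 : g v ∈ O ↔ v ∈ O := by
      refine ⟨fun h => ?_, fun h => F.mem g hg v h⟩
      have h7 := F.mem g⁻¹ (inv_mem hg) _ h
      rwa [← LinearEquiv.mul_apply, inv_mul_cancel] at h7
    rw [F.mem_iff hu hc huc hgv, F.mem_iff hu hc huc hv] at h1
    rcases z2 (QQ γ f u c (g v)) with h2 | h2 <;> rcases z2 (QQ γ f u c v) with h3 | h3
    · rw [h2, h3]
    · rw [h2] at h1
      rw [h1.1 rfl] at h3
      exact absurd h3 (by decide)
    · rw [h3] at h1
      rw [h1.2 rfl] at h2
      exact absurd h2 (by decide)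
    · rw [h2, h3]
  refine ⟨QQ γ f u c, F.isQ_QQ hu huc, hO, hinv, ?_⟩
  intro u' hu' w hw
  obtain ⟨g, hg, rfl⟩ := F.trans u hu u' hu'
  have h1 : w = g (g⁻¹ w) := by
    rw [← LinearEquiv.mul_apply, mul_inv_cancel]; rfl
  have h2 : γ u (g⁻¹ w) = 0 := by
    rw [← F.iso g hg, ← h1]; exact hw
  rw [h1, F.f_eqv g hg u hu _ h2, hinv g hg, F.QQ_perp hu h2]

end FF

end Cfsg.Agent.Omega.EH3.RowS
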