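import Cfsg.Agent.Omega.EH3.Cfg

/-!
# EH3, the `S₃ × Ω_w(2)`-row: the quadratic form (helper888)

`SCfg ρ B a X w` : the finite group `H` acts faithfully and irreducibly on the symplectic space `(U, B)` of order `2^w`,
`w ≥ 5`, over `ZMod 2`; `X ≤ H` is normal in the stabiliser of `a ≠ 0`, `[a^⊥, X] ≤ ⟨a⟩`, `X` induces on `a^⊥` all
transvections `u ↦ u + B(u, s) a` (`s ∈ a^⊥`), and `X` is faithful on `a^⊥`.

THEOREM (`SCfg.exists_form`). There is a quadratic form `f` on `U` with polar form `B`, invariant under `H`, whose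
singular vectors `≠ 0` are the elements of `a^H`, and `H` contains all Siegel elements of `f`.
-/

set_option autoImplicit false

namespace Cfsg.Agent.Omega.EH3.RowS

/-- the symplectic configuration -/
structure SCfg {H U : Type*} [Group H] [AddCommGroup U] [Module (ZMod 2) U]
    (ρ : H →* (U ≃ₗ[ZMod 2] U)) (B : LinearMap.BilinForm (ZMod 2) U)
    (a : U) (X : Subgroup H) (w : ℕ) : Prop where
  five : 5 ≤ w
  card_U : Nat.card U = 2 ^ w
  B_self : ∀ v, B v v = 0
  nondeg : ∀ v, (∀ u, B v u = 0) → v = 0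
  B_inv : ∀ h u v, B (ρ h u) (ρ h v) = B u v
  irr : ∀ W : Submodule (ZMod 2) U, (∀ h, ∀ v ∈ W, ρ h v ∈ W) → W = ⊥ ∨ W = ⊤
  a_ne : a ≠ 0
  X_norm : ∀ h, ρ h a = a → ∀ x ∈ X, h * x * h⁻¹ ∈ X
  X_a : ∀ x ∈ X, ρ x a = a
  X_perp : ∀ x ∈ X, ∀ u, B a u = 0 → ρ x u = u ∨ ρ x u = u + a
  X_all : ∀ s, B a s = 0 → ∃ x ∈ X, ∀ u, B a u = 0 → ρ x u = u + B u s • a
  X_semi : ∀ x ∈ X, (∀ u, B a u = 0 → ρ x u = u) → x = 1

/-- quadratic form with polar form `B` -/
def QF {U : Type*} [AddCommGroup U] [Module (ZMod 2) U] (B : LinearMap.BilinForm (ZMod 2) U)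
    (f : U → ZMod 2) : Prop := ∀ u v, f (u + v) = f u + f v + B u v

/-- invariance under `X` -/
def Inv {H U : Type*} [Group H] [AddCommGroup U] [Module (ZMod 2) U]
    (ρ : H →* (U ≃ₗ[ZMod 2] U)) (X : Subgroup H) (f : U → ZMod 2) : Prop :=
  ∀ x ∈ X, ∀ u, f (ρ x u) = f u

namespace SCfg

variable {H U : Type*} [Group H] [AddCommGroup U] [Module (ZMod 2) U]
  {ρ : H →* (U ≃ₗ[ZMod 2] U)} {B : LinearMap.BilinForm (ZMod 2) U}
  {a : U} {X : Subgroup H} {w : ℕ}

theorem finite_U (C : SCfg ρ B a X w) : Finite U :=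
  Nat.finite_of_card_ne_zero (by rw [C.card_U]; positivity)

theorem add_self (_C : SCfg ρ B a X w) (v : U) : v + v = 0 := by
  have : v + v = (2 : ZMod 2) • v := by rw [two_smul]
  rw [this, show (2 : ZMod 2) = 0 from rfl, zero_smul]

theorem add_add_self (C : SCfg ρ B a X w) (x y : U) : x + y + y = x := by
  rw [add_assoc, C.add_self, add_zero]

theorem add_eq_zero (C : SCfg ρ B a X w) {x y : U} : x + y = 0 ↔ x = y := by
  constructor
  · intro h
    have := C.add_add_self x y
    rw [h, zero_add] at this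
    exact this.symm
  · rintro rfl; exact C.add_self x

theorem B_comm (C : SCfg ρ B a X w) (u v : U) : B u v = B v u := by
  have h := C.B_self (u + v)
  rw [map_add, map_add, LinearMap.add_apply, LinearMap.add_apply, C.B_self, C.B_self, zero_add,
    add_zero] at h
  exact (CharTwo.add_eq_zero.1 h).symm

theorem ρ_mul (_C : SCfg ρ B a X w) (g h : H) (v : U) : ρ (g * h) v = ρ g (ρ h v) := by
  rw [map_mul]; rfl

theorem ρ_one (_C : SCfg ρ B a X w) (v : U) : ρ 1 v = v := by
  rw [map_one]; rfl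

theorem ρ_inv_apply (C : SCfg ρ B a X w) (g : H) (v : U) : ρ g⁻¹ (ρ g v) = v := by
  rw [← C.ρ_mul, inv_mul_cancel, C.ρ_one]

theorem ρ_apply_inv (C : SCfg ρ B a X w) (g : H) (v : U) : ρ g (ρ g⁻¹ v) = v := by
  rw [← C.ρ_mul, mul_inv_cancel, C.ρ_one]

/-- the conjugate configuration -/
theorem conj (C : SCfg ρ B a X w) (g : H) :
    SCfg ρ B (ρ g a) (X.map (MulAut.conj g).toMonoidHom) w where
  five := C.five
  card_U := C.card_U
  B_self := C.B_self
  nondeg := C.nondeg
  B_inv := C.B_inv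
  irr := C.irr
  a_ne := fun h => C.a_ne (by
    have := C.ρ_inv_apply g a
    rw [h, map_zero] at this
    exact this.symm)
  X_norm := by
    rintro h hh _ ⟨x, hx, rfl⟩
    refine ⟨(g⁻¹ * h * g) * x * (g⁻¹ * h * g)⁻¹, C.X_norm _ ?_ x hx, ?_⟩
    · rw [C.ρ_mul, C.ρ_mul, hh, C.ρ_inv_apply]
    · simp only [MulEquiv.coe_toMonoidHom, MulAut.conj_apply]; group
  X_a := by
    rintro _ ⟨x, hx, rfl⟩
    simp only [MulEquiv.coe_toMonoidHom, MulAut.conj_apply]
    rw [C.ρ_mul, C.ρ_mul, C.ρ_inv_apply, C.X_a x hx]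
  X_perp := by
    rintro _ ⟨x, hx, rfl⟩ u hu
    simp only [MulEquiv.coe_toMonoidHom, MulAut.conj_apply]
    rw [C.ρ_mul, C.ρ_mul]
    have h1 : B a (ρ g⁻¹ u) = 0 := by
      rw [← C.B_inv g, C.ρ_apply_inv]; exact hu
    rcases C.X_perp x hx _ h1 with h | h
    · left; rw [h, C.ρ_apply_inv]
    · right; rw [h, map_add, C.ρ_apply_inv]
  X_all := by
    intro s hs
    have h1 : B a (ρ g⁻¹ s) = 0 := by
      rw [← C.B_inv g, C.ρ_apply_inv]; exact hs
    obtain ⟨x, hx, h⟩ := C.X_all _ h1
    refine ⟨_, ⟨x, hx, rfl⟩, fun u hu => ?_⟩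
    simp only [MulEquiv.coe_toMonoidHom, MulAut.conj_apply]
    rw [C.ρ_mul, C.ρ_mul, h _ (by rw [← C.B_inv g, C.ρ_apply_inv]; exact hu), map_add, map_smul,
      C.ρ_apply_inv, C.B_inv]
  X_semi := by
    rintro _ ⟨x, hx, rfl⟩ h
    simp only [MulEquiv.coe_toMonoidHom, MulAut.conj_apply] at h ⊢
    have h1 : x = 1 := C.X_semi x hx (fun u hu => by
      have h2 := h (ρ g u) (by rw [C.B_inv]; exact hu)
      rw [C.ρ_mul, C.ρ_mul, C.ρ_inv_apply] at h2
      exact (ρ g).injective h2)
    rw [h1]; group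

/-- a vector off `e^⊥` -/
theorem exists_off (C : SCfg ρ B a X w) {e : U} (he : e ≠ 0) : ∃ c, B e c = 1 := by
  by_contra hcon
  push Not at hcon
  apply he
  apply C.nondeg
  intro u
  rcases zmod_two (B e u) with h | h
  · exact h
  · exact absurd h (hcon u)

theorem eq_of_perp (C : SCfg ρ B a X w) {e d : U} (h : ∀ v, B e v = 0 → B d v = 0) :
    d = 0 ∨ d = e := by
  by_contra hne
  push Not at hne
  obtain ⟨h0, ha⟩ := hne
  obtain ⟨u, hu⟩ := C.exists_off h0
  have haw : B e u = 1 := zmod_two_ne fun h1 => by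
    have := h u h1
    rw [hu] at this
    exact one_ne_zero this
  apply ha
  have key : d + e = 0 := by
    apply C.nondeg
    intro v
    rw [map_add, LinearMap.add_apply]
    rcases zmod_two (B e v) with h1 | h1
    · rw [h v h1, h1, add_zero]
    · have h2 : B e (v + u) = 0 := by
        rw [map_add, h1, haw]; decide
      have h3 := h _ h2
      rw [map_add, hu] at h3
      have h4 : B d v = 1 := by
        have : ∀ x : ZMod 2, x + 1 = 0 → x = 1 := by decide
        exact this _ h3
      rw [h4, h1]; decide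
  exact C.add_eq_zero.1 key

theorem exists_sep (C : SCfg ρ B a X w) {e d : U} (h0 : d ≠ 0) (h1 : d ≠ e) :
    ∃ v, B e v = 0 ∧ B d v = 1 := by
  by_contra hcon
  push Not at hcon
  rcases C.eq_of_perp (e := e) (d := d) (fun v hv => by
    rcases zmod_two (B d v) with h | h
    · exact h
    · exact absurd h (hcon v hv)) with h | h
  · exact h0 h
  · exact h1 h

/-- three functionals have a common zero different from `0` and a given vector -/
theorem exists_ker (C : SCfg ρ B a X w) (l₁ l₂ l₃ : U →ₗ[ZMod 2] ZMod 2) (k : U) :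
    ∃ u, u ≠ 0 ∧ u ≠ k ∧ l₁ u = 0 ∧ l₂ u = 0 ∧ l₃ u = 0 := by
  classical
  have := C.finite_U
  let L : U →ₗ[ZMod 2] (ZMod 2 × ZMod 2 × ZMod 2) := l₁.prod (l₂.prod l₃)
  have h1 : Nat.card U = Nat.card (LinearMap.ker L) * Nat.card (LinearMap.range L) := by
    have h2 := (LinearMap.quotKerEquivRange L).toEquiv
    rw [← Nat.card_congr h2]
    exact Submodule.card_eq_card_quotient_mul_card (LinearMap.ker L)
  have h2 : Nat.card (LinearMap.range L) ≤ 8 := by
    have := Nat.card_le_card_of_injective (fun x : LinearMap.range L => (x : ZMod 2 × ZMod 2 × ZMod 2))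
      Subtype.val_injective
    rw [Nat.card_prod, Nat.card_prod, Nat.card_zmod] at this
    exact this
  have h3 : 4 ≤ Nat.card (LinearMap.ker L) := by
    by_contra hlt
    push Not at hlt
    have h4 : Nat.card U < 4 * 8 := by
      rw [h1]
      calc Nat.card (LinearMap.ker L) * Nat.card (LinearMap.range L)
          ≤ 3 * 8 := Nat.mul_le_mul (by omega) h2
        _ < 4 * 8 := by norm_num
    rw [C.card_U] at h4
    have h5 : 2 ^ 5 ≤ 2 ^ w := Nat.pow_le_pow_right (by norm_num) C.five
    omega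
  by_contra hcon
  push Not at hcon
  have h4 : ((LinearMap.ker L : Submodule (ZMod 2) U) : Set U) ⊆ {0, k} := by
    intro u hu
    have hu' : L u = 0 := hu
    have e1 : l₁ u = 0 := congrArg Prod.fst hu'
    have e2 : l₂ u = 0 := congrArg (fun p => p.2.1) hu'
    have e3 : l₃ u = 0 := congrArg (fun p => p.2.2) hu'
    by_cases hu0 : u = 0
    · left; exact hu0
    · right
      by_contra hk
      exact hcon u hu0 hk e1 e2 e3
  have h5 := Set.ncard_le_ncard h4 (Set.toFinite _)
  have h6 : ({0, k} : Set U).ncard ≤ 2 := Set.ncard_insert_le _ _ |>.trans (by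
    rw [Set.ncard_singleton])
  have h7 : ((LinearMap.ker L : Submodule (ZMod 2) U) : Set U).ncard = Nat.card (LinearMap.ker L) := rfl
  omega

/-! ### the form of an element of `X` -/

theorem B_a_ρ (C : SCfg ρ B a X w) {g : H} (hg : ρ g a = a) (v : U) : B a (ρ g v) = B a v := by
  nth_rewrite 1 [← hg]
  exact C.B_inv g a v

/-- `ρ x u = u + B(u, [c, x]) a` on `a^⊥` -/
theorem X_form (C : SCfg ρ B a X w) {c : U} (hc : B a c = 1) {x : H} (hx : x ∈ X) {u : U}
    (hu : B a u = 0) : ρ x u = u + B u (ρ x c + c) • a := by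
  have h1 := C.B_inv x u c
  have hxa := C.X_a x hx
  have h2 : B a (ρ x c) = 1 := by rw [C.B_a_ρ hxa, hc]
  rcases C.X_perp x hx u hu with h | h
  · rw [h] at h1
    rw [h, map_add, h1, CharTwo.add_self_eq_zero, zero_smul, add_zero]
  · rw [h, map_add, LinearMap.add_apply, h2] at h1
    have h3 : B u (ρ x c + c) = 1 := by
      rw [map_add, ← h1]
      generalize B u (ρ x c) = k
      revert k; decide
    rw [h, h3, one_smul]

/-- `[c, x] = s + k a` if `x` acts on `a^⊥` through `s` -/
theorem X_off (C : SCfg ρ B a X w) {c : U} (hc : B a c = 1) {x : H} (hx : x ∈ X) {s : U}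
    (h : ∀ u, B a u = 0 → ρ x u = u + B u s • a) : ∃ k : ZMod 2, ρ x c = c + s + k • a := by
  have h1 : ∀ u, B a u = 0 → B (ρ x c + c + s) u = 0 := by
    intro u hu
    have h2 := h u hu
    rw [C.X_form hc hx hu] at h2
    have h3 : B u (ρ x c + c) • a = B u s • a := add_left_cancel h2
    have h4 : B u (ρ x c + c) = B u s := by
      rcases zmod_two (B u (ρ x c + c)) with e1 | e1 <;> rcases zmod_two (B u s) with e2 | e2
      · rw [e1, e2]
      · rw [e1, e2, zero_smul, one_smul] at h3; exact absurd h3.symm C.a_ne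
      · rw [e1, e2, zero_smul, one_smul] at h3; exact absurd h3 C.a_ne
      · rw [e1, e2]
    rw [C.B_comm, map_add, h4, CharTwo.add_self_eq_zero]
  rcases C.eq_of_perp h1 with h2 | h2
  · refine ⟨0, ?_⟩
    have : ρ x c = ρ x c + c + s + (c + s) := by
      have : ρ x c + c + s + (c + s) = ρ x c + ((c + c) + (s + s)) := by abel
      rw [this, C.add_self, C.add_self, add_zero, add_zero]
    rw [this, h2, zero_smul, add_zero, zero_add]
  · refine ⟨1, ?_⟩
    have : ρ x c = ρ x c + c + s + (c + s) := by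
      have : ρ x c + c + s + (c + s) = ρ x c + ((c + c) + (s + s)) := by abel
      rw [this, C.add_self, C.add_self, add_zero, add_zero]
    rw [this, h2, one_smul]
    abel

/-- uniqueness: elements of `X` with the same action on `a^⊥` are equal -/
theorem X_uniq (C : SCfg ρ B a X w) {x y : H} (hx : x ∈ X) (hy : y ∈ X)
    (h : ∀ u, B a u = 0 → ρ x u = ρ y u) : x = y := by
  have h1 : y⁻¹ * x = 1 := C.X_semi _ (X.mul_mem (X.inv_mem hy) hx) (fun u hu => by
    rw [C.ρ_mul, h u hu, C.ρ_inv_apply])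
  exact (inv_mul_eq_one.1 h1).symm

/-! ### existence of an invariant form -/

open Classical in
/-- the element of `X` belonging to `s` -/
noncomputable def xi (C : SCfg ρ B a X w) (s : U) : H :=
  if h : B a s = 0 then (C.X_all s h).choose else 1

theorem xi_mem (C : SCfg ρ B a X w) (s : U) : C.xi s ∈ X := by
  unfold xi
  split_ifs with h
  · exact (C.X_all s h).choose_spec.1
  · exact X.one_mem

theorem xi_spec (C : SCfg ρ B a X w) {s : U} (hs : B a s = 0) {u : U} (hu : B a u = 0) :
    ρ (C.xi s) u = u + B u s • a := by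
  unfold xi
  rw [dif_pos hs]
  exact (C.X_all s hs).choose_spec.2 u hu

theorem xi_add (C : SCfg ρ B a X w) {s t : U} (hs : B a s = 0) (ht : B a t = 0) :
    C.xi (s + t) = C.xi s * C.xi t := by
  apply C.X_uniq (C.xi_mem _) (X.mul_mem (C.xi_mem _) (C.xi_mem _))
  intro u hu
  have hst : B a (s + t) = 0 := by rw [map_add, hs, ht, add_zero]
  rw [C.xi_spec hst hu, C.ρ_mul, C.xi_spec ht hu, map_add (ρ (C.xi s)), map_smul,
    C.xi_spec hs hu, C.X_a _ (C.xi_mem _), map_add (B u), add_smul]
  abel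

theorem xi_a (C : SCfg ρ B a X w) : C.xi a = 1 := by
  apply C.X_semi _ (C.xi_mem _)
  intro u hu
  rw [C.xi_spec (C.B_self a) hu, C.B_comm, hu, zero_smul, add_zero]

/-- `φ(s) = B(c, xi(s) c)` -/
noncomputable def ph (C : SCfg ρ B a X w) (c s : U) : ZMod 2 := B c (ρ (C.xi s) c)

theorem ph_add (C : SCfg ρ B a X w) {c : U} (hc : B a c = 1) {s t : U} (hs : B a s = 0)
    (ht : B a t = 0) : C.ph c (s + t) = C.ph c s + C.ph c t + B s t := by
  unfold ph
  rw [C.xi_add hs ht, C.ρ_mul]
  obtain ⟨k, hk⟩ := C.X_off hc (C.xi_mem s) (fun u hu => C.xi_spec hs hu)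
  obtain ⟨l, hl⟩ := C.X_off hc (C.xi_mem t) (fun u hu => C.xi_spec ht hu)
  have hca : B c a = 1 := by rw [C.B_comm]; exact hc
  have h1 : B t s = B s t := C.B_comm t s
  rw [hl, map_add (ρ (C.xi s)), map_add (ρ (C.xi s)), map_smul (ρ (C.xi s)),
    C.X_a _ (C.xi_mem s), hk, C.xi_spec hs ht]
  simp only [map_add, map_smul, C.B_self, hca, h1, smul_eq_mul, mul_one]
  ring

theorem ph_a (C : SCfg ρ B a X w) (c : U) : C.ph c a = 0 := by
  unfold ph
  rw [C.xi_a, C.ρ_one, C.B_self]

theorem mem_xi (C : SCfg ρ B a X w) {x : H} (hx : x ∈ X) {c : U} (hc : B a c = 1) :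
    B a (ρ x c + c) = 0 ∧ x = C.xi (ρ x c + c) := by
  have h0 : B a (ρ x c + c) = 0 := by
    rw [map_add, C.B_a_ρ (C.X_a x hx), CharTwo.add_self_eq_zero]
  refine ⟨h0, C.X_uniq hx (C.xi_mem _) fun u hu => ?_⟩
  rw [C.xi_spec h0 hu, C.X_form hc hx hu]

/-- `f` is invariant if it is on `a^⊥` and on `c` -/
theorem inv_of (C : SCfg ρ B a X w) {f : U → ZMod 2} (hf : QF B f) {c : U} (hc : B a c = 1)
    {x : H} (h1 : ∀ u, B a u = 0 → f (ρ x u) = f u) (h2 : f (ρ x c) = f c) (u : U) :
    f (ρ x u) = f u := by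
  rcases zmod_two (B a u) with h | h
  · exact h1 u h
  · have h3 : B a (u + c) = 0 := by rw [map_add, h, hc]; decide
    have e : u = (u + c) + c := by rw [add_assoc, C.add_self, add_zero]
    rw [e, map_add, hf, hf, h1 _ h3, h2, C.B_inv]

theorem qf_zero (_C : SCfg ρ B a X w) {f : U → ZMod 2} (hf : QF B f) : f 0 = 0 := by
  have h := hf 0 0
  rw [add_zero, map_zero, add_zero] at h
  generalize f 0 = k at h
  revert k; decide

theorem qf_smul (C : SCfg ρ B a X w) {f : U → ZMod 2} (hf : QF B f) (k : ZMod 2) (u : U) :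
    f (k • u) = k * f u := by
  rcases zmod_two k with h | h
  · rw [h, zero_smul, zero_mul, C.qf_zero hf]
  · rw [h, one_smul, one_mul]

/-- **existence** -/
theorem exists_inv (C : SCfg ρ B a X w) {c : U} (hc : B a c = 1) :
    ∃ f : U → ZMod 2, QF B f ∧ Inv ρ X f ∧ f a = 0 ∧ f c = 0 := by
  have hca : B c a = 1 := by rw [C.B_comm]; exact hc
  have hoff : ∀ u, B a (u + B a u • c) = 0 := by
    intro u
    rw [map_add, map_smul, hc, smul_eq_mul, mul_one, CharTwo.add_self_eq_zero]
  have hph0 : C.ph c 0 = 0 := by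
    have h := C.ph_add hc (s := 0) (t := 0) (map_zero _) (map_zero _)
    rw [add_zero, map_zero, add_zero] at h
    generalize C.ph c 0 = k at h
    revert k; decide
  let f : U → ZMod 2 := fun u => C.ph c (u + B a u • c) + B a u * B c u
  have hf : QF B f := by
    intro u v
    show C.ph c (u + v + B a (u + v) • c) + B a (u + v) * B c (u + v) =
      (C.ph c (u + B a u • c) + B a u * B c u) + (C.ph c (v + B a v • c) + B a v * B c v) + B u v
    have e : u + v + B a (u + v) • c = (u + B a u • c) + (v + B a v • c) := by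
      rw [map_add, add_smul]; abel
    rw [e, C.ph_add hc (hoff u) (hoff v)]
    have e2 : B (u + B a u • c) (v + B a v • c) = B u v + B a v * B c u + B a u * B c v := by
      simp only [map_add, LinearMap.add_apply, map_smul, LinearMap.smul_apply, C.B_self,
        smul_eq_mul, mul_zero, add_zero]
      rw [C.B_comm u c]
      ring
    rw [e2, map_add, map_add]
    generalize C.ph c (u + B a u • c) = α
    generalize C.ph c (v + B a v • c) = β
    generalize B u v = γ
    generalize B a u = p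
    generalize B a v = r
    generalize B c u = s
    generalize B c v = t
    revert α β γ p r s t; decide
  have hfa : f a = 0 := by
    show C.ph c (a + B a a • c) + B a a * B c a = 0
    rw [C.B_self, zero_smul, add_zero, zero_mul, add_zero, C.ph_a]
  have hfp : ∀ s, B a s = 0 → f s = C.ph c s := by
    intro s hs
    show C.ph c (s + B a s • c) + B a s * B c s = _
    rw [hs, zero_smul, add_zero, zero_mul, add_zero]
  refine ⟨f, hf, ?_, hfa, ?_⟩
  · intro x hx
    obtain ⟨h0, h1⟩ := C.mem_xi hx hc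
    refine C.inv_of hf hc (fun u hu => ?_) ?_
    · rw [C.X_form hc hx hu, hf, C.qf_smul hf, hfa, map_smul, C.B_comm u a, hu, smul_zero,
        mul_zero, add_zero, add_zero]
    · have e : ρ x c = c + (ρ x c + c) := by
        rw [add_comm c, C.add_add_self]
      have h2 : f (ρ x c + c) = B c (ρ x c + c) := by
        rw [hfp _ h0, ph, ← h1, map_add, C.B_self, add_zero]
      rw [e, hf, h2, add_assoc, CharTwo.add_self_eq_zero, add_zero]
  · show C.ph c (c + B a c • c) + B a c * B c c = 0
    rw [hc, one_smul, C.add_self, C.B_self, mul_zero, add_zero, hph0]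

/-! ### properties of invariant forms -/

/-- `f a = 0` -/
theorem f_a (C : SCfg ρ B a X w) {f : U → ZMod 2} (hf : QF B f) (hi : Inv ρ X f) : f a = 0 := by
  obtain ⟨c, hc⟩ := C.exists_off C.a_ne
  obtain ⟨s, hs0, hsa, hs, -, -⟩ := C.exists_ker (B a) (B a) (B a) a
  obtain ⟨u, hu, hsu⟩ := C.exists_sep hs0 hsa
  obtain ⟨x, hx, h⟩ := C.X_all s hs
  have h1 := hi x hx u
  rw [h u hu, C.B_comm, hsu, one_smul, hf, C.B_comm u a, hu, add_zero] at h1
  exact left_eq_add.1 h1.symm

/-- **the Siegel elements at `a`** -/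
theorem siegel (C : SCfg ρ B a X w) {f : U → ZMod 2} (hf : QF B f) (hi : Inv ρ X f) {s : U}
    (hs : B a s = 0) : ∃ x ∈ X, (∀ u, B a u = 0 → ρ x u = u + B u s • a) ∧
      ∀ v, ρ x v = v + B v s • a + B v a • s + (f s * B v a) • a := by
  obtain ⟨x, hx, h⟩ := C.X_all s hs
  refine ⟨x, hx, h, ?_⟩
  have hoff : ∀ c, B a c = 1 → ρ x c = c + s + (f s + B c s) • a := by
    intro c hc
    have hca : B c a = 1 := by rw [C.B_comm]; exact hc
    obtain ⟨k, hk⟩ := C.X_off hc hx h
    have h1 := hi x hx c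
    have h2 : k = f s + B c s := by
      rw [hk, hf, hf, C.qf_smul hf, C.f_a hf hi] at h1
      simp only [map_smul, map_add, LinearMap.add_apply, hca, C.B_comm s a, hs, smul_eq_mul, mul_zero,
        add_zero, mul_one] at h1
      generalize f c = p at h1
      generalize f s = r at h1 ⊢
      generalize B c s = t at h1 ⊢
      clear hk
      revert p r t k; decide
    rw [hk, h2]
  intro v
  rcases zmod_two (B a v) with hv | hv
  · rw [h v hv, C.B_comm v a, hv, zero_smul, mul_zero, zero_smul, add_zero, add_zero]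
  · rw [hoff v hv, C.B_comm v a, hv, one_smul, mul_one, add_smul]
    abel

/-- elements of `X` are Siegel elements -/
theorem siegel_of_mem (C : SCfg ρ B a X w) {f : U → ZMod 2} (hf : QF B f) (hi : Inv ρ X f)
    {x : H} (hx : x ∈ X) : ∃ s, B a s = 0 ∧
      ∀ v, ρ x v = v + B v s • a + B v a • s + (f s * B v a) • a := by
  obtain ⟨c, hc⟩ := C.exists_off C.a_ne
  obtain ⟨h0, -⟩ := C.mem_xi hx hc
  obtain ⟨y, hy, h1, h2⟩ := C.siegel hf hi h0
  have h3 : x = y := C.X_uniq hx hy fun u hu => by rw [C.X_form hc hx hu, h1 u hu]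
  refine ⟨_, h0, ?_⟩
  rw [h3]; rw [h3] at h2; exact h2

/-- two invariant forms agree on `a^⊥` -/
theorem agree (C : SCfg ρ B a X w) {f g : U → ZMod 2} (hf : QF B f) (hi : Inv ρ X f)
    (hg : QF B g) (hj : Inv ρ X g) {s : U} (hs : B a s = 0) : f s = g s := by
  obtain ⟨c, hc⟩ := C.exists_off C.a_ne
  have hca : B c a = 1 := by rw [C.B_comm]; exact hc
  obtain ⟨x, hx, h1, h2⟩ := C.siegel hf hi hs
  obtain ⟨y, hy, h3, h4⟩ := C.siegel hg hj hs
  have h5 : x = y := C.X_uniq hx hy fun u hu => by rw [h1 u hu, h3 u hu]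
  have h6 := h2 c
  rw [h5, h4 c, hca, mul_one, mul_one] at h6
  have h7 := add_left_cancel h6
  rcases zmod_two (f s) with e1 | e1 <;> rcases zmod_two (g s) with e2 | e2
  · rw [e1, e2]
  · rw [e1, e2, zero_smul, one_smul] at h7; exact absurd h7 C.a_ne
  · rw [e1, e2, zero_smul, one_smul] at h7; exact absurd h7.symm C.a_ne
  · rw [e1, e2]

/-- two invariant forms: equal, or `g = f + B(a, ·)` -/
theorem agree_off (C : SCfg ρ B a X w) {f g : U → ZMod 2} (hf : QF B f) (hi : Inv ρ X f)
    (hg : QF B g) (hj : Inv ρ X g) {c : U} (hc : B a c = 1) (u : U) :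
    g u = f u + B a u * (f c + g c) := by
  rcases zmod_two (B a u) with h | h
  · rw [C.agree hf hi hg hj h, h, zero_mul, add_zero]
  · have h3 : B a (u + c) = 0 := by rw [map_add, h, hc]; decide
    have h1 := C.agree hf hi hg hj h3
    rw [hf, hg] at h1
    rw [h, one_mul]
    generalize f u = p at h1 ⊢
    generalize f c = r at h1 ⊢
    generalize g u = p' at h1 ⊢
    generalize g c = r' at h1 ⊢
    generalize B u c = k at h1
    revert p r p' r' k; decide

/-- `f` is invariant on `a^⊥` under the stabiliser of `a` -/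
theorem stab_inv (C : SCfg ρ B a X w) {f : U → ZMod 2} (hf : QF B f) (hi : Inv ρ X f)
    {g : H} (hg : ρ g a = a) {s : U} (hs : B a s = 0) : f (ρ g s) = f s := by
  have h1 : QF B (fun u => f (ρ g u)) := by
    intro u v
    show f (ρ g (u + v)) = f (ρ g u) + f (ρ g v) + B u v
    rw [map_add, hf, C.B_inv]
  have h2 : Inv ρ X (fun u => f (ρ g u)) := by
    intro x hx u
    show f (ρ g (ρ x u)) = f (ρ g u)
    have h3 := hi _ (C.X_norm g hg x hx) (ρ g u)
    rw [← C.ρ_mul, show g * x * g⁻¹ * g = g * x by group, C.ρ_mul] at h3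
    exact h3
  exact C.agree h1 h2 hf hi hs

/-! ### the main lemma -/

/-- the element `z (y z)²` -/
theorem tau_tau {Y : Subgroup H} (C : SCfg ρ B a X w) {c : U} (C' : SCfg ρ B c Y w)
    (hc : B a c = 1) {f g : U → ZMod 2} (hf : QF B f) (hi : Inv ρ X f) (hg : QF B g)
    (hj : Inv ρ Y g) {s : U} (has : B a s = 0) (hcs : B c s = 0) (hfs : f s = 0) (hgs : g s = 1) :
    ∃ h : H, ∀ v, ρ h v = v + B v s • s + B v c • c := by
  obtain ⟨y, -, -, hy⟩ := C.siegel hf hi has
  obtain ⟨z, -, -, hz⟩ := C'.siegel hg hj hcs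
  have hca : B c a = 1 := by rw [C.B_comm]; exact hc
  have hsa : B s a = 0 := by rw [C.B_comm]; exact has
  have hsc : B s c = 0 := by rw [C.B_comm]; exact hcs
  -- `y`, `z` on `v + α a + β s + γ c`
  have hy' : ∀ (v : U) (α β γ : ZMod 2), ρ y (v + α • a + β • s + γ • c) =
      v + (α + B v s) • a + (β + B v a + γ) • s + γ • c := by
    intro v α β γ
    rw [hy]
    simp only [map_add, LinearMap.add_apply, map_smul, LinearMap.smul_apply, C.B_self, hca, has,
      hcs, hsa, smul_eq_mul, mul_zero, add_zero, mul_one, hfs, zero_mul, zero_smul]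
    module
  have hz' : ∀ (v : U) (α β γ : ZMod 2), ρ z (v + α • a + β • s + γ • c) =
      v + α • a + (β + B v c + α) • s + (γ + B v s + B v c + α) • c := by
    intro v α β γ
    rw [hz]
    simp only [map_add, LinearMap.add_apply, map_smul, LinearMap.smul_apply, C.B_self, hc, has,
      hcs, hsc, smul_eq_mul, mul_zero, add_zero, mul_one, hgs, one_mul]
    module
  refine ⟨z * (y * (z * (y * z))), fun v => ?_⟩
  have e0 : v = v + (0 : ZMod 2) • a + (0 : ZMod 2) • s + (0 : ZMod 2) • c := by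
    simp only [zero_smul, add_zero]
  rw [C.ρ_mul, C.ρ_mul, C.ρ_mul, C.ρ_mul]
  nth_rewrite 1 [e0]
  rw [hz', hy', hz', hy', hz']
  have e1 : (0 : ZMod 2) + B v s + B v s = 0 := by
    generalize B v s = p; revert p; decide
  have e2 : (0 : ZMod 2) + B v c + 0 + B v a + (0 + B v s + B v c + 0) + B v c + (0 + B v s) +
      B v a + (0 + B v s + B v c + 0 + B v s + B v c + (0 + B v s)) + B v c + (0 + B v s + B v s) =
      B v s := by
    generalize B v s = p; generalize B v c = r; generalize B v a = t; revert p r t; decide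
  have e3 : (0 : ZMod 2) + B v s + B v c + 0 + B v s + B v c + (0 + B v s) + B v s + B v c +
      (0 + B v s + B v s) = B v c := by
    generalize B v s = p; generalize B v c = r; revert p r; decide
  rw [e2, e3, e1, zero_smul, add_zero]

/-- two elements `s₁ ≠ s₂` of the same kind: contradiction -/
theorem no_two {Y : Subgroup H} (C : SCfg ρ B a X w) {c : U} (C' : SCfg ρ B c Y w)
    (hc : B a c = 1) {f g : U → ZMod 2} (hf : QF B f) (hi : Inv ρ X f) (hg : QF B g)
    (hj : Inv ρ Y g) {s t : U} (has : B a s = 0) (hcs : B c s = 0) (hfs : f s = 0) (hgs : g s = 1)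
    (hat : B a t = 0) (hct : B c t = 0) (hft : f t = 0) (hgt : g t = 1) : s = t := by
  by_contra hst
  obtain ⟨h₁, e₁⟩ := C.tau_tau C' hc hf hi hg hj has hcs hfs hgs
  obtain ⟨h₂, e₂⟩ := C.tau_tau C' hc hf hi hg hj hat hct hft hgt
  have hca : B c a = 1 := by rw [C.B_comm]; exact hc
  have hs0 : s ≠ 0 := by
    rintro rfl
    rw [C.qf_zero hg] at hgs
    exact zero_ne_one hgs
  -- `r ∈ ⟨a, c⟩^⊥` with `B(r, s) = 1`, `B(r, t) = 0`
  obtain ⟨r, hrt, hrs⟩ := C.exists_sep (e := t) (d := s) hs0 hst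
  let r' : U := r + B c r • a + B a r • c
  have ha' : B a r' = 0 := by
    show B a (r + B c r • a + B a r • c) = 0
    simp only [map_add, map_smul, C.B_self, hc, smul_eq_mul, mul_zero, add_zero, mul_one]
    exact CharTwo.add_self_eq_zero _
  have hc' : B c r' = 0 := by
    show B c (r + B c r • a + B a r • c) = 0
    simp only [map_add, map_smul, C.B_self, hca, smul_eq_mul, mul_zero, add_zero, mul_one]
    exact CharTwo.add_self_eq_zero _
  have hrs' : B r' s = 1 := by
    show B (r + B c r • a + B a r • c) s = 1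
    simp only [map_add, LinearMap.add_apply, map_smul, LinearMap.smul_apply, has, hcs, smul_eq_mul,
      mul_zero, add_zero]
    rw [C.B_comm]; exact hrs
  have hrt' : B r' t = 0 := by
    show B (r + B c r • a + B a r • c) t = 0
    simp only [map_add, LinearMap.add_apply, map_smul, LinearMap.smul_apply, hat, hct, smul_eq_mul,
      mul_zero, add_zero]
    rw [C.B_comm]; exact hrt
  have h1 : ρ (h₁ * h₂) a = a := by
    rw [C.ρ_mul, e₂, hat, zero_smul, add_zero, hc, one_smul, map_add, e₁ a, e₁ c, has, hcs, hc,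
      C.B_self, zero_smul, zero_smul, one_smul, add_zero, add_zero, add_zero, C.add_add_self]
  have h2 : ρ (h₁ * h₂) r' = r' + s := by
    rw [C.ρ_mul, e₂, hrt', zero_smul, add_zero, C.B_comm r' c, hc', zero_smul, add_zero, e₁, hrs',
      one_smul, C.B_comm r' c, hc', zero_smul, add_zero]
  have h3 := C.stab_inv hf hi h1 ha'
  rw [h2, hf, hfs, hrs', add_zero] at h3
  exact one_ne_zero (add_eq_left.1 h3)

/-- **MAIN LEMMA** -/
theorem main {Y : Subgroup H} (C : SCfg ρ B a X w) {c : U} (C' : SCfg ρ B c Y w)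
    (hc : B a c = 1) {f g : U → ZMod 2} (hf : QF B f) (hi : Inv ρ X f) (hfc : f c = 0) (hg : QF B g)
    (hj : Inv ρ Y g) (hga : g a = 0) (u : U) : f u = g u := by
  have hca : B c a = 1 := by rw [C.B_comm]; exact hc
  have hfa := C.f_a hf hi
  have hgc := C'.f_a hg hj
  let L : U →ₗ[ZMod 2] ZMod 2 :=
    { toFun := fun v => f v + g v
      map_add' := by
        intro x y
        rw [hf, hg]
        generalize f x = p; generalize f y = r; generalize g x = p'; generalize g y = r'
        generalize B x y = k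
        revert p r p' r' k; decide
      map_smul' := by
        intro k x
        rw [C.qf_smul hf, C.qf_smul hg, RingHom.id_apply, smul_eq_mul]; ring }
  have hL : ∀ v, L v = f v + g v := fun _ => rfl
  by_contra hne
  -- `s₀`
  have hLu : L u = 1 := by
    rw [hL]
    revert hne
    generalize f u = p; generalize g u = r
    revert p r; decide
  let s : U := u + B c u • a + B a u • c
  have ha' : B a s = 0 := by
    show B a (u + B c u • a + B a u • c) = 0
    simp only [map_add, map_smul, C.B_self, hc, smul_eq_mul, mul_zero, add_zero, mul_one]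
    exact CharTwo.add_self_eq_zero _
  have hc' : B c s = 0 := by
    show B c (u + B c u • a + B a u • c) = 0
    simp only [map_add, map_smul, C.B_self, hca, smul_eq_mul, mul_zero, add_zero, mul_one]
    exact CharTwo.add_self_eq_zero _
  have hLs : L s = 1 := by
    show L (u + B c u • a + B a u • c) = 1
    rw [map_add, map_add, map_smul, map_smul, hL a, hL c, hfa, hfc, hga, hgc, hLu]
    simp
  obtain ⟨k, hk0, -, hka, hkc, hkL⟩ := C.exists_ker (B a) (B c) L 0
  obtain ⟨l, hl0, hlk, hla, hlc, hlL⟩ := C.exists_ker (B a) (B c) L k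
  have key : ∀ s t, B a s = 0 → B c s = 0 → B a t = 0 → B c t = 0 → L s = 1 → L t = 1 →
      f s = f t → s = t := by
    intro s t h1 h2 h3 h4 h5 h6 h7
    rw [hL] at h5 h6
    rcases zmod_two (f s) with h | h
    · have e1 : g s = 1 := by rw [h, zero_add] at h5; exact h5
      have e2 : g t = 1 := by rw [← h7, h, zero_add] at h6; exact h6
      exact C.no_two C' hc hf hi hg hj h1 h2 h e1 h3 h4 (h7 ▸ h) e2
    · have e1 : g s = 0 := by
        rw [h] at h5
        generalize g s = p at h5; revert p; decide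
      have e2 : g t = 0 := by
        rw [← h7, h] at h6
        generalize g t = p at h6; revert p; decide
      exact C'.no_two C hca hg hj hf hi h2 h1 e1 h h4 h3 e2 (h7 ▸ h)
  have hsk : s ≠ s + k := fun h => hk0 (left_eq_add.1 h)
  have hsl : s ≠ s + l := fun h => hl0 (left_eq_add.1 h)
  have hkl : s + k ≠ s + l := fun h => hlk (add_left_cancel h).symm
  have b1 : B a (s + k) = 0 := by rw [map_add, ha', hka, add_zero]
  have b2 : B c (s + k) = 0 := by rw [map_add, hc', hkc, add_zero]
  have b3 : B a (s + l) = 0 := by rw [map_add, ha', hla, add_zero]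
  have b4 : B c (s + l) = 0 := by rw [map_add, hc', hlc, add_zero]
  have b5 : L (s + k) = 1 := by rw [map_add, hLs, hkL, add_zero]
  have b6 : L (s + l) = 1 := by rw [map_add, hLs, hlL, add_zero]
  rcases zmod_two (f s) with h1 | h1 <;> rcases zmod_two (f (s + k)) with h2 | h2 <;>
    rcases zmod_two (f (s + l)) with h3 | h3
  · exact hsk (key _ _ ha' hc' b1 b2 hLs b5 (h1.trans h2.symm))
  · exact hsk (key _ _ ha' hc' b1 b2 hLs b5 (h1.trans h2.symm))
  · exact hsl (key _ _ ha' hc' b3 b4 hLs b6 (h1.trans h3.symm))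
  · exact hkl (key _ _ b1 b2 b3 b4 b5 b6 (h2.trans h3.symm))
  · exact hkl (key _ _ b1 b2 b3 b4 b5 b6 (h2.trans h3.symm))
  · exact hsl (key _ _ ha' hc' b3 b4 hLs b6 (h1.trans h3.symm))
  · exact hsk (key _ _ ha' hc' b1 b2 hLs b5 (h1.trans h2.symm))
  · exact hsk (key _ _ ha' hc' b1 b2 hLs b5 (h1.trans h2.symm))

end SCfg

end Cfsg.Agent.Omega.EH3.RowS
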