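import Cfsg.Agent.Omega.EH3.RowS.Form

/-!
# EH3, the `S₃ × Ω_w(2)`-row: the invariant quadratic form (helper888)

* `vanish` : the form `f` invariant under `X` (at `a`) and `Y` (at `c`, `B a c = 1`) vanishes at every point `e`
  which carries a configuration;
* `exists_form` : the theorem.
-/

set_option autoImplicit false

namespace Cfsg.Agent.Omega.EH3.RowS

/-- the output -/
structure Form {H U : Type*} [Group H] [AddCommGroup U] [Module (ZMod 2) U]
    (ρ : H →* (U ≃ₗ[ZMod 2] U)) (B : LinearMap.BilinForm (ZMod 2) U)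
    (a : U) (f : U → ZMod 2) : Prop where
  qf : ∀ u v, f (u + v) = f u + f v + B u v
  inv : ∀ h u, f (ρ h u) = f u
  f_a : f a = 0
  trans : ∀ u, u ≠ 0 → f u = 0 → ∃ h, ρ h a = u
  siegel : ∀ u s, f u = 0 → B u s = 0 →
    ∃ h, ∀ v, ρ h v = v + B v s • u + B v u • s + (f s * B v u) • u

namespace SCfg

variable {H U : Type*} [Group H] [AddCommGroup U] [Module (ZMod 2) U]
  {ρ : H →* (U ≃ₗ[ZMod 2] U)} {B : LinearMap.BilinForm (ZMod 2) U}
  {a : U} {X : Subgroup H} {w : ℕ}

/-- the form of an opposite pair -/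
theorem pair {Y : Subgroup H} (C : SCfg ρ B a X w) {c : U} (C' : SCfg ρ B c Y w)
    (hc : B a c = 1) : ∃ f : U → ZMod 2, QF B f ∧ Inv ρ X f ∧ Inv ρ Y f ∧ f a = 0 ∧ f c = 0 := by
  have hca : B c a = 1 := by rw [C.B_comm]; exact hc
  obtain ⟨f, hf, hi, hfa, hfc⟩ := C.exists_inv hc
  obtain ⟨g, hg, hj, hgc, hga⟩ := C'.exists_inv hca
  have h : f = g := funext (C.main C' hc hf hi hfc hg hj hga)
  exact ⟨f, hf, hi, h ▸ hj, hfa, hfc⟩

/-- singular vectors off `a^⊥` -/
theorem sing_off (C : SCfg ρ B a X w) {c : U} (hc : B a c = 1) {f : U → ZMod 2} (hf : QF B f)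
    (hi : Inv ρ X f) (hfc : f c = 0) {u : U} (hu : B a u = 1) (hfu : f u = 0) :
    ∃ x ∈ X, ρ x c = u := by
  have h0 : B a (c + u) = 0 := by rw [map_add, hc, hu]; decide
  obtain ⟨x, hx, -, h⟩ := C.siegel hf hi h0
  refine ⟨x, hx, ?_⟩
  have h1 : f (c + u) = B c u := by rw [hf, hfc, hfu, zero_add, zero_add]
  have hca : B c a = 1 := by rw [C.B_comm]; exact hc
  rw [h, h1, hca, map_add (B c), C.B_self, zero_add, mul_one, one_smul]
  have : c + B c u • a + (c + u) + B c u • a = u + (c + c) + (B c u • a + B c u • a) := by abel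
  rw [this, C.add_self, C.add_self, add_zero, add_zero]

theorem inv_conj (C : SCfg ρ B a X w) {Y : Subgroup H} {f : U → ZMod 2} (hi : Inv ρ X f)
    (hj : Inv ρ Y f) {x : H} (hx : x ∈ X) : Inv ρ (Y.map (MulAut.conj x).toMonoidHom) f := by
  rintro _ ⟨y, hy, rfl⟩ u
  simp only [MulEquiv.coe_toMonoidHom, MulAut.conj_apply]
  rw [C.ρ_mul, C.ρ_mul, hi x hx, hj y hy, hi _ (X.inv_mem hx)]

/-- points off `a^⊥` are singular -/
theorem off_vanish {Y Z : Subgroup H} (C : SCfg ρ B a X w) {c e : U} (C' : SCfg ρ B c Y w)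
    (hc : B a c = 1) {f : U → ZMod 2} (hf : QF B f) (hi : Inv ρ X f) (hj : Inv ρ Y f)
    (hfc : f c = 0) (E : SCfg ρ B e Z w) (he : B a e = 1) : f e = 0 := by
  by_contra hne
  have hfe : f e = 1 := zmod_two_ne hne
  have hfa := C.f_a hf hi
  have hea : B e a = 1 := by rw [C.B_comm]; exact he
  -- the point `c₁ = e + a`
  have h1 : f (e + a) = 0 := by rw [hf, hfe, hfa, hea]; decide
  have h2 : B a (e + a) = 1 := by rw [map_add, he, C.B_self, add_zero]
  obtain ⟨x, hx, hxc⟩ := C.sing_off hc hf hi hfc h2 h1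
  have C₁ := C'.conj x
  rw [hxc] at C₁
  have hj₁ := C.inv_conj hi hj hx
  generalize Y.map (MulAut.conj x).toMonoidHom = Y₁ at C₁ hj₁
  generalize hc₁ : e + a = c₁ at h1 h2 C₁ hxc
  have he₁ : e = c₁ + a := by rw [← hc₁, C.add_add_self]
  -- a singular vector `s ≠ 0` in `⟨a, c₁⟩^⊥`
  obtain ⟨k, hk0, -, hka, hkc, -⟩ := C.exists_ker (B a) (B c₁) (B a) 0
  obtain ⟨l, hl0, hlk, hla, hlc, hlk'⟩ := C.exists_ker (B a) (B c₁) (B k) k
  have hs : ∃ s, s ≠ 0 ∧ B a s = 0 ∧ B c₁ s = 0 ∧ f s = 0 := by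
    rcases zmod_two (f k) with h3 | h3
    · exact ⟨k, hk0, hka, hkc, h3⟩
    · rcases zmod_two (f l) with h4 | h4
      · exact ⟨l, hl0, hla, hlc, h4⟩
      · refine ⟨k + l, fun h => hlk (C.add_eq_zero.1 h).symm, ?_, ?_, ?_⟩
        · rw [map_add, hka, hla, add_zero]
        · rw [map_add, hkc, hlc, add_zero]
        · rw [hf, h3, h4, hlk']; decide
  obtain ⟨s, hs0, has, hcs, hfs⟩ := hs
  obtain ⟨y, hy, -, hy'⟩ := C.siegel hf hi has
  have hc1a : B c₁ a = 1 := by rw [C.B_comm]; exact h2
  have hyc : ρ y c₁ = c₁ + s := by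
    rw [hy', hcs, hfs, hc1a, zero_smul, one_smul, zero_mul, zero_smul, add_zero, add_zero]
  have C₂ := C₁.conj y
  rw [hyc] at C₂
  have hj₂ := C.inv_conj hi hj₁ hy
  have hce : B (c₁ + s) e = 1 := by
    rw [he₁, map_add, map_add B, LinearMap.add_apply, LinearMap.add_apply, C.B_self, hc1a,
      C.B_comm s c₁, hcs, C.B_comm s a, has]
    decide
  obtain ⟨g, hg, hgi, hgz, -, hge⟩ := C.pair E he
  obtain ⟨g', hg', hgi', hgz', -, hge'⟩ := C₂.pair E hce
  have key : ∀ v, B e v = 0 → B (a + (c₁ + s)) v = 0 := by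
    intro v hv
    have e1 := C.agree_off hf hi hg hgi he v
    have e2 := C₂.agree_off hf hj₂ hg' hgi' hce v
    rw [hfe, hge, add_zero, mul_one] at e1
    rw [hfe, hge', add_zero, mul_one] at e2
    have e3 := E.agree hg hgz hg' hgz' hv
    rw [e1, e2] at e3
    rw [map_add, LinearMap.add_apply, add_left_cancel e3, CharTwo.add_self_eq_zero]
  rcases C.eq_of_perp key with h3 | h3
  · have h4 := congrArg (B a) h3
    rw [map_add, map_add (B a), map_zero, C.B_self, h2, has] at h4
    revert h4; decide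
  · apply hs0
    rw [he₁] at h3
    have : s = a + (c₁ + s) + (c₁ + a) := by
      have : a + (c₁ + s) + (c₁ + a) = s + ((a + a) + (c₁ + c₁)) := by abel
      rw [this, C.add_self, C.add_self, add_zero, add_zero]
    rw [this, h3, C.add_self]

/-- **all points are singular** -/
theorem vanish {Y Z : Subgroup H} (C : SCfg ρ B a X w) {c e : U} (C' : SCfg ρ B c Y w)
    (hc : B a c = 1) {f : U → ZMod 2} (hf : QF B f) (hi : Inv ρ X f) (hj : Inv ρ Y f)
    (hfc : f c = 0) (E : SCfg ρ B e Z w) : f e = 0 := by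
  have hca : B c a = 1 := by rw [C.B_comm]; exact hc
  have hfa := C.f_a hf hi
  rcases zmod_two (B a e) with h1 | h1
  · rcases zmod_two (B c e) with h2 | h2
    · obtain ⟨s, hs⟩ := C.exists_off E.a_ne
      let r : U := s + B c s • a + B a s • c
      have ha' : B a r = 0 := by
        show B a (s + B c s • a + B a s • c) = 0
        simp only [map_add, map_smul, C.B_self, hc, smul_eq_mul, mul_zero, add_zero, mul_one]
        exact CharTwo.add_self_eq_zero _
      have hc' : B c r = 0 := by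
        show B c (s + B c s • a + B a s • c) = 0
        simp only [map_add, map_smul, C.B_self, hca, smul_eq_mul, mul_zero, add_zero, mul_one]
        exact CharTwo.add_self_eq_zero _
      have her : B e r = 1 := by
        show B e (s + B c s • a + B a s • c) = 1
        simp only [map_add, map_smul, C.B_comm e a, C.B_comm e c, h1, h2, smul_eq_mul, mul_zero,
          add_zero, hs]
      obtain ⟨y, hy, -, hy'⟩ := C.siegel hf hi ha'
      have hyc : ρ y c = c + r + f r • a := by
        rw [hy', hc', hca, zero_smul, one_smul, mul_one, add_zero]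
      have C₂ := C'.conj y
      have hj₂ := C.inv_conj hi hj hy
      have g1 : B (ρ y c) a = 1 := by
        rw [hyc, map_add, map_add, LinearMap.add_apply, LinearMap.add_apply, map_smul,
          LinearMap.smul_apply, C.B_self, hca, C.B_comm r a, ha', smul_zero, add_zero, add_zero]
      have g2 : B (ρ y c) e = 1 := by
        rw [hyc, map_add, map_add, LinearMap.add_apply, LinearMap.add_apply, map_smul,
          LinearMap.smul_apply, h2, h1, C.B_comm r e, her, smul_zero, add_zero, zero_add]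
      exact C₂.off_vanish C g1 hf hj₂ hi hfa E g2
    · exact C'.off_vanish C hca hf hj hi hfa E h2
  · exact C.off_vanish C' hc hf hi hj hfc E h1

/-- an opposite point -/
theorem exists_opp (C : SCfg ρ B a X w) : ∃ h, B a (ρ h a) = 1 := by
  by_contra hcon
  push Not at hcon
  let W : Submodule (ZMod 2) U :=
    { carrier := {u | ∀ h, B a (ρ h u) = 0}
      zero_mem' := fun h => by rw [map_zero, map_zero]
      add_mem' := fun {u v} hu hv h => by rw [map_add, map_add, hu h, hv h, add_zero]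
      smul_mem' := fun k u hu h => by rw [map_smul, map_smul, hu h, smul_zero] }
  rcases C.irr W (fun h v hv g => by rw [← C.ρ_mul]; exact hv _) with h1 | h1
  · have h2 : a ∈ W := fun h => by
      rcases zmod_two (B a (ρ h a)) with h3 | h3
      · exact h3
      · exact absurd h3 (hcon h)
    rw [h1, Submodule.mem_bot] at h2
    exact C.a_ne h2
  · apply C.a_ne
    apply C.nondeg
    intro u
    have h2 : u ∈ W := by rw [h1]; trivial
    have h3 := h2 1
    rwa [C.ρ_one] at h3

/-- an additive function vanishing on the orbit of `a` is zero -/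
theorem add_vanish (C : SCfg ρ B a X w) (L : U →ₗ[ZMod 2] ZMod 2) (hL : ∀ h, L (ρ h a) = 0)
    (u : U) : L u = 0 := by
  let W : Submodule (ZMod 2) U :=
    { carrier := {u | ∀ h, L (ρ h u) = 0}
      zero_mem' := fun h => by rw [map_zero, map_zero]
      add_mem' := fun {u v} hu hv h => by rw [map_add, map_add, hu h, hv h, add_zero]
      smul_mem' := fun k u hu h => by rw [map_smul, map_smul, hu h, smul_zero] }
  rcases C.irr W (fun h v hv g => by rw [← C.ρ_mul]; exact hv _) with h1 | h1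
  · have h2 : a ∈ W := hL
    rw [h1, Submodule.mem_bot] at h2
    exact absurd h2 C.a_ne
  · have h2 : u ∈ W := by rw [h1]; trivial
    have h3 := h2 1
    rwa [C.ρ_one] at h3

/-- **THEOREM** -/
theorem exists_form (C : SCfg ρ B a X w) : ∃ f : U → ZMod 2, Form ρ B a f := by
  obtain ⟨h₀, hc⟩ := C.exists_opp
  have C' := C.conj h₀
  obtain ⟨f, hf, hi, hj, hfa, hfc⟩ := C.pair C' hc
  have hO : ∀ h, f (ρ h a) = 0 := fun h => C.vanish C' hc hf hi hj hfc (C.conj h)
  have hinv : ∀ h u, f (ρ h u) = f u := by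
    intro h u
    let L : U →ₗ[ZMod 2] ZMod 2 :=
      { toFun := fun v => f (ρ h v) + f v
        map_add' := by
          intro x y
          rw [map_add, hf, hf, C.B_inv]
          generalize f (ρ h x) = p; generalize f (ρ h y) = r; generalize f x = p'
          generalize f y = r'; generalize B x y = k
          revert p r p' r' k; decide
        map_smul' := by
          intro k x
          rw [map_smul, C.qf_smul hf, C.qf_smul hf, RingHom.id_apply, smul_eq_mul]; ring }
    have h1 := C.add_vanish L (fun g => by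
      show f (ρ h (ρ g a)) + f (ρ g a) = 0
      rw [← C.ρ_mul, hO, hO, add_zero]) u
    exact CharTwo.add_eq_zero.1 h1
  have hInv : ∀ Z : Subgroup H, Inv ρ Z f := fun Z x _ u => hinv x u
  have hoff : ∀ h u, f u = 0 → B (ρ h a) u = 1 → ∃ g, ρ g a = u := by
    intro h u hfu hu
    have C₁ := C.conj h
    obtain ⟨g, hg⟩ := C₁.exists_opp
    obtain ⟨x, -, hx⟩ := C₁.sing_off hg hf (hInv _) (by rw [hinv, hinv]; exact hfa) hu hfu
    exact ⟨x * (g * h), by rw [C.ρ_mul, C.ρ_mul]; exact hx⟩
  have htr : ∀ u, u ≠ 0 → f u = 0 → ∃ h, ρ h a = u := by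
    intro u hu0 hfu
    rcases zmod_two (B a u) with h | h
    · by_cases hua : u = a
      · exact ⟨1, by rw [C.ρ_one, hua]⟩
      obtain ⟨s, has, hus⟩ := C.exists_sep hu0 hua
      obtain ⟨s', has', hus'⟩ : ∃ s', B a s' = 0 ∧ B u (ρ h₀ a) + B u s' = 1 := by
        rcases zmod_two (B u (ρ h₀ a)) with h1 | h1
        · exact ⟨s, has, by rw [h1, hus, zero_add]⟩
        · exact ⟨0, by rw [map_zero], by rw [h1, map_zero, add_zero]⟩
      obtain ⟨y, hy, -, hy'⟩ := C.siegel hf hi has'
      refine hoff (y * h₀) u hfu ?_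
      rw [C.ρ_mul, hy']
      simp only [map_add, LinearMap.add_apply, map_smul, LinearMap.smul_apply, h, smul_eq_mul,
        mul_zero, add_zero]
      rw [C.B_comm _ a, hc, one_mul, C.B_comm _ u, C.B_comm s' u]
      exact hus'
    · exact hoff 1 u hfu (by rw [C.ρ_one]; exact h)
  refine ⟨f, hf, hinv, hfa, htr, fun u s hfu hus => ?_⟩
  by_cases hu0 : u = 0
  · refine ⟨1, fun v => ?_⟩
    rw [C.ρ_one, hu0, map_zero, zero_smul, smul_zero, smul_zero, add_zero, add_zero, add_zero]
  obtain ⟨h, rfl⟩ := htr u hu0 hfu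
  obtain ⟨x, -, -, hx⟩ := (C.conj h).siegel hf (hInv _) hus
  exact ⟨x, hx⟩

end SCfg

end Cfsg.Agent.Omega.EH3.RowS
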