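import Cfsg.Agent.Omega.EH3.RowS.AbsOf
import Cfsg.Agent.Omega.EH3.RowS.Split

/-!
# EH3, row S: the front (helper754)

From `C : Cfg ρ b q a D X w`, `S : Tri ρ X L d t`, `L` normal quasisimple with centre of odd order:

* `Tri.exists_QD` : the quadratic form `Q` on `U = C_V(t)`;
* `Tri.X_le` : `X ⊓ HH d t ≤ L`;
* `Tri.sd` : `SD ρ a d t (X ⊓ HH d t) L`;
* `Tri.cent_L` : `C_H(L) = {1, t, d, dt, d⁻¹, d⁻¹t}`;
* `Tri.exists_split` : `h = s * k`, `s ∈ ⟨d, t⟩`, `k ∈ HH d t`.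
-/

set_option autoImplicit false

namespace Cfsg.Agent.Omega.EH3.RowS

open Subgroup

namespace Tri

variable {H V : Type*} [Group H] [AddCommGroup V] [Module (ZMod 2) V]
  {ρ : H →* (V ≃ₗ[ZMod 2] V)} {b : LinearMap.BilinForm (ZMod 2) V} {q : V → ZMod 2}
  {a : V} {D : Submodule (ZMod 2) V} {X : Subgroup H} {w : ℕ} {L : Subgroup H} {d t : H}

variable (C : Cfg ρ b q a D X w) (S : Tri ρ X L d t)
include C S

theorem exists_QD (hN : L.Normal) (hq : IsQuasisimple L) (hZ : Odd (Nat.card (center L))) :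
    ∃ Q, QD (ρ₀ ρ d t) (gam ρ b d t) (⟨a, S.a_mem C⟩ : UU ρ t) (X.subgroupOf (HH d t))
      (L.subgroupOf (HH d t)) Q :=
  (S.ab C hN hq hZ).exists_QD

theorem X_le (hN : L.Normal) (hq : IsQuasisimple L) (hZ : Odd (Nat.card (center L))) : X ⊓ HH d t ≤ L := by
  obtain ⟨Q, hQ⟩ := S.exists_QD C hN hq hZ
  rintro x ⟨hx, hxH⟩
  have h : (⟨x, hxH⟩ : HH d t) ∈ X.subgroupOf (HH d t) := hx
  exact hQ.X_le (S.ab C hN hq hZ) h

theorem sd (hN : L.Normal) (hq : IsQuasisimple L) (hZ : Odd (Nat.card (center L))) :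
    SD ρ a d t (X ⊓ HH d t) L where
  a_ne := C.a_ne
  dd := S.om C
  d3 := S.ddd
  t2 := S.tt
  tdt := S.conj
  ta := C.X_a S.t_mem
  norm := hN
  cd := fun l hl => ((mem_HH.1 (S.L_le hl)).1).symm
  ct := fun l hl => ((mem_HH.1 (S.L_le hl)).2).symm
  le := S.X_le C hN hq hZ
  fix := by
    intro v hv
    obtain ⟨u, hu, u', hu', rfl⟩ := S.dec C v
    have key : ∀ x ∈ X ⊓ HH d t, ρ x u = u ∧ ρ x u' = u' := by
      intro x hx
      have h1 := hv x hx
      rw [map_add, comm_om hx.2] at h1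
      exact S.dec_uniq C (inv_U hx.2 hu) (inv_U hx.2 hu') hu hu' h1
    have A := S.ab C hN hq hZ
    have hfix : ∀ u (hu : u ∈ UU ρ t), (∀ x ∈ X ⊓ HH d t, ρ x u = u) → u = 0 ∨ u = a := by
      intro u hu h
      have h1 := A.fix_X (u := ⟨u, hu⟩) (by
        rintro ⟨x, hxH⟩ hx
        apply Subtype.ext
        exact h x ⟨hx, hxH⟩)
      rcases h1 with h1 | h1
      · exact Or.inl (congrArg Subtype.val h1)
      · exact Or.inr (congrArg Subtype.val h1)
    rcases hfix u hu (fun x hx => (key x hx).1) with h1 | h1 <;>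
      rcases hfix u' hu' (fun x hx => (key x hx).2) with h2 | h2
    · left; rw [h1, h2, map_zero, add_zero]
    · right; right; left; rw [h1, h2, zero_add]
    · right; left; rw [h1, h2, map_zero, add_zero]
    · right; right; right; rw [h1, h2]
  eq_one := by
    intro g hg hga hgd
    have h1 : UU ρ t ≤ LinearMap.eqLocus (ρ g : V →ₗ[ZMod 2] V) LinearMap.id := by
      apply S.U_le C hN hq
      intro l hl
      show ρ g (ρ l a) = ρ l a
      rw [← C.ρ_mul, ← hg l hl, C.ρ_mul, hga]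
    have h2 : UU ρ t ≤ LinearMap.eqLocus ((ρ g : V →ₗ[ZMod 2] V).comp (ρ d : V →ₗ[ZMod 2] V))
        (ρ d : V →ₗ[ZMod 2] V) := by
      apply S.U_le C hN hq
      intro l hl
      show ρ g (ρ d (ρ l a)) = ρ d (ρ l a)
      rw [← comm_om (S.L_le hl), ← C.ρ_mul, ← hg l hl, C.ρ_mul, hgd]
    apply C.ext
    intro v
    obtain ⟨u, hu, u', hu', rfl⟩ := S.dec C v
    rw [C.ρ_one, map_add]
    have h3 : ρ g u = u := h1 hu
    have h4 : ρ g (ρ d u') = ρ d u' := h2 hu'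
    rw [h3, h4]

omit S in
theorem X0_a : ∀ x ∈ X ⊓ HH d t, ρ x a = a := fun _ hx => C.X_a hx.1

/-- **`C_H(L) = ⟨d, t⟩`** -/
theorem cent_L (hN : L.Normal) (hq : IsQuasisimple L) (hZ : Odd (Nat.card (center L))) {g : H}
    (h : ∀ l ∈ L, l * g = g * l) : g = 1 ∨ g = t ∨ g = d ∨ g = d * t ∨ g = d⁻¹ ∨ g = d⁻¹ * t :=
  (S.sd C hN hq hZ).mem_of_comm (X0_a C) h

/-- **`H = ⟨d, t⟩ H₀`** -/
theorem exists_split (hN : L.Normal) (hq : IsQuasisimple L) (hZ : Odd (Nat.card (center L))) (h : H) :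
    ∃ s ∈ closure {d, t}, ∃ k ∈ HH d t, h = s * k := by
  obtain ⟨s, hs, k, h1, h2, h3⟩ := (S.sd C hN hq hZ).exists_split (X0_a C) h
  exact ⟨s, hs, k, mem_HH.2 ⟨h1.symm, h2.symm⟩, h3⟩

/-- `HH d t ∩ ⟨d, t⟩ = 1` -/
theorem closure_inf (hN : L.Normal) (hq : IsQuasisimple L) (hZ : Odd (Nat.card (center L))) {g : H}
    (h1 : g ∈ closure {d, t}) (h2 : g ∈ HH d t) : g = 1 := by
  have h3 : closure {d, t} ≤ centralizer (L : Set H) := by
    rw [closure_le]
    rintro x (rfl | rfl)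
    · exact mem_centralizer_iff.2 fun l hl => (S.d_cent l hl).symm
    · exact mem_centralizer_iff.2 fun l hl => (S.t_cent l hl).symm
  have hne : ¬ d * t = t * d := by
    intro h
    rw [S.td, mul_left_inj] at h
    exact S.dd_ne h
  obtain ⟨h4, h5⟩ := mem_HH.1 h2
  rcases S.cent_L C hN hq hZ (fun l hl => mem_centralizer_iff.1 (h3 h1) l hl) with h | h | h | h | h | h
  · exact h
  · exact absurd (h ▸ h2) S.t_not_mem
  · exfalso; apply hne; rw [h] at h5; exact h5.symm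
  · exfalso
    apply hne
    rw [h, mul_assoc, mul_right_inj] at h4
    exact h4
  · exfalso
    apply hne
    rw [h] at h5
    calc d * t = d * (t * d⁻¹) * d := by group
      _ = d * (d⁻¹ * t) * d := by rw [h5]
      _ = t * d := by group
  · exfalso
    apply hne
    rw [h] at h4
    calc d * t = d * (d * (d⁻¹ * t)) := by group
      _ = d * (d⁻¹ * t * d) := by rw [h4]
      _ = t * d := by group

end Tri

end Cfsg.Agent.Omega.EH3.RowS
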