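import Cfsg.Agent.Omega.EH3.RowS.Front
import Cfsg.Agent.Omega.EH3.RowS.Refl

/-!
# EH3, row S: `H / (⟨d,t⟩ × L)` is a 2-group (helper754)

* `Tri.sq_mem_L` : `k * k ∈ L` for `k ∈ HH d t`;
* `Tri.sq_mem` : `h * h ∈ ⟨d,t⟩ ⊔ L` for all `h : H`;
* `Tri.odd_mem` : elements of odd order of `H` lie in `⟨d,t⟩ ⊔ L`.
-/

set_option autoImplicit false

namespace Cfsg.Agent.Omega.EH3.RowS

open Subgroup

namespace Tri

variable {H V : Type*} [Group H] [AddCommGroup V] [Module (ZMod 2) V]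
  {ρ : H →* (V ≃ₗ[ZMod 2] V)} {b : LinearMap.BilinForm (ZMod 2) V} {q : V → ZMod 2}
  {a : V} {D : Submodule (ZMod 2) V} {X : Subgroup H} {w : ℕ} {L : Subgroup H} {d t : H}

variable (C : Cfg ρ b q a D X w) (S : Tri ρ X L d t)
include C S

theorem sq_mem_L (hN : L.Normal) (hq : IsQuasisimple L) (hZ : Odd (Nat.card (center L))) {k : H}
    (hk : k ∈ HH d t) : k * k ∈ L := by
  obtain ⟨Q, hQ⟩ := S.exists_QD C hN hq hZ
  have h := hQ.sq_mem (S.ab C hN hq hZ) ⟨k, hk⟩
  exact h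

omit C in
theorem closure_comm {s k : H} (hs : s ∈ closure {d, t}) (hk : k ∈ HH d t) : s * k = k * s := by
  have h : closure {d, t} ≤ centralizer {k} := by
    rw [closure_le]
    rintro x (rfl | rfl)
    · exact mem_centralizer_singleton_iff.2 (mem_HH.1 hk).1
    · exact mem_centralizer_singleton_iff.2 (mem_HH.1 hk).2
  exact mem_centralizer_singleton_iff.1 (h hs)

theorem sq_mem (hN : L.Normal) (hq : IsQuasisimple L) (hZ : Odd (Nat.card (center L))) (h : H) :
    h * h ∈ closure {d, t} ⊔ L := by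
  obtain ⟨s, hs, k, hk, rfl⟩ := S.exists_split C hN hq hZ h
  have e : s * k * (s * k) = (s * s) * (k * k) := by
    have := S.closure_comm hs hk
    calc s * k * (s * k) = s * (k * s) * k := by group
      _ = s * (s * k) * k := by rw [this]
      _ = _ := by group
  rw [e]
  exact mul_mem (mem_sup_left (mul_mem hs hs)) (mem_sup_right (S.sq_mem_L C hN hq hZ hk))

theorem odd_mem (hN : L.Normal) (hq : IsQuasisimple L) (hZ : Odd (Nat.card (center L))) {h : H}
    (ho : Odd (orderOf h)) : h ∈ closure {d, t} ⊔ L := by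
  obtain ⟨n, hn⟩ := ho
  have h1 := S.sq_mem C hN hq hZ h
  have h2 : h = (h * h) ^ (n + 1) := by
    have h3 := pow_orderOf_eq_one h
    rw [hn] at h3
    rw [← pow_two, ← pow_mul, show 2 * (n + 1) = (2 * n + 1) + 1 by ring, pow_succ, h3, one_mul]
  rw [h2]
  exact pow_mem h1 _

end Tri

end Cfsg.Agent.Omega.EH3.RowS
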