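import Cfsg.Agent.Omega.EH3.RowS.Abs

/-!
# EH3, row S (bb OMEGA #14257, #14554): `L = ⟨X^L⟩ = Ω(U, Q)` (helper754)

`QD σ γ a X L Q`: the conclusion of `AB.exists_Q` as a structure; `AB.exists_QD`.
`QD.exists_mem_L`: all Siegel maps of `(a, Q)` are induced by `L`; `QD.X_le : X ≤ L`;
`QD.exists_siegel`: all Siegel maps of `Q` are induced by `L`; `AB.closure_eq`: `L` is generated by the conjugates of `X`;
`AB.fix_X`: `C_U(X) = {0, a}`; `AB.comm_eq_one`: a linear map commuting with `L` is the identity.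
-/

set_option autoImplicit false

namespace Cfsg.Agent.Omega.EH3.RowS

variable {U : Type*} [AddCommGroup U] [Module (ZMod 2) U]

/-- a nonsingular vector of `a^⊥` is the sum of two singular vectors of `a^⊥` -/
theorem IsQ.decomp [Finite U] {γ : LinearMap.BilinForm (ZMod 2) U} {Q : U → ZMod 2} (h : IsQ γ Q) (S : Sy γ)
    (hd : 2 ^ 5 ≤ Nat.card U) {a w : U} (ha : Q a = 0) (haw : γ a w = 0) (hw : Q w = 1) :
    ∃ w₁ w₂, γ a w₁ = 0 ∧ γ a w₂ = 0 ∧ Q w₁ = 0 ∧ Q w₂ = 0 ∧ w = w₁ + w₂ := by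
  have hw0 : w ≠ 0 := by
    rintro rfl
    rw [h.zero] at hw
    exact absurd hw (by decide)
  have hwa : w ≠ a := by
    rintro rfl
    rw [ha] at hw
    exact absurd hw (by decide)
  obtain ⟨y, h1, h2⟩ := S.exists_sep1 hw0 hwa
  have hay : γ a y = 0 := by rw [S.comm]; exact h2
  -- it is enough to have a singular `y`
  suffices hs : ∃ y, γ a y = 0 ∧ γ y w = 1 ∧ Q y = 0 by
    obtain ⟨y, h3, h4, h5⟩ := hs
    refine ⟨y, w + y, h3, by rw [map_add, haw, h3, add_zero], h5, ?_, ?_⟩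
    · rw [h.add, hw, h5, S.comm w y, h4]; decide
    · rw [add_comm w y, ← add_assoc, add_self, zero_add]
  rcases z2 (Q y) with hy | hy
  · exact ⟨y, hay, h1, hy⟩
  obtain ⟨p, p', i1, i2, i3, i4, i5⟩ := S.exists_hyp hd a w
  -- make them orthogonal to `y`
  have key : ∀ p, γ a p = 0 → γ w p = 0 → γ a (p + γ p y • w) = 0 ∧ γ w (p + γ p y • w) = 0 ∧
      γ y (p + γ p y • w) = 0 := by
    intro p h3 h4
    refine ⟨?_, ?_, ?_⟩
    · rw [map_add, map_smul, h3, haw, smul_zero, add_zero]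
    · rw [map_add, map_smul, h4, S.alt, smul_zero, add_zero]
    · rw [map_add, map_smul, h1, smul_eq_mul, mul_one, S.comm y p, z2_add]
  obtain ⟨j1, j2, j3⟩ := key p i1 i2
  obtain ⟨k1, k2, k3⟩ := key p' i3 i4
  set r := p + γ p y • w with hr
  set r' := p' + γ p' y • w with hr'
  have hrr : γ r r' = 1 := by
    rw [hr, hr']
    simp only [map_add, map_smul, LinearMap.add_apply, LinearMap.smul_apply, smul_eq_mul, S.alt, i4, i5,
      S.comm p w, i2, mul_zero, add_zero]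
  obtain ⟨s, h3, h4, h5, h6⟩ : ∃ s, γ a s = 0 ∧ γ w s = 0 ∧ γ y s = 0 ∧ Q s = 1 := by
    rcases z2 (Q r) with h3 | h3
    · rcases z2 (Q r') with h4 | h4
      · refine ⟨r + r', by rw [map_add, j1, k1, add_zero], by rw [map_add, j2, k2, add_zero],
          by rw [map_add, j3, k3, add_zero], ?_⟩
        rw [h.add, h3, h4, hrr]; decide
      · exact ⟨r', k1, k2, k3, h4⟩
    · exact ⟨r, j1, j2, j3, h3⟩
  refine ⟨y + s, by rw [map_add, hay, h3, add_zero], ?_, ?_⟩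
  · rw [map_add, LinearMap.add_apply, h1, S.comm s w, h4, add_zero]
  · rw [h.add, hy, h6, h5]; decide

/-- the conclusion of `AB.exists_Q` -/
structure QD {M : Type*} [Group M] (σ : M →* (U ≃ₗ[ZMod 2] U)) (γ : LinearMap.BilinForm (ZMod 2) U) (a : U)
    (X L : Subgroup M) (Q : U → ZMod 2) : Prop where
  isQ : IsQ γ Q
  sing : ∀ v, (∃ l ∈ L, v = σ l a) ↔ v ≠ 0 ∧ Q v = 0
  inv : ∀ m v, Q (σ m v) = Q v
  X_form : ∀ x ∈ X, ∃ w, γ a w = 0 ∧ ∀ v, σ x v = rr γ a w (Q w) v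
  X_ex : ∀ w, γ a w = 0 → ∃ x ∈ X, ∀ v, σ x v = rr γ a w (Q w) v

variable {M : Type*} [Group M] {σ : M →* (U ≃ₗ[ZMod 2] U)} {γ : LinearMap.BilinForm (ZMod 2) U} {a : U}
  {X L : Subgroup M} {Q : U → ZMod 2}

theorem AB.exists_QD (A : AB σ γ a X L) : ∃ Q, QD σ γ a X L Q := by
  obtain ⟨Q, h1, h2, h3, h4, h5⟩ := A.exists_Q
  exact ⟨Q, ⟨h1, h2, h3, h4, h5⟩⟩

namespace QD

theorem Q_a (D : QD σ γ a X L Q) (A : AB σ γ a X L) : Q a = 0 :=
  ((D.sing a).1 ⟨1, one_mem _, (A.σ_one a).symm⟩).2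

/-- Siegel maps with singular axis vector are in `L` -/
theorem exists_mem_L_sing (D : QD σ γ a X L Q) (A : AB σ γ a X L) {v : U} (hv : γ a v = 0) (hQ : Q v = 0) :
    ∃ l ∈ L, ∀ u, σ l u = rr γ a v (Q v) u := by
  have hn := A.L_norm
  have S := A.sy
  have := A.finite
  rw [hQ]
  by_cases hv0 : v = 0
  · refine ⟨1, one_mem _, fun u => ?_⟩
    rw [A.σ_one, hv0, rr]; simp
  by_cases hva : v = a
  · refine ⟨1, one_mem _, fun u => ?_⟩
    rw [A.σ_one, hva, rr, zero_mul, zero_smul, add_zero, add_assoc, add_self, add_zero]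
  obtain ⟨w, y, h1, h2, h3, h4, h5⟩ := S.exists_hyp A.card a v
  obtain ⟨h, hh, hf⟩ := D.X_ex w h1
  obtain ⟨l, hl, hl'⟩ := (D.sing v).2 ⟨hv0, hQ⟩
  have hy : γ a (σ l⁻¹ y) = 0 := by
    rw [← A.iso l, A.σ_inv', ← hl']; exact h4
  obtain ⟨x, hx, hxf⟩ := D.X_ex (σ l⁻¹ y) hy
  have hk : ∀ u, σ (l * x * l⁻¹) u = rr γ v y (Q y) u := by
    intro u
    have h6 := A.conj_form l hxf u
    rw [h6, ← hl', A.σ_inv', D.inv]
  set k := l * x * l⁻¹ with hkdef
  have hka : σ k a = a := by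
    rw [hk, rr, S.comm v a, hv, S.comm y a, h3]; simp
  have hkw : σ k w = w + v := by
    rw [hk, rr, h2, S.comm y w, h5]; simp
  refine ⟨h * (k * h * k⁻¹), ?_, fun u => ?_⟩
  · -- membership in `L`
    have hinv := A.X_inv hh
    have hcm : h⁻¹ * x * h = x := by
      rw [mul_assoc, A.X_comm hx hh, ← mul_assoc, inv_mul_cancel, one_mul]
    have e : h * (k * h * k⁻¹) = (h * l * h⁻¹) * (x * ((h * l⁻¹ * h⁻¹) * l) * x⁻¹) * l⁻¹ := by
      have e1 : h * (k * h * k⁻¹) = h * l * x * l⁻¹ * h⁻¹ * l * x⁻¹ * l⁻¹ := by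
        rw [hinv, hkdef]; group
      rw [e1]
      nth_rewrite 1 [← hcm]
      group
    rw [e]
    exact L.mul_mem (L.mul_mem (hn.conj_mem l hl h) (hn.conj_mem _ (L.mul_mem (hn.conj_mem _ (L.inv_mem hl) h) hl) x))
      (L.inv_mem hl)
  · rw [A.σ_mul, hf, A.conj_form k hf, hka, hkw]
    rw [rr_rr A.a_iso (by rw [map_add, h1, hv, add_zero]) (by rw [A.symm]; exact h1), ← add_assoc, add_self,
      zero_add, map_add, A.alt, zero_add, S.comm w v, h2, z2_add, zero_add]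

/-- all Siegel maps with centre `a` are in `L` -/
theorem exists_mem_L (D : QD σ γ a X L Q) (A : AB σ γ a X L) {w : U} (hw : γ a w = 0) :
    ∃ l ∈ L, ∀ u, σ l u = rr γ a w (Q w) u := by
  have := A.finite
  rcases z2 (Q w) with h | h
  · exact D.exists_mem_L_sing A hw h
  · obtain ⟨w₁, w₂, h1, h2, h3, h4, h5⟩ := D.isQ.decomp A.sy A.card (D.Q_a A) hw h
    obtain ⟨l₁, hl₁, e₁⟩ := D.exists_mem_L_sing A h1 h3
    obtain ⟨l₂, hl₂, e₂⟩ := D.exists_mem_L_sing A h2 h4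
    refine ⟨l₁ * l₂, mul_mem hl₁ hl₂, fun u => ?_⟩
    rw [A.σ_mul, e₁, e₂, rr_rr A.a_iso h2 (by rw [A.symm]; exact h1), h5, D.isQ.add]

/-- **`X ≤ L`** -/
theorem X_le (D : QD σ γ a X L Q) (A : AB σ γ a X L) : X ≤ L := by
  intro x hx
  obtain ⟨w, hw, h⟩ := D.X_form x hx
  obtain ⟨l, hl, h'⟩ := D.exists_mem_L A hw
  have : x = l := A.ext fun v => by rw [h, h']
  rw [this]; exact hl

/-- all Siegel maps of `Q` are in `L` -/
theorem exists_siegel (D : QD σ γ a X L Q) (A : AB σ γ a X L) {u w : U} (hu : u ≠ 0) (hQ : Q u = 0)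
    (hw : γ u w = 0) : ∃ l ∈ L, ∀ v, σ l v = rr γ u w (Q w) v := by
  obtain ⟨l, hl, rfl⟩ := (D.sing u).2 ⟨hu, hQ⟩
  have e : w = σ l (σ l⁻¹ w) := (A.σ_inv' l w).symm
  rw [e, A.iso] at hw
  obtain ⟨k, hk, h⟩ := D.exists_mem_L A hw
  refine ⟨l * k * l⁻¹, mul_mem (mul_mem hl hk) (inv_mem hl), fun v => ?_⟩
  rw [A.conj_form l h, A.σ_inv', D.inv]

end QD

namespace AB

theorem exists_perp (A : AB σ γ a X L) : ∃ w, γ a w = 0 ∧ w ≠ 0 ∧ w ≠ a := by
  have := A.finite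
  obtain ⟨w, w', h1, -, h2, -, h3⟩ := A.sy.exists_hyp A.card a a
  refine ⟨w, h1, ?_, ?_⟩
  · rintro rfl
    simp at h3
  · rintro rfl
    rw [h2] at h3
    exact absurd h3 (by decide)

theorem X_ne (A : AB σ γ a X L) : ∃ x ∈ X, x ≠ 1 := by
  obtain ⟨w, h1, h2, h3⟩ := A.exists_perp
  obtain ⟨x, hx, l, h⟩ := A.X_ex h1
  obtain ⟨y, h4, h5⟩ := A.sep h2 h3
  refine ⟨x, hx, fun h0 => A.a_ne ?_⟩
  have h6 := h y
  rw [h0, A.σ_one, rr, h4, A.symm w y, h5, zero_smul, add_zero, mul_zero, zero_smul, add_zero, one_smul] at h6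
  exact (left_eq_add.1 h6)

/-- `C_U(X) = {0, a}` -/
theorem fix_X (A : AB σ γ a X L) {u : U} (h : ∀ x ∈ X, σ x u = u) : u = 0 ∨ u = a := by
  by_contra hcon
  push Not at hcon
  rcases z2 (γ a u) with h1 | h1
  · obtain ⟨y, h2, h3⟩ := A.sep hcon.1 hcon.2
    obtain ⟨x, hx, h4⟩ := A.X_all (γ y) (by rw [A.symm]; exact h2)
    have h5 := h4 u h1
    rw [h x hx, h3, one_smul] at h5
    exact A.a_ne (left_eq_add.1 h5)
  · obtain ⟨w, h2, h3, h4⟩ := A.exists_perp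
    obtain ⟨x, hx, l, h5⟩ := A.X_ex h2
    have h6 := h5 u
    rw [h x hx, rr, h1, one_smul, mul_one, add_assoc, add_assoc] at h6
    have h7 : w + (γ w u • a + l • a) = 0 := left_eq_add.1 h6
    rw [add_eq_zero, ← add_smul] at h7
    rcases z2 (γ w u + l) with h8 | h8
    · rw [h8, zero_smul] at h7; exact h3 h7
    · rw [h8, one_smul] at h7; exact h4 h7

/-- a linear automorphism commuting with `L` and fixing `a` is the identity -/
theorem eq_of_comm (A : AB σ γ a X L) {g : U →ₗ[ZMod 2] U} (h : ∀ l ∈ L, ∀ u, g (σ l u) = σ l (g u))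
    (ha : g a = a) (u : U) : g u = u := by
  have h1 : A.U0 ≤ LinearMap.eqLocus g LinearMap.id := by
    rw [U0, Submodule.span_le]
    rintro _ ⟨l, hl, rfl⟩
    show g (σ l a) = σ l a
    rw [h l hl, ha]
  have h2 : u ∈ A.U0 := by rw [A.U0_top]; exact Submodule.mem_top
  exact h1 h2

/-- `L` is generated by the `L`-conjugates of `X` -/
theorem closure_eq (A : AB σ γ a X L) :
    Subgroup.closure {g : M | ∃ l ∈ L, ∃ x ∈ X, g = l * x * l⁻¹} = L := by
  obtain ⟨Q, D⟩ := A.exists_QD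
  have hXL := D.X_le A
  set N := Subgroup.closure {g : M | ∃ l ∈ L, ∃ x ∈ X, g = l * x * l⁻¹} with hN
  have hNL : N ≤ L := by
    rw [hN, Subgroup.closure_le]
    rintro _ ⟨l, hl, x, hx, rfl⟩
    exact mul_mem (mul_mem hl (hXL hx)) (inv_mem hl)
  have hXN : X ≤ N := fun x hx => Subgroup.subset_closure ⟨1, one_mem _, x, hx, by group⟩
  have hnorm : ∀ l ∈ L, ∀ n ∈ N, l * n * l⁻¹ ∈ N := by
    intro l hl n hn
    induction hn using Subgroup.closure_induction with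
    | mem y hy =>
      obtain ⟨k, hk, x, hx, rfl⟩ := hy
      apply Subgroup.subset_closure
      exact ⟨l * k, mul_mem hl hk, x, hx, by group⟩
    | one => rw [mul_one, mul_inv_cancel]; exact one_mem _
    | mul y z _ _ h1 h2 =>
      have e : l * (y * z) * l⁻¹ = (l * y * l⁻¹) * (l * z * l⁻¹) := by group
      rw [e]; exact mul_mem h1 h2
    | inv y _ h1 =>
      have e : l * y⁻¹ * l⁻¹ = (l * y * l⁻¹)⁻¹ := by group
      rw [e]; exact inv_mem h1
  rcases A.L_simple N hNL hnorm with h | h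
  · exact h
  · exfalso
    obtain ⟨x, hx, h1⟩ := A.X_ne
    exact h1 (A.cen x hx (fun l hl => h x (hXN hx) l hl))

end AB

end Cfsg.Agent.Omega.EH3.RowS
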