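import Cfsg.Agent.Omega.EH3.RowS.XProd

/-!
# RowS, BACK (helper73), part 6: the system `XSys` of `S₃`
-/

set_option autoImplicit false

namespace Cfsg.Agent.Omega.EH3.RowS.XS3

open Subgroup Cfsg.Agent.ParSys Cfsg.Agent.Omega.ThmID Cfsg.Agent.Omega.EH3.RowS.XProd

variable {X : Type*} [Group X] {d t : X}

/-- `X = ⟨d, t⟩ = S₃` -/
structure IsS3 (d t : X) : Prop where
  d3 : d * d * d = 1
  d_ne : d ≠ 1
  t2 : t * t = 1
  t_ne : t ≠ 1
  conj : t * d = d * d * t
  all : ∀ x : X, (x = 1 ∨ x = d ∨ x = d * d) ∨ x = t ∨ x = d * t ∨ x = d * d * t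

namespace IsS3

variable (h : IsS3 d t)

include h

theorem dd_ne : d * d ≠ 1 := by
  intro h1
  have h2 := h.d3
  rw [h1, one_mul] at h2
  exact h.d_ne h2

theorem d_ne_t : d ≠ t := by
  intro h1
  have h2 := h.t2
  rw [← h1] at h2
  exact h.dd_ne h2

theorem dd_ne_t : d * d ≠ t := by
  intro h1
  have h2 := h.t2
  rw [← h1] at h2
  have h3 : d * d * (d * d) = d * d * d * d := by group
  rw [h3, h.d3, one_mul] at h2
  exact h.d_ne h2

omit h in
theorem mem_zp (ht : t * t = 1) {x : X} : x ∈ zpowers t ↔ x = 1 ∨ x = t := by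
  constructor
  · intro hx
    obtain ⟨n, rfl⟩ := mem_zpowers_iff.1 hx
    rcases Int.even_or_odd' n with ⟨m, rfl | rfl⟩
    · left
      rw [zpow_mul, zpow_two, ht, one_zpow]
    · right
      rw [zpow_add, zpow_mul, zpow_two, ht, one_zpow, one_mul, zpow_one]
  · rintro (rfl | rfl)
    · exact one_mem _
    · exact mem_zpowers _

theorem mem_B {x : X} : x ∈ zpowers t ↔ x = 1 ∨ x = t := mem_zp h.t2

theorem not_mem_B {x : X} (hx : x ∉ zpowers t) :
    (x = d ∨ x = d * d) ∨ x = d * t ∨ x = d * d * t := by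
  rw [h.mem_B, not_or] at hx
  rcases h.all x with (h1 | h1 | h1) | h1 | h1 | h1
  · exact absurd h1 hx.1
  · exact Or.inl (Or.inl h1)
  · exact Or.inl (Or.inr h1)
  · exact absurd h1 hx.2
  · exact Or.inr (Or.inl h1)
  · exact Or.inr (Or.inr h1)

theorem d_not : d ∉ zpowers t := by
  rw [h.mem_B, not_or]
  exact ⟨h.d_ne, h.d_ne_t⟩

theorem dd_not : d * d ∉ zpowers t := by
  rw [h.mem_B, not_or]
  exact ⟨h.dd_ne, h.dd_ne_t⟩

theorem inv_d : d⁻¹ = d * d := by
  rw [inv_eq_iff_mul_eq_one, ← mul_assoc]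
  exact h.d3

theorem inv_dd : (d * d)⁻¹ = d := by
  rw [inv_eq_iff_mul_eq_one]
  exact h.d3

theorem inv_t : t⁻¹ = t := by
  rw [inv_eq_iff_mul_eq_one]
  exact h.t2

theorem t_dd : t * (d * d) = d * t := by
  rw [← mul_assoc, h.conj, mul_assoc, h.conj]
  have h3 : d * d * (d * d * t) = d * d * d * (d * t) := by group
  rw [h3, h.d3, one_mul]

theorem conj_d : d * t * d⁻¹ = d * d * t := by
  rw [h.inv_d, mul_assoc, h.t_dd, ← mul_assoc]

theorem conj_dd : d * d * t * (d * d)⁻¹ = d * t := by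
  rw [h.inv_dd, mul_assoc, h.conj]
  have h3 : d * d * (d * d * t) = d * d * d * (d * t) := by group
  rw [h3, h.d3, one_mul]

theorem dt_not : d * t ∉ zpowers t := by
  intro h1
  have h2 := mul_mem h1 (inv_mem (mem_zpowers t))
  rw [mul_inv_cancel_right] at h2
  exact h.d_not h2

theorem ddt_not : d * d * t ∉ zpowers t := by
  intro h1
  have h2 := mul_mem h1 (inv_mem (mem_zpowers t))
  rw [mul_inv_cancel_right] at h2
  exact h.dd_not h2

theorem conj_t_not {x : X} (hx : x ∉ zpowers t) : x * t * x⁻¹ ∉ zpowers t := by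
  rcases h.not_mem_B hx with (rfl | rfl) | rfl | rfl
  · rw [h.conj_d]; exact h.ddt_not
  · rw [h.conj_dd]; exact h.dt_not
  · have e : d * t * t * (d * t)⁻¹ = d * t * d⁻¹ := by group
    rw [e, h.conj_d]; exact h.ddt_not
  · have e : d * d * t * t * (d * d * t)⁻¹ = d * d * t * (d * d)⁻¹ := by group
    rw [e, h.conj_dd]; exact h.dt_not

theorem d_mem {U : Subgroup X} (hU : t ∈ U) {x : X} (hx : x ∈ U) (hxB : x ∉ zpowers t) : d ∈ U := by
  have key : d * d ∈ U → d ∈ U := by
    intro h1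
    have h2 := inv_mem h1
    rwa [h.inv_dd] at h2
  rcases h.not_mem_B hxB with (rfl | rfl) | rfl | rfl
  · exact hx
  · exact key hx
  · have h1 := mul_mem hx (inv_mem hU)
    rwa [mul_inv_cancel_right] at h1
  · have h1 := mul_mem hx (inv_mem hU)
    rw [mul_inv_cancel_right] at h1
    exact key h1

theorem not_two {U : Subgroup X} (hU : IsPGroup 2 U) : d ∉ U := by
  intro hd
  obtain ⟨n, hn⟩ := hU ⟨d, hd⟩
  have hn' : d ^ 2 ^ n = 1 := congrArg Subtype.val hn
  have h3 : d ^ 3 = 1 := by rw [pow_succ, pow_two]; exact h.d3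
  have h4 : orderOf d ∣ 2 ^ n := orderOf_dvd_of_pow_eq_one hn'
  have h5 : orderOf d ∣ 3 := orderOf_dvd_of_pow_eq_one h3
  have h6 : Nat.Coprime (2 ^ n) 3 := Nat.Coprime.pow_left n (by norm_num)
  have h7 := Nat.dvd_gcd h4 h5
  rw [h6] at h7
  exact h.d_ne (orderOf_eq_one_iff.1 (Nat.dvd_one.1 h7))

theorem card_eq : Nat.card X = 6 := by
  classical
  have e1 : (Set.univ : Set X) = {1, d, d * d, t, d * t, d * d * t} := by
    ext x
    simp only [Set.mem_univ, Set.mem_insert_iff, Set.mem_singleton_iff, true_iff]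
    rcases h.all x with (h1 | h1 | h1) | h1 | h1 | h1 <;> simp [h1]
  have e2 : Nat.card X = (Set.univ : Set X).ncard := (Set.ncard_univ X).symm
  have n1 := h.d_ne
  have n2 := h.dd_ne
  have n3 := h.t_ne
  have n4 : d * t ≠ 1 := fun h1 => h.dt_not (h1 ▸ one_mem _)
  have n5 : d * d * t ≠ 1 := fun h1 => h.ddt_not (h1 ▸ one_mem _)
  have n6 : d * d ≠ d := fun h1 => h.d_ne (mul_eq_left.1 h1)
  have n7 := h.d_ne_t
  have n8 : d * t ≠ d := fun h1 => h.t_ne (mul_eq_left.1 h1)
  have n9 : d * d * t ≠ d := by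
    intro h1
    rw [mul_assoc] at h1
    exact n4 (mul_eq_left.1 h1)
  have n10 := h.dd_ne_t
  have n11 : d * t ≠ d * d := fun h1 => n7 (mul_left_cancel h1).symm
  have n12 : d * d * t ≠ d * d := fun h1 => h.t_ne (mul_eq_left.1 h1)
  have n13 : d * t ≠ t := fun h1 => h.d_ne (mul_eq_right.1 h1)
  have n14 : d * d * t ≠ t := fun h1 => h.dd_ne (mul_eq_right.1 h1)
  have n15 : d * d * t ≠ d * t := fun h1 => n6 (mul_right_cancel h1)
  rw [e2, e1]
  rw [Set.ncard_insert_of_notMem, Set.ncard_insert_of_notMem, Set.ncard_insert_of_notMem,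
    Set.ncard_insert_of_notMem, Set.ncard_insert_of_notMem, Set.ncard_singleton]
  · rw [Set.mem_singleton_iff]; exact n15.symm
  · simp only [Set.mem_insert_iff, Set.mem_singleton_iff, not_or]; exact ⟨n13.symm, n14.symm⟩
  · simp only [Set.mem_insert_iff, Set.mem_singleton_iff, not_or]; exact ⟨n10, n11.symm, n12.symm⟩
  · simp only [Set.mem_insert_iff, Set.mem_singleton_iff, not_or]; exact ⟨n6.symm, n7, n8.symm, n9.symm⟩
  · simp only [Set.mem_insert_iff, Set.mem_singleton_iff, not_or]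
    exact ⟨n1.symm, n2.symm, n3.symm, n4.symm, n5.symm⟩

theorem card_t : Nat.card (zpowers t) = 2 := by
  rw [Nat.card_zpowers]
  exact orderOf_eq_prime (by rw [pow_two]; exact h.t2) h.t_ne

theorem index_t : (zpowers t).index = 3 := by
  have h1 := (zpowers t).card_mul_index
  rw [h.card_t, h.card_eq] at h1
  omega

theorem xtr : XTr (zpowers t) (fun _ : Unit => (⊤ : Subgroup X)) where
  ex _ := ⟨d, mem_top _, h.d_not⟩
  tr _ x _ hx y _ hy := by
    -- `x ∈ dT ∪ d²T`
    have key : ∀ z, z ∉ zpowers t → (d⁻¹ * z ∈ zpowers t ∨ (d * d)⁻¹ * z ∈ zpowers t) := by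
      intro z hz
      rcases h.not_mem_B hz with (rfl | rfl) | rfl | rfl
      · left; rw [inv_mul_cancel]; exact one_mem _
      · right; rw [inv_mul_cancel]; exact one_mem _
      · left; rw [inv_mul_cancel_left]; exact mem_zpowers _
      · right; rw [inv_mul_cancel_left]; exact mem_zpowers _
    have htd : (t * d)⁻¹ * (d * d) ∈ zpowers t := by
      rw [h.conj]
      have e : (d * d * t)⁻¹ * (d * d) = t⁻¹ := by group
      rw [e]
      exact inv_mem (mem_zpowers _)
    have htdd : (t * (d * d))⁻¹ * d ∈ zpowers t := by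
      rw [h.t_dd]
      have e : (d * t)⁻¹ * d = t⁻¹ := by group
      rw [e]
      exact inv_mem (mem_zpowers _)
    rcases key x hx with h1 | h1 <;> rcases key y hy with h2 | h2
    · refine ⟨1, one_mem _, ?_⟩
      have e : (1 * x)⁻¹ * y = (d⁻¹ * x)⁻¹ * (d⁻¹ * y) := by group
      rw [e]; exact mul_mem (inv_mem h1) h2
    · refine ⟨t, mem_zpowers _, ?_⟩
      have e : (t * x)⁻¹ * y = (d⁻¹ * x)⁻¹ * ((t * d)⁻¹ * (d * d)) * ((d * d)⁻¹ * y) := by group
      rw [e]; exact mul_mem (mul_mem (inv_mem h1) htd) h2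
    · refine ⟨t, mem_zpowers _, ?_⟩
      have e : (t * x)⁻¹ * y = ((d * d)⁻¹ * x)⁻¹ * ((t * (d * d))⁻¹ * d) * (d⁻¹ * y) := by group
      rw [e]; exact mul_mem (mul_mem (inv_mem h1) htdd) h2
    · refine ⟨1, one_mem _, ?_⟩
      have e : (1 * x)⁻¹ * y = ((d * d)⁻¹ * x)⁻¹ * ((d * d)⁻¹ * y) := by group
      rw [e]; exact mul_mem (inv_mem h1) h2

theorem xsys : XSys (zpowers t) (zpowers t) (fun _ : Unit => (⊤ : Subgroup X)) (fun _ _ => 1) (fun _ => 2) where
  two := IsPGroup.of_card (n := 1) (by rw [h.card_t]; rfl)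
  max U hU hle x hx := by
    by_contra hxB
    exact h.not_two hU (h.d_mem (hle (mem_zpowers t)) hx hxB)
  mem_B x := by
    constructor
    · intro hx s hs
      exact mul_mem (mul_mem hx hs) (inv_mem hx)
    · intro hx
      by_contra hxB
      exact h.conj_t_not hxB (hx t (mem_zpowers t))
  BP _ := le_top
  gen := by
    rw [eq_top_iff]
    exact le_sup_of_le_right (le_iSup (fun _ : Unit => (⊤ : Subgroup X)) ())
  pol i j hij := absurd (Subsingleton.elim i j) hij
  card _ := by rw [relIndex_top_right, h.index_t]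
  pan _ g hg x _ hxB hgx y _ := by
    rcases h.mem_B.1 hg with rfl | rfl
    · have e : y⁻¹ * 1 * y = 1 := by group
      rw [e]; exact one_mem _
    · exfalso
      have hx' : x⁻¹ ∉ zpowers g := fun h1 => hxB (by have := inv_mem h1; rwa [inv_inv] at this)
      have h1 := h.conj_t_not hx'
      rw [inv_inv] at h1
      exact h1 hgx

end IsS3

/-- `S₃` from orders -/
theorem isS3_of (hd : orderOf d = 3) (ht : orderOf t = 2) (hc : t * d * t⁻¹ = d⁻¹)
    (hall : ∀ x : X, ∃ a ∈ zpowers d, ∃ b ∈ zpowers t, x = a * b) : IsS3 d t := by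
  have d3 : d * d * d = 1 := by
    have := pow_orderOf_eq_one d
    rw [hd, pow_succ, pow_two] at this
    exact this
  have t2 : t * t = 1 := by
    have := pow_orderOf_eq_one t
    rw [ht, pow_two] at this
    exact this
  have d_ne : d ≠ 1 := by
    rintro rfl
    rw [orderOf_one] at hd
    omega
  have t_ne : t ≠ 1 := by
    rintro rfl
    rw [orderOf_one] at ht
    omega
  have conj : t * d = d * d * t := by
    have h1 : t * d = d⁻¹ * t := by rw [← hc]; group
    have h2 : d⁻¹ = d * d := by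
      rw [inv_eq_iff_mul_eq_one, ← mul_assoc]
      exact d3
    rw [h1, h2]
  refine ⟨d3, d_ne, t2, t_ne, conj, fun x => ?_⟩
  obtain ⟨a, ha, b, hb, rfl⟩ := hall x
  have hd' : a = 1 ∨ a = d ∨ a = d * d := by
    obtain ⟨n, rfl⟩ := mem_zpowers_iff.1 ha
    have h3 : d ^ (3 : ℤ) = 1 := by
      have : d ^ (3 : ℕ) = 1 := by rw [← hd]; exact pow_orderOf_eq_one d
      exact_mod_cast this
    have h1 : d ^ n = d ^ (n % 3) := by
      conv_lhs => rw [← Int.emod_add_mul_ediv n 3]
      rw [zpow_add, zpow_mul, h3, one_zpow, mul_one]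
    have h2 : n % 3 = 0 ∨ n % 3 = 1 ∨ n % 3 = 2 := by omega
    rw [h1]
    rcases h2 with h2 | h2 | h2 <;> rw [h2]
    · left; exact zpow_zero d
    · right; left; exact zpow_one d
    · right; right; exact zpow_two d
  rcases (IsS3.mem_zp t2).1 hb with rfl | rfl <;> rcases hd' with rfl | rfl | rfl <;> simp

end Cfsg.Agent.Omega.EH3.RowS.XS3
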