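import Cfsg.Agent.Nodes.Unique
import Cfsg.Agent.Tits.Exchange

/-!
# RowS, BACK (helper73), part 2: the order of the positive unipotent group of a root group datum

`card_U` : `|U| = ∏ |X α_j|` along a reduced word of `w₀`.
-/

set_option autoImplicit false

namespace Cfsg.Agent.Omega.EH3.RowS.XCard

open CoxeterSystem Cfsg.Agent.ChevalleyStructure.CoxeterGeom Cfsg.Agent.Tits.Roots Cfsg.Agent.Tits.Core
  Cfsg.Agent.Nodes.Reps Cfsg.Agent.Nodes.BNOf Cfsg.Agent.Nodes.BNOf.RGD Cfsg.Agent.Nodes.Unique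
  Cfsg.Agent.Tits.Exchange

theorem card_mul_of_disjoint {Y : Type*} [Group Y] {A B C : Subgroup Y} (hA : A ≤ C) (hB : B ≤ C)
    (h : ∀ g ∈ C, ∃ a ∈ A, ∃ b ∈ B, g = a * b) (hd : A ⊓ B = ⊥) :
    Nat.card C = Nat.card A * Nat.card B := by
  rw [← Nat.card_prod]
  symm
  refine Nat.card_congr (Equiv.ofBijective (fun x : A × B => (⟨x.1 * x.2, mul_mem (hA x.1.2) (hB x.2.2)⟩ : C)) ⟨?_, ?_⟩)
  · rintro ⟨⟨a, ha⟩, ⟨b, hb⟩⟩ ⟨⟨a', ha'⟩, ⟨b', hb'⟩⟩ e
    have ha : a ∈ A := ha
    have hb : b ∈ B := hb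
    have ha' : a' ∈ A := ha'
    have hb' : b' ∈ B := hb'
    have e1 : a * b = a' * b' := congrArg Subtype.val e
    have e2 : a'⁻¹ * a = b' * b⁻¹ := by
      rw [inv_mul_eq_iff_eq_mul, ← mul_assoc, ← e1, mul_inv_cancel_right]
    have e3 : a'⁻¹ * a ∈ A ⊓ B :=
      Subgroup.mem_inf.2 ⟨mul_mem (inv_mem ha') ha, by rw [e2]; exact mul_mem hb' (inv_mem hb)⟩
    rw [hd, Subgroup.mem_bot] at e3
    have e4 : a = a' := (inv_mul_eq_one.1 e3).symm
    subst e4
    have e5 : b = b' := mul_left_cancel e1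
    subst e5
    rfl
  · rintro ⟨g, hg⟩
    obtain ⟨a, ha, b, hb, e⟩ := h g hg
    exact ⟨(⟨a, ha⟩, ⟨b, hb⟩), Subtype.ext e.symm⟩

variable {I W Y : Type*} [Fintype I] [DecidableEq I] [Group W] [Group Y] {M : CoxeterMatrix I}
  {cs : CoxeterSystem M W} {A : I → I → ℤ} {h : IsCartan M A} {p : ℕ} {T : Subgroup Y} {n : I → Y}
  {X : (I → ℤ) → Subgroup Y} (Rd : RGD cs h p T n X)

include Rd

theorem card_X_rep [Finite W] (w : W) {x : I → ℤ} (hx : IsRoot cs h x) :
    Nat.card (X (rep cs h w x)) = Nat.card (X x) := by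
  obtain ⟨g, hg⟩ := exists_rp cs Rd.nsys w
  rw [← Rd.conj_rp hg hx]
  exact Nat.card_congr ((X x).equivMapOfInjective _ (MulAut.conj g).injective).toEquiv.symm

theorem card_fut_mul [Finite W] {w : W} {i : I} (hw : 0 ≤ rep cs h w (sr i)) :
    Nat.card (Sup X (Fut cs h w)) = Nat.card (X (sr i)) * Nat.card (Sup X (Fut cs h (w * cs.simple i))) := by
  have hx := mem_fut hw
  have e1 := fut_mul hw
  have hpos : Fut cs h w ⊆ Pos cs h := fut_subset_pos w
  rw [← card_X_rep Rd w (isRoot_sr cs h i), e1]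
  refine card_mul_of_disjoint (le_Sup (S := Fut cs h w) hx) (Sup_mono Set.sdiff_subset)
    (fun g hg => (mem_peel Rd hpos (closed_fut w) hx).1 hg) ?_
  rw [← e1]
  exact tail_inf Rd

omit Rd [Group Y] in
theorem fut_w0 [Finite W] : Fut cs h (w0 cs) = ∅ := by
  rw [Set.eq_empty_iff_forall_notMem]
  intro y hy
  obtain ⟨i, hi⟩ := exists_simple hy
  have h1 : cs.length (w0 cs) < cs.length (w0 cs * cs.simple i) := (lt_iff' cs h _ _).2 hi
  have h2 := length_le_w0 cs (w0 cs * cs.simple i)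
  omega

/-- **the order of `U`** -/
theorem card_U [Finite W] {F : List I} (hF : cs.IsReduced F) (hw : cs.wordProd F = w0 cs) {q : I → ℕ}
    (hq : ∀ j, Nat.card (X (sr j)) = q j) : Nat.card (Sup X (Pos cs h)) = (F.map q).prod := by
  have key : ∀ (l : List I) (w : W), cs.length (w * cs.wordProd l) = cs.length w + l.length →
      Nat.card (Sup X (Fut cs h w)) = (l.map q).prod * Nat.card (Sup X (Fut cs h (w * cs.wordProd l))) := by
    intro l
    induction l with
    | nil => intro w _; simp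
    | cons i l ih =>
      intro w hl
      rw [wordProd_cons, ← mul_assoc] at hl ⊢
      rw [List.length_cons] at hl
      have h1 := cs.length_mul_le (w * cs.simple i) (cs.wordProd l)
      have h2 := cs.length_wordProd_le l
      have h3 := cs.length_mul_simple w i
      have h4 : cs.length (w * cs.simple i) = cs.length w + 1 := by omega
      have h5 : 0 ≤ rep cs h w (sr i) := (lt_iff' cs h _ _).1 (by omega)
      rw [card_fut_mul Rd h5, ih (w * cs.simple i) (by omega), hq, List.map_cons, List.prod_cons, ← mul_assoc]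
  have h1 := key F 1 (by
    rw [one_mul, cs.length_one, zero_add]
    exact hF)
  rw [fut_one, one_mul, hw, fut_w0] at h1
  have h2 : Sup X (∅ : Set (I → ℤ)) = ⊥ := by
    rw [eq_bot_iff]
    exact Sup_le fun z hz => hz.elim
  rw [h2, Subgroup.card_bot, mul_one] at h1
  exact h1

end Cfsg.Agent.Omega.EH3.RowS.XCard
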