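import Cfsg.Agent.Omega.ThmID.Lift

/-!
# RowS, BACK (helper73), part 1: the system `XSys` of a direct product

`XProd.prod` : `XSys` of `X₁ × X₂` from `XSys` of `X₁` and `X₂`, where `B` is transitive on the chambers of a panel
outside of `B` (`XTr`; `xtr_of_rgd`); `XProd.comap` : transport along an isomorphism.
-/

set_option autoImplicit false

namespace Cfsg.Agent.Omega.EH3.RowS.XProd

open Subgroup Cfsg.Agent.ParSys Cfsg.Agent.Omega.ThmID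

section galleries

variable {G : Type*} [Group G] {I J : Type*}

theorem alt_map (f : J → I) (a b : J) (m : ℕ) : alt (f a) (f b) m = (alt a b m).map f := by
  induction m generalizing a b with
  | zero => rfl
  | succ m ih => rw [alt_cons, alt_cons, List.map_cons, ih]

theorem galE_map {B : Subgroup G} {P : I → Subgroup G} (f : J → I) {w : List J} {l : List G} :
    GalE B P (w.map f) l ↔ GalE B (fun j => P (f j)) w l := by
  induction w generalizing l with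
  | nil => cases l <;> rfl
  | cons j w ih =>
    cases l with
    | nil => rfl
    | cons x l => exact and_congr_right fun _ => ih

theorem polygon_map {B : Subgroup G} {P : I → Subgroup G} (f : J → I) {a b : J} {m : ℕ}
    (h : Polygon B (fun j => P (f j)) a b m) : Polygon B P (f a) (f b) m where
  uniq l l' := by rw [alt_map, galE_map, galE_map]; exact h.uniq l l'
  uniq' l l' := by rw [alt_map, galE_map, galE_map]; exact h.uniq' l l'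
  swap := by
    obtain ⟨l, l', h1, h2, h3⟩ := h.swap
    exact ⟨l, l', by rw [alt_map, galE_map]; exact h1, by rw [alt_map, galE_map]; exact h2, h3⟩
  trans l l' := by rw [alt_map, galE_map, galE_map]; exact h.trans l l'
  trans' l l' := by rw [alt_map, galE_map, galE_map]; exact h.trans' l l'

end galleries

/-! ### Panels -/

/-- `B` is transitive on the chambers `≠ B` of a panel, of which there are some. -/
structure XTr {X : Type*} [Group X] {J : Type*} (B : Subgroup X) (P : J → Subgroup X) : Prop where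
  ex : ∀ j, ∃ x ∈ P j, x ∉ B
  tr : ∀ j, ∀ x ∈ P j, x ∉ B → ∀ y ∈ P j, y ∉ B → ∃ b ∈ B, (b * x)⁻¹ * y ∈ B

section prod

variable {X₁ X₂ : Type*} [Group X₁] [Group X₂] {J₁ J₂ : Type*} {T₁ B₁ : Subgroup X₁} {P₁ : J₁ → Subgroup X₁}
  {M₁ : J₁ → J₁ → ℕ} {q₁ : J₁ → ℕ} {T₂ B₂ : Subgroup X₂} {P₂ : J₂ → Subgroup X₂} {M₂ : J₂ → J₂ → ℕ} {q₂ : J₂ → ℕ}

/-- the parabolics of the product -/
def PP (B₁ : Subgroup X₁) (P₁ : J₁ → Subgroup X₁) (B₂ : Subgroup X₂) (P₂ : J₂ → Subgroup X₂) :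
    J₁ ⊕ J₂ → Subgroup (X₁ × X₂) :=
  Sum.elim (fun j => (P₁ j).prod B₂) (fun j => B₁.prod (P₂ j))

/-- the diagram of the product -/
def MM (M₁ : J₁ → J₁ → ℕ) (M₂ : J₂ → J₂ → ℕ) : J₁ ⊕ J₂ → J₁ ⊕ J₂ → ℕ
  | .inl i, .inl j => M₁ i j
  | .inr i, .inr j => M₂ i j
  | _, _ => 2

theorem up_fst {M0 : Subgroup (X₁ × X₂)} {S : Subgroup X₁} {R : Subgroup X₂} (hM : ∀ x, x ∈ M0 ↔ x.2 ∈ R) :
    up ((MonoidHom.fst X₁ X₂).comp M0.subtype) S = S.prod R := by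
  ext x
  rw [mem_up, mem_prod]
  constructor
  · rintro ⟨h, h1⟩
    exact ⟨h1, (hM x).1 h⟩
  · rintro ⟨h1, h2⟩
    exact ⟨(hM x).2 h2, h1⟩

theorem up_snd {M0 : Subgroup (X₁ × X₂)} {S : Subgroup X₂} {R : Subgroup X₁} (hM : ∀ x, x ∈ M0 ↔ x.1 ∈ R) :
    up ((MonoidHom.snd X₁ X₂).comp M0.subtype) S = R.prod S := by
  ext x
  rw [mem_up, mem_prod]
  constructor
  · rintro ⟨h, h1⟩
    exact ⟨(hM x).1 h, h1⟩
  · rintro ⟨h1, h2⟩
    exact ⟨(hM x).2 h1, h2⟩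

/-- the residue of two nodes of different factors -/
theorem polygon_cross (hB₁ : ∀ j, B₁ ≤ P₁ j) (hB₂ : ∀ j, B₂ ≤ P₂ j) (h₁ : XTr B₁ P₁) (h₂ : XTr B₂ P₂)
    (i : J₁) (j : J₂) : Polygon (B₁.prod B₂) (PP B₁ P₁ B₂ P₂) (.inl i) (.inr j) 2 := by
  -- elements of the galleries
  have gal : ∀ l, GalE (B₁.prod B₂) (PP B₁ P₁ B₂ P₂) (alt (.inl i) (.inr j) 2) l →
      ∃ x y, l = [x, y] ∧ x.1 ∈ P₁ i ∧ x.1 ∉ B₁ ∧ x.2 ∈ B₂ ∧ y.1 ∈ B₁ ∧ y.2 ∈ P₂ j ∧ y.2 ∉ B₂ := by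
    intro l hl
    match l, hl with
    | [x, y], hl =>
      obtain ⟨⟨h1, h2⟩, ⟨h3, h4⟩, -⟩ := hl
      have h1 : x.1 ∈ P₁ i ∧ x.2 ∈ B₂ := h1
      have h3 : y.1 ∈ B₁ ∧ y.2 ∈ P₂ j := h3
      exact ⟨x, y, rfl, h1.1, fun h => h2 ⟨h, h1.2⟩, h1.2, h3.1, h3.2, fun h => h4 ⟨h3.1, h⟩⟩
  have gal' : ∀ l, GalE (B₁.prod B₂) (PP B₁ P₁ B₂ P₂) (alt (.inr j) (.inl i) 2) l →
      ∃ y x, l = [y, x] ∧ x.1 ∈ P₁ i ∧ x.1 ∉ B₁ ∧ x.2 ∈ B₂ ∧ y.1 ∈ B₁ ∧ y.2 ∈ P₂ j ∧ y.2 ∉ B₂ := by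
    intro l hl
    match l, hl with
    | [y, x], hl =>
      obtain ⟨⟨h3, h4⟩, ⟨h1, h2⟩, -⟩ := hl
      have h1 : x.1 ∈ P₁ i ∧ x.2 ∈ B₂ := h1
      have h3 : y.1 ∈ B₁ ∧ y.2 ∈ P₂ j := h3
      exact ⟨y, x, rfl, h1.1, fun h => h2 ⟨h, h1.2⟩, h1.2, h3.1, h3.2, fun h => h4 ⟨h3.1, h⟩⟩
  obtain ⟨x₁, hx₁, hx₁'⟩ := h₁.ex i
  obtain ⟨y₂, hy₂, hy₂'⟩ := h₂.ex j
  have one₁ : (1 : X₁) ∈ B₁ := one_mem _
  have one₂ : (1 : X₂) ∈ B₂ := one_mem _
  refine ⟨?_, ?_, ?_, ?_, ?_⟩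
  · intro l l' hl hl' he
    obtain ⟨x, y, rfl, a1, a2, a3, a4, a5, a6⟩ := gal l hl
    obtain ⟨x', y', rfl, b1, b2, b3, b4, b5, b6⟩ := gal l' hl'
    rw [List.prod_cons, List.prod_singleton, List.prod_cons, List.prod_singleton] at he
    refine ⟨by simp [one_mem], ?_, ?_⟩
    · refine ⟨?_, ?_⟩
      · have h1 : (x.1 * y.1)⁻¹ * (x'.1 * y'.1) ∈ B₁ := he.1
        have h2 := mul_mem (mul_mem a4 h1) (inv_mem b4)
        have e : y.1 * ((x.1 * y.1)⁻¹ * (x'.1 * y'.1)) * y'.1⁻¹ = (1 * x.1)⁻¹ * (1 * x'.1) := by group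
        rwa [e] at h2
      · show (1 * x.2)⁻¹ * (1 * x'.2) ∈ B₂
        rw [one_mul, one_mul]
        exact mul_mem (inv_mem a3) b3
    · show (1 * x * y)⁻¹ * (1 * x' * y') ∈ B₁.prod B₂
      rw [one_mul, one_mul]; exact he
  · intro l l' hl hl' he
    obtain ⟨y, x, rfl, a1, a2, a3, a4, a5, a6⟩ := gal' l hl
    obtain ⟨y', x', rfl, b1, b2, b3, b4, b5, b6⟩ := gal' l' hl'
    rw [List.prod_cons, List.prod_singleton, List.prod_cons, List.prod_singleton] at he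
    refine ⟨by simp [one_mem], ?_, ?_⟩
    · refine ⟨?_, ?_⟩
      · show (1 * y.1)⁻¹ * (1 * y'.1) ∈ B₁
        rw [one_mul, one_mul]
        exact mul_mem (inv_mem a4) b4
      · have h1 : (y.2 * x.2)⁻¹ * (y'.2 * x'.2) ∈ B₂ := he.2
        have h2 := mul_mem (mul_mem a3 h1) (inv_mem b3)
        have e : x.2 * ((y.2 * x.2)⁻¹ * (y'.2 * x'.2)) * x'.2⁻¹ = (1 * y.2)⁻¹ * (1 * y'.2) := by group
        rwa [e] at h2
    · show (1 * y * x)⁻¹ * (1 * y' * x') ∈ B₁.prod B₂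
      rw [one_mul, one_mul]; exact he
  · refine ⟨[(x₁, 1), (1, y₂)], [(1, y₂), (x₁, 1)], ⟨⟨⟨hx₁, one₂⟩, fun h => hx₁' h.1⟩,
      ⟨⟨one₁, hy₂⟩, fun h => hy₂' h.2⟩, trivial⟩, ⟨⟨⟨one₁, hy₂⟩, fun h => hy₂' h.2⟩,
      ⟨⟨hx₁, one₂⟩, fun h => hx₁' h.1⟩, trivial⟩, ?_⟩
    have e : ([(x₁, 1), (1, y₂)] : List (X₁ × X₂)).prod⁻¹ * ([(1, y₂), (x₁, 1)] : List (X₁ × X₂)).prod = 1 := by
      simp
    rw [e]; exact one_mem _
  · intro l l' hl hl'
    obtain ⟨x, y, rfl, a1, a2, a3, a4, a5, a6⟩ := gal l hl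
    obtain ⟨x', y', rfl, b1, b2, b3, b4, b5, b6⟩ := gal l' hl'
    obtain ⟨c, hc, hc'⟩ := h₁.tr i x.1 a1 a2 x'.1 b1 b2
    obtain ⟨d, hd, hd'⟩ := h₂.tr j (x.2 * y.2) (mul_mem (hB₂ j a3) a5)
      (fun h => a6 (by have := mul_mem (inv_mem a3) h; rwa [inv_mul_cancel_left] at this)) (x'.2 * y'.2)
      (mul_mem (hB₂ j b3) b5) (fun h => b6 (by have := mul_mem (inv_mem b3) h; rwa [inv_mul_cancel_left] at this))
    refine ⟨(c, d), ⟨hc, hd⟩, ?_, ?_, ?_⟩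
    · exact ⟨by show c⁻¹ * 1 ∈ B₁; rw [mul_one]; exact inv_mem hc, by
        show d⁻¹ * 1 ∈ B₂; rw [mul_one]; exact inv_mem hd⟩
    · refine ⟨?_, ?_⟩
      · show (c * x.1)⁻¹ * (1 * x'.1) ∈ B₁
        rw [one_mul]; exact hc'
      · show (d * x.2)⁻¹ * (1 * x'.2) ∈ B₂
        rw [one_mul]
        exact mul_mem (inv_mem (mul_mem hd a3)) b3
    · refine ⟨?_, ?_⟩
      · show (c * x.1 * y.1)⁻¹ * (1 * x'.1 * y'.1) ∈ B₁
        have e : (c * x.1 * y.1)⁻¹ * (1 * x'.1 * y'.1) = y.1⁻¹ * ((c * x.1)⁻¹ * x'.1) * y'.1 := by group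
        rw [e]
        exact mul_mem (mul_mem (inv_mem a4) hc') b4
      · show (d * x.2 * y.2)⁻¹ * (1 * x'.2 * y'.2) ∈ B₂
        have e : (d * x.2 * y.2)⁻¹ * (1 * x'.2 * y'.2) = (d * (x.2 * y.2))⁻¹ * (x'.2 * y'.2) := by group
        rw [e]; exact hd'
  · intro l l' hl hl'
    obtain ⟨y, x, rfl, a1, a2, a3, a4, a5, a6⟩ := gal' l hl
    obtain ⟨y', x', rfl, b1, b2, b3, b4, b5, b6⟩ := gal' l' hl'
    obtain ⟨d, hd, hd'⟩ := h₂.tr j y.2 a5 a6 y'.2 b5 b6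
    obtain ⟨c, hc, hc'⟩ := h₁.tr i (y.1 * x.1) (mul_mem (hB₁ i a4) a1)
      (fun h => a2 (by have := mul_mem (inv_mem a4) h; rwa [inv_mul_cancel_left] at this)) (y'.1 * x'.1)
      (mul_mem (hB₁ i b4) b1) (fun h => b2 (by have := mul_mem (inv_mem b4) h; rwa [inv_mul_cancel_left] at this))
    refine ⟨(c, d), ⟨hc, hd⟩, ?_, ?_, ?_⟩
    · exact ⟨by show c⁻¹ * 1 ∈ B₁; rw [mul_one]; exact inv_mem hc, by
        show d⁻¹ * 1 ∈ B₂; rw [mul_one]; exact inv_mem hd⟩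
    · refine ⟨?_, ?_⟩
      · show (c * y.1)⁻¹ * (1 * y'.1) ∈ B₁
        rw [one_mul]
        exact mul_mem (inv_mem (mul_mem hc a4)) b4
      · show (d * y.2)⁻¹ * (1 * y'.2) ∈ B₂
        rw [one_mul]; exact hd'
    · refine ⟨?_, ?_⟩
      · show (c * y.1 * x.1)⁻¹ * (1 * y'.1 * x'.1) ∈ B₁
        have e : (c * y.1 * x.1)⁻¹ * (1 * y'.1 * x'.1) = (c * (y.1 * x.1))⁻¹ * (y'.1 * x'.1) := by group
        rw [e]; exact hc'
      · show (d * y.2 * x.2)⁻¹ * (1 * y'.2 * x'.2) ∈ B₂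
        have e : (d * y.2 * x.2)⁻¹ * (1 * y'.2 * x'.2) = x.2⁻¹ * ((d * y.2)⁻¹ * y'.2) * x'.2 := by group
        rw [e]
        exact mul_mem (mul_mem (inv_mem a3) hd') b3

/-- **The system of a direct product.** -/
theorem prod (h₁ : XSys T₁ B₁ P₁ M₁ q₁) (h₂ : XSys T₂ B₂ P₂ M₂ q₂) (t₁ : XTr B₁ P₁) (t₂ : XTr B₂ P₂) :
    XSys (T₁.prod T₂) (B₁.prod B₂) (PP B₁ P₁ B₂ P₂) (MM M₁ M₂) (Sum.elim q₁ q₂) := by
  have hT₁ : T₁ ≤ B₁ := fun t ht => (h₁.mem_B t).2 fun s hs => mul_mem (mul_mem ht hs) (inv_mem ht)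
  have hT₂ : T₂ ≤ B₂ := fun t ht => (h₂.mem_B t).2 fun s hs => mul_mem (mul_mem ht hs) (inv_mem ht)
  -- the two charts
  set N₁ : Subgroup (X₁ × X₂) := (⊤ : Subgroup X₁).prod B₂ with hN₁
  set N₂ : Subgroup (X₁ × X₂) := B₁.prod (⊤ : Subgroup X₂) with hN₂
  have m₁ : ∀ x, x ∈ N₁ ↔ x.2 ∈ B₂ := fun x => by rw [hN₁, mem_prod]; exact and_iff_right trivial
  have m₂ : ∀ x, x ∈ N₂ ↔ x.1 ∈ B₁ := fun x => by rw [hN₂, mem_prod]; exact and_iff_left trivial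
  have s₁ : Function.Surjective ((MonoidHom.fst X₁ X₂).comp N₁.subtype) := fun x =>
    ⟨⟨(x, 1), (m₁ _).2 (one_mem _)⟩, rfl⟩
  have s₂ : Function.Surjective ((MonoidHom.snd X₁ X₂).comp N₂.subtype) := fun x =>
    ⟨⟨(1, x), (m₂ _).2 (one_mem _)⟩, rfl⟩
  refine ⟨?_, ?_, ?_, ?_, ?_, ?_, ?_, ?_⟩
  · rintro ⟨⟨x, y⟩, hx, hy⟩
    obtain ⟨n, hn⟩ := h₁.two ⟨x, hx⟩
    obtain ⟨m, hm⟩ := h₂.two ⟨y, hy⟩
    have hn : x ^ 2 ^ n = 1 := congrArg Subtype.val hn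
    have hm : y ^ 2 ^ m = 1 := congrArg Subtype.val hm
    refine ⟨n + m, Subtype.ext (Prod.ext ?_ ?_)⟩
    · show x ^ 2 ^ (n + m) = 1
      rw [pow_add, pow_mul, hn, one_pow]
    · show y ^ 2 ^ (n + m) = 1
      rw [add_comm, pow_add, pow_mul, hm, one_pow]
  · intro U hU hle
    have h3 := h₁.max (U.map (MonoidHom.fst X₁ X₂)) (hU.map _) (fun t ht =>
      ⟨(t, 1), hle ⟨ht, one_mem _⟩, rfl⟩)
    have h4 := h₂.max (U.map (MonoidHom.snd X₁ X₂)) (hU.map _) (fun t ht =>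
      ⟨(1, t), hle ⟨one_mem _, ht⟩, rfl⟩)
    intro x hx
    exact ⟨h3 ⟨x, hx, rfl⟩, h4 ⟨x, hx, rfl⟩⟩
  · intro x
    constructor
    · rintro ⟨hx, hy⟩ t ⟨ht, hs⟩
      exact ⟨(h₁.mem_B _).1 hx _ ht, (h₂.mem_B _).1 hy _ hs⟩
    · intro hx
      refine ⟨(h₁.mem_B _).2 fun t ht => ?_, (h₂.mem_B _).2 fun t ht => ?_⟩
      · exact (hx (t, 1) ⟨ht, one_mem _⟩).1
      · exact (hx (1, t) ⟨one_mem _, ht⟩).2
  · rintro (j | j)
    · exact prod_mono (h₁.BP j) le_rfl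
    · exact prod_mono le_rfl (h₂.BP j)
  · set K : Subgroup (X₁ × X₂) := B₁.prod B₂ ⊔ ⨆ j, PP B₁ P₁ B₂ P₂ j with hK
    have k₁ : ∀ x, (x, (1 : X₂)) ∈ K := by
      have h3 : B₁ ⊔ ⨆ j, P₁ j ≤ K.comap (MonoidHom.inl X₁ X₂) := by
        refine sup_le (fun b hb => ?_) (iSup_le fun j b hb => ?_)
        · exact (le_sup_left : _ ≤ K) ⟨hb, one_mem _⟩
        · exact (le_sup_right : _ ≤ K) ((le_iSup (PP B₁ P₁ B₂ P₂) (Sum.inl j)) ⟨hb, one_mem _⟩)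
      rw [h₁.gen] at h3
      exact fun x => h3 trivial
    have k₂ : ∀ x, ((1 : X₁), x) ∈ K := by
      have h3 : B₂ ⊔ ⨆ j, P₂ j ≤ K.comap (MonoidHom.inr X₁ X₂) := by
        refine sup_le (fun b hb => ?_) (iSup_le fun j b hb => ?_)
        · exact (le_sup_left : _ ≤ K) ⟨one_mem _, hb⟩
        · exact (le_sup_right : _ ≤ K) ((le_iSup (PP B₁ P₁ B₂ P₂) (Sum.inr j)) ⟨one_mem _, hb⟩)
      rw [h₂.gen] at h3
      exact fun x => h3 trivial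
    rw [eq_top_iff]
    rintro ⟨x, y⟩ _
    have := mul_mem (k₁ x) (k₂ y)
    simpa using this
  · rintro (i | i) (j | j) hij
    · have h3 := polygon_up s₁ h₁.BP (h₁.pol i j fun h => hij (by rw [h]))
      rw [up_fst m₁] at h3
      have h4 : (fun j => up ((MonoidHom.fst X₁ X₂).comp N₁.subtype) (P₁ j)) =
          fun j => PP B₁ P₁ B₂ P₂ (Sum.inl j) := funext fun j => up_fst m₁
      rw [h4] at h3
      exact polygon_map Sum.inl h3
    · exact polygon_cross h₁.BP h₂.BP t₁ t₂ i j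
    · exact (polygon_cross h₁.BP h₂.BP t₁ t₂ j i).symm
    · have h3 := polygon_up s₂ h₂.BP (h₂.pol i j fun h => hij (by rw [h]))
      rw [up_snd m₂] at h3
      have h4 : (fun j => up ((MonoidHom.snd X₁ X₂).comp N₂.subtype) (P₂ j)) =
          fun j => PP B₁ P₁ B₂ P₂ (Sum.inr j) := funext fun j => up_snd m₂
      rw [h4] at h3
      exact polygon_map Sum.inr h3
  · rintro (j | j)
    · have h3 := relIndex_up s₁ (B' := B₁) (T := P₁ j)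
      rw [up_fst m₁, up_fst m₁] at h3
      exact h3.trans (h₁.card j)
    · have h3 := relIndex_up s₂ (B' := B₂) (T := P₂ j)
      rw [up_snd m₂, up_snd m₂] at h3
      exact h3.trans (h₂.card j)
  · rintro (j | j)
    · have h3 := pan_up (φ := (MonoidHom.fst X₁ X₂).comp N₁.subtype) (U := T₁.prod T₂) (h₁.pan j) (by
        rw [up_fst m₁]; exact prod_mono le_rfl hT₂)
      rw [up_fst m₁, up_fst m₁] at h3
      exact h3
    · have h3 := pan_up (φ := (MonoidHom.snd X₁ X₂).comp N₂.subtype) (U := T₁.prod T₂) (h₂.pan j) (by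
        rw [up_snd m₂]; exact prod_mono hT₁ le_rfl)
      rw [up_snd m₂, up_snd m₂] at h3
      exact h3

/-- the panels of a direct product -/
theorem xtr_prod (hB₁ : ∀ j, B₁ ≤ P₁ j) (hB₂ : ∀ j, B₂ ≤ P₂ j) (t₁ : XTr B₁ P₁) (t₂ : XTr B₂ P₂) :
    XTr (B₁.prod B₂) (PP B₁ P₁ B₂ P₂) where
  ex := by
    rintro (j | j)
    · obtain ⟨x, hx, hx'⟩ := t₁.ex j
      exact ⟨(x, 1), ⟨hx, one_mem _⟩, fun h => hx' h.1⟩
    · obtain ⟨x, hx, hx'⟩ := t₂.ex j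
      exact ⟨(1, x), ⟨one_mem _, hx⟩, fun h => hx' h.2⟩
  tr := by
    rintro (j | j) x hx hxB y hy hyB
    · have hx : x.1 ∈ P₁ j ∧ x.2 ∈ B₂ := hx
      have hy : y.1 ∈ P₁ j ∧ y.2 ∈ B₂ := hy
      obtain ⟨b, hb, h1⟩ := t₁.tr j x.1 hx.1 (fun h => hxB ⟨h, hx.2⟩) y.1 hy.1 (fun h => hyB ⟨h, hy.2⟩)
      refine ⟨(b, 1), ⟨hb, one_mem _⟩, h1, ?_⟩
      show (1 * x.2)⁻¹ * y.2 ∈ B₂
      rw [one_mul]
      exact mul_mem (inv_mem hx.2) hy.2
    · have hx : x.1 ∈ B₁ ∧ x.2 ∈ P₂ j := hx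
      have hy : y.1 ∈ B₁ ∧ y.2 ∈ P₂ j := hy
      obtain ⟨b, hb, h1⟩ := t₂.tr j x.2 hx.2 (fun h => hxB ⟨hx.1, h⟩) y.2 hy.2 (fun h => hyB ⟨hy.1, h⟩)
      refine ⟨(1, b), ⟨one_mem _, hb⟩, ?_, h1⟩
      show (1 * x.1)⁻¹ * y.1 ∈ B₁
      rw [one_mul]
      exact mul_mem (inv_mem hx.1) hy.1

end prod

/-! ### Transport -/

section transport

variable {X Y : Type*} [Group X] [Group Y] {J : Type*} {T B : Subgroup X} {P : J → Subgroup X} {M : J → J → ℕ}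
  {q : J → ℕ}

theorem up_top_equiv (f : Y ≃* X) (S : Subgroup X) :
    up (f.toMonoidHom.comp (⊤ : Subgroup Y).subtype) S = S.comap f.toMonoidHom := by
  ext y
  rw [mem_up]
  exact ⟨fun h => h.2, fun h => ⟨trivial, h⟩⟩

/-- transport of a system along an isomorphism -/
theorem comap (f : Y ≃* X) (h : XSys T B P M q) :
    XSys (T.comap f.toMonoidHom) (B.comap f.toMonoidHom) (fun j => (P j).comap f.toMonoidHom) M q := by
  have hs : Function.Surjective (f.toMonoidHom.comp (⊤ : Subgroup Y).subtype) := fun x =>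
    ⟨⟨f.symm x, trivial⟩, f.apply_symm_apply x⟩
  have hT : T ≤ B := fun t ht => (h.mem_B t).2 fun s hs => mul_mem (mul_mem ht hs) (inv_mem ht)
  refine ⟨?_, ?_, ?_, fun j => comap_mono (h.BP j), ?_, ?_, ?_, ?_⟩
  · exact h.two.comap_of_injective _ f.injective
  · intro U hU hle
    have h1 := h.max (U.map f.toMonoidHom) (hU.map _) (by
      intro t ht
      exact ⟨f.symm t, hle (by
        show f (f.symm t) ∈ T
        rw [f.apply_symm_apply]; exact ht), f.apply_symm_apply t⟩)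
    exact fun u hu => h1 ⟨u, hu, rfl⟩
  · intro x
    show f x ∈ B ↔ _
    rw [h.mem_B]
    constructor
    · intro h1 t ht
      show f (x * t * x⁻¹) ∈ T
      rw [map_mul, map_mul, map_inv]
      exact h1 _ ht
    · intro h1 t ht
      have h2 : f (x * f.symm t * x⁻¹) ∈ T := h1 (f.symm t) (by
        show f (f.symm t) ∈ T
        rw [f.apply_symm_apply]; exact ht)
      rwa [map_mul, map_mul, map_inv, f.apply_symm_apply] at h2
  · rw [eq_top_iff]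
    intro y _
    set K : Subgroup Y := B.comap f.toMonoidHom ⊔ ⨆ j, (P j).comap f.toMonoidHom with hK
    have h1 : B ⊔ ⨆ j, P j ≤ K.map f.toMonoidHom := by
      have key : ∀ {S : Subgroup X}, S.comap f.toMonoidHom ≤ K → S ≤ K.map f.toMonoidHom := by
        intro S hS s hs'
        exact ⟨f.symm s, hS (by
          show f (f.symm s) ∈ S
          rw [f.apply_symm_apply]; exact hs'), f.apply_symm_apply s⟩
      exact sup_le (key le_sup_left) (iSup_le fun j => key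
        ((le_iSup (fun j => (P j).comap f.toMonoidHom) j).trans le_sup_right))
    rw [h.gen] at h1
    obtain ⟨k, hk, e⟩ := h1 (mem_top (f y))
    have : k = y := f.injective e
    exact this ▸ hk
  · intro i j hij
    have h3 := polygon_up hs h.BP (h.pol i j hij)
    rw [up_top_equiv] at h3
    have h4 : (fun j => up (f.toMonoidHom.comp (⊤ : Subgroup Y).subtype) (P j)) =
        fun j => (P j).comap f.toMonoidHom := funext fun j => up_top_equiv f _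
    rwa [h4] at h3
  · intro j
    have h3 := relIndex_up hs (B' := B) (T := P j)
    rw [up_top_equiv, up_top_equiv] at h3
    exact h3.trans (h.card j)
  · intro j
    have h3 := pan_up (φ := f.toMonoidHom.comp (⊤ : Subgroup Y).subtype) (U := T.comap f.toMonoidHom) (h.pan j)
      (by rw [up_top_equiv])
    rw [up_top_equiv, up_top_equiv] at h3
    exact h3

end transport

end Cfsg.Agent.Omega.EH3.RowS.XProd
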