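import Cfsg.Agent.Omega.EH3.RowS.OGrp
import Cfsg.Agent.Omega.EH3.RowS.XCard
import Cfsg.Agent.Omega.EH3.RowS.XProd
import Cfsg.Agent.Omega.ThmID.OfRGD
import Cfsg.Agent.ParSys.FreeCount

/-!
# RowS, BACK (helper73), part 5: the system `XSys` of the group generated by the Siegel maps

`WOut ρ a o M q N T B P` : `XSys T B P M q`, the parabolics `P j`, `j ≠ o`, fix `a`, `P o` does not, `C_U(T) = ⟨a⟩`, `|T| = N`.
`out_D` (plus type), `out_C` (minus type).
-/

set_option autoImplicit false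

namespace Cfsg.Agent.Omega.EH3.RowS.XWitt

open CoxeterSystem Cfsg.Agent.ChevalleyStructure.CoxeterGeom Cfsg.Agent.Tits.Roots Cfsg.Agent.Tits.Core
  Cfsg.Agent.Nodes.Reps Cfsg.Agent.Nodes.BNOf Cfsg.Agent.Nodes.StabComb Cfsg.Agent.Nodes.Bruhat
  Cfsg.Agent.Nodes.LeviDec Cfsg.Agent.Nodes.NormalForm Cfsg.Agent.ParSys Cfsg.Agent.ParSys.Words
  Cfsg.Agent.Omega.ThmID Cfsg.Agent.ParSys.FreeCount
open Cfsg.Agent.TitsThree.Siegel Cfsg.Agent.TitsThree.SiegelGen
  Cfsg.Agent.TitsThree.WittFrame Cfsg.Agent.TitsThree.WBridge Cfsg.Agent.TitsThree.WittWeyl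
  Cfsg.Agent.Nodes.WittAll Cfsg.Agent.Nodes.WittRoot Cfsg.Agent.Nodes.WittU Cfsg.Agent.Nodes.RGDLib
open Cfsg.Agent.Omega.EH3.RowS Cfsg.Agent.Omega.EH3.RowS.WF Cfsg.Agent.Omega.EH3.RowS.XProd

/-! ### Generalities -/

section rgd

variable {I W Y : Type*} [Fintype I] [DecidableEq I] [Group W] [Group Y] {M : CoxeterMatrix I}
  {cs : CoxeterSystem M W} {A : I → I → ℤ} {h : IsCartan M A} {p : ℕ} {T : Subgroup Y} {n : I → Y}
  {X : (I → ℤ) → Subgroup Y} (R : RGD cs h p T n X)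

include R

theorem n_mem_P [Finite W] (i : I) : n i ∈ PJ cs h T X {i} ∧ n i ∉ RGD.B cs h T X :=
  (mem_P_iff R).2 (cell_of_rp (rp_simple cs R.nsys i))

/-- a subgroup containing `B` and `n_i` contains `P_i` -/
theorem PJ_le [Finite W] {S0 : Subgroup Y} (hT : T ≤ S0) (hX : ∀ x, IsRoot cs h x → 0 ≤ x → X x ≤ S0) {i : I}
    (hn : n i ∈ S0) : PJ cs h T X {i} ≤ S0 := by
  have hB : RGD.B cs h T X ≤ S0 := sup_le hT (iSup_le fun z => hX _ z.2.1 z.2.2)
  intro x hx
  by_cases hxB : x ∈ RGD.B cs h T X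
  · exact hB hxB
  · obtain ⟨b₁, hb₁, k, hk, b₂, hb₂, rfl⟩ := (mem_P_iff R).1 ⟨hx, hxB⟩
    have h1 : (n i)⁻¹ * k ∈ T := (rp_simple cs R.nsys i).unique hk
    have h2 := mul_mem hn (hT h1)
    rw [mul_inv_cancel_left] at h2
    exact mul_mem (mul_mem (hB hb₁) h2) (hB hb₂)

theorem xtr [Finite W] : XTr (RGD.B cs h T X) (fun j => PJ cs h T X {j}) where
  ex j := ⟨n j, n_mem_P R j⟩
  tr j x hx hxB y hy hyB := by
    have hred : cs.IsReduced [j] := by
      show cs.length (cs.wordProd [j]) = 1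
      rw [wordProd_singleton, cs.length_simple]
    obtain ⟨b, hb, h1⟩ := trans_gal R hred (l := [x]) (l' := [y]) ⟨⟨hx, hxB⟩, trivial⟩ ⟨⟨hy, hyB⟩, trivial⟩
    refine ⟨b, hb, ?_⟩
    have h2 : (b * x)⁻¹ * (1 * y) ∈ RGD.B cs h T X := h1.2
    rwa [one_mul] at h2

end rgd

/-! ### The output -/

section out

variable {U : Type*} [AddCommGroup U] [Module (ZMod 2) U]

/-- the output -/
structure WOut {Y : Type*} [Group Y] (ρ : Y →* (U ≃ₗ[ZMod 2] U)) (a : U) {J : Type*} (o : J) (M : J → J → ℕ)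
    (q : J → ℕ) (N : ℕ) (T B : Subgroup Y) (P : J → Subgroup Y) : Prop where
  sys : XSys T B P M q
  tr : XTr B P
  fix : ∀ j, j ≠ o → ∀ x ∈ P j, ρ x a = a
  mov : ∃ x ∈ P o, ρ x a ≠ a
  cen : ∀ v, (∀ x ∈ T, ρ x v = v) → v = 0 ∨ v = a
  card : Nat.card T = N

/-- the stabiliser of a vector -/
def St {Y : Type*} [Group Y] (ρ : Y →* (U ≃ₗ[ZMod 2] U)) (a : U) : Subgroup Y where
  carrier := {x | ρ x a = a}
  mul_mem' {x y} hx hy := by
    show ρ (x * y) a = a
    rw [map_mul]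
    show ρ x (ρ y a) = a
    rw [hy, hx]
  one_mem' := by
    show ρ 1 a = a
    rw [map_one]; rfl
  inv_mem' {x} hx := by
    show ρ x⁻¹ a = a
    have h1 : ρ x⁻¹ (ρ x a) = a := by
      rw [map_inv]
      exact (ρ x).symm_apply_apply a
    rwa [hx] at h1

theorem mem_St {Y : Type*} [Group Y] {ρ : Y →* (U ≃ₗ[ZMod 2] U)} {a : U} {x : Y} : x ∈ St ρ a ↔ ρ x a = a := Iff.rfl

end out

variable {U : Type*} [AddCommGroup U] [Module (ZMod 2) U] {γ : LinearMap.BilinForm (ZMod 2) U} {Q : U → ZMod 2}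
  {G0 : Subgroup (U ≃ₗ[ZMod 2] U)}

theorem card_XG {n : ℕ} {F : Type*} [Field F] {V : Type*} [AddCommGroup V] [Module F V] {H : HForm F V}
    (Fr : Frame H (Fin n)) {a b : Fin n × Bool} (hab : a.1 ≠ b.1) : Nat.card (XG Fr a b) = Nat.card F := by
  symm
  refine Nat.card_congr (Equiv.ofBijective (fun t : F => (⟨Fr.X a b t, t, rfl⟩ : XG Fr a b)) ⟨?_, ?_⟩)
  · intro s t e
    have e1 : Fr.X a b s = Fr.X a b t := congrArg Subtype.val e
    have e2 := X_apply_neg Fr hab s
    rw [e1, X_apply_neg Fr hab t] at e2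
    have e3 : t • Fr.b a = s • Fr.b a := add_left_cancel e2
    by_contra hne
    have e4 : (t - s) • Fr.b a = 0 := by rw [sub_smul, e3, sub_self]
    exact Cfsg.Agent.Nodes.WittRGD.b_ne_zero a ((smul_eq_zero.1 e4).resolve_left (sub_ne_zero.2 (Ne.symm hne)))
  · rintro ⟨_, t, rfl⟩
    exact ⟨t, rfl⟩

theorem card_ZG {n : ℕ} {F : Type*} [Field F] {V : Type*} [AddCommGroup V] [Module F V] {H : HForm F V}
    (Fr : Frame H (Fin n)) (a : Fin n × Bool) : Nat.card (ZG Fr a) = Nat.card Fr.Adm := by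
  symm
  refine Nat.card_congr (Equiv.ofBijective (fun t : Fr.Adm => (⟨Fr.Z a t, t, rfl⟩ : ZG Fr a)) ⟨?_, ?_⟩)
  · intro s t e
    have e1 : Fr.Z a s = Fr.Z a t := congrArg Subtype.val e
    have e2 := Z_apply_neg Fr a s
    rw [e1, Z_apply_neg Fr a t, add_assoc, add_assoc] at e2
    have e3 := add_left_cancel e2
    have hη := Fr.η_ne a
    -- pair with `b (neg a)`
    have key : ∀ u : Fr.Adm, H.h (Fr.η a • u.w + (u.c * Fr.η a) • Fr.b a) (Fr.b (neg a)) =
        u.c * Fr.η a * Fr.η (neg a) := by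
      intro u
      rw [H.add_left, H.smul_left, H.smul_left, Fr.h0' _ (Fr.ok_mem u.ok), mul_zero, zero_add, Fr.hb_self_neg]
    have e4 := key t
    rw [e3, key s] at e4
    have hc : s.c = t.c := by
      have h1 : Fr.η a * Fr.η (neg a) ≠ 0 := mul_ne_zero hη (Fr.η_ne _)
      rw [mul_assoc, mul_assoc] at e4
      exact mul_right_cancel₀ h1 e4
    rw [hc] at e3
    have e5 : Fr.η a • t.w = Fr.η a • s.w := add_right_cancel e3
    have hw : t.w = s.w := by
      have h1 := congrArg (fun v => (Fr.η a)⁻¹ • v) e5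
      simpa [smul_smul, inv_mul_cancel₀ hη] using h1
    exact Frame.Adm.ext hw.symm hc
  · rintro ⟨_, t, rfl⟩
    exact ⟨t, rfl⟩

/-! ### Facts on the frame -/

section frame

variable (S : Sy γ) (hQ : IsQ γ Q) {k : ℕ} (W : WFrame (PF S hQ) k)

theorem b_mem_Tor {g : U ≃ₗ[ZMod 2] U} (hg : g ∈ Cfsg.Agent.Nodes.WittRGD.Tor (toFrame W) G0) (x : Fin k × Bool) :
    g ((toFrame W).b x) = (toFrame W).b x := by
  obtain ⟨l, hl, e⟩ := hg.2 x
  rw [z2_ne hl, one_smul] at e
  exact e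

theorem mono_apply {g : U ≃ₗ[ZMod 2] U} {π : Fin k × Bool → Fin k × Bool} (hg : Mono (toFrame W) g π)
    (x : Fin k × Bool) : g ((toFrame W).b x) = (toFrame W).b (π x) := by
  obtain ⟨l, hl, e⟩ := hg x
  rw [z2_ne hl, one_smul] at e
  exact e

theorem sc_one (y : Fin k × Bool) : (toFrame W).sc y 1 = 1 := by
  have h1 : (toFrame W).η y = 1 := by
    unfold Frame.η
    split_ifs <;> rfl
  unfold Frame.sc
  rw [h1]
  show -((1 : ZMod 2)⁻¹ * 1 * 1) = 1
  rw [inv_one, mul_one, mul_one]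
  exact neg_z 1

theorem b_ne_zero (x : Fin k × Bool) : (toFrame W).b x ≠ 0 := Cfsg.Agent.Nodes.WittRGD.b_ne_zero x

/-- an element fixed by `X x y 1` -/
theorem perp_of_X {x y : Fin k × Bool} (hxy : x.1 ≠ y.1) {v : U} (h : (toFrame W).X x y 1 v = v) :
    γ v ((toFrame W).b x) = 0 ∧ γ v ((toFrame W).b y) = 0 := by
  rw [Frame.X_eq _ hxy, sie_eq, sc_one, one_smul] at h
  unfold rr at h
  rw [zero_mul, zero_smul, add_zero, add_assoc] at h
  have h1 : γ ((toFrame W).b x) v • (toFrame W).b y + γ ((toFrame W).b y) v • (toFrame W).b x = 0 :=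
    add_eq_left.1 h
  have hne : (toFrame W).b x ≠ (toFrame W).b y := by
    intro e
    exact Cfsg.Agent.Nodes.WittRGD.not_prop (Fr := toFrame W) (x := x) (y := y) (fun h => hxy (congrArg Prod.fst h))
      one_ne_zero (by rw [one_smul]; exact e)
  rw [S.comm v, S.comm v]
  rcases z2 (γ ((toFrame W).b x) v) with h2 | h2 <;> rcases z2 (γ ((toFrame W).b y) v) with h3 | h3
  · exact ⟨h2, h3⟩
  · rw [h2, h3, zero_smul, one_smul, zero_add] at h1
    exact absurd h1 (b_ne_zero S hQ W x)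
  · rw [h2, h3, zero_smul, one_smul, add_zero] at h1
    exact absurd h1 (b_ne_zero S hQ W y)
  · rw [h2, h3, one_smul, one_smul] at h1
    exact absurd (add_eq_zero.1 h1).symm hne

/-- an element orthogonal to `b (o, true)` and fixed by `Z (o, true) p` -/
theorem perp_of_Z {o : Fin k} {v : U} (h0 : γ v (W.e o) = 0) {p : (toFrame W).Adm}
    (h : (toFrame W).Z (o, true) p v = v) : γ v p.w = 0 := by
  have h1 : (HF S).sie ((toFrame W).b (o, true)) p.w p.c ((toFrame W).hb_self _)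
      ((toFrame W).h0 _ _ ((toFrame W).ok_mem p.ok)) v = v := h
  rw [sie_eq] at h1
  unfold rr at h1
  have h2 : γ ((toFrame W).b (o, true)) v = 0 := by rw [S.comm]; exact h0
  rw [h2, mul_zero, zero_smul, add_zero, zero_smul, add_zero] at h1
  have h3 : γ p.w v • (toFrame W).b (o, true) = 0 := add_eq_left.1 h1
  rw [S.comm]
  exact (smul_eq_zero.1 h3).resolve_right (b_ne_zero S hQ W _)

/-- `v` orthogonal to `b x` for `x ≠ (o, false)` -/
theorem sub_mem_V0 {o : Fin k} {v : U} (h : ∀ x, x ≠ (o, false) → γ v ((toFrame W).b x) = 0) :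
    v + γ v (W.f o) • W.e o ∈ W.V0 := by
  have hee : ∀ i, γ (W.e o) (W.e i) = 0 := fun i => W.ee o i
  have hef : ∀ i, γ (W.e o) (W.f i) = if o = i then 1 else 0 := fun i => W.ef o i
  refine mem_V0_of_orth W (fun i => ?_) (fun i => ?_)
  · show γ (v + γ v (W.f o) • W.e o) (W.e i) = 0
    rw [map_add, map_smul, LinearMap.add_apply, LinearMap.smul_apply, hee, smul_zero, add_zero]
    exact h (i, true) (by simp)
  · show γ (v + γ v (W.f o) • W.e o) (W.f i) = 0
    rw [map_add, map_smul, LinearMap.add_apply, LinearMap.smul_apply, hef]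
    by_cases hi : o = i
    · subst hi
      rw [if_pos rfl, smul_eq_mul, mul_one]
      exact z2_add _
    · rw [if_neg hi, smul_zero, add_zero]
      exact h (i, false) (by simp [Ne.symm hi])

/-- all Siegel maps generate `G0` -/
theorem top_of_contains (h : OG γ Q G0) {L : Subgroup (U ≃ₗ[ZMod 2] U)} (hC : W.Contains L) : G0 ≤ L := by
  refine h.gen.trans ((Subgroup.closure_le _).2 ?_)
  rintro g ⟨u, w, hu, hw, hg⟩
  have huu : (HF S).h u u = 0 := S.alt u
  have hw' : (HF S).h u w = 0 := hw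
  have := WFrame.Contains.all W hC (u := u) (w := w) (c := Q w) hu.symm huu hw' rfl
  have e : (HF S).sie u w (Q w) huu hw' = g := by
    ext v
    rw [sie_eq, hg]
  rwa [e] at this

end frame

/-! ### Plus type -/

section D

open Cfsg.Agent.Nodes.TypeD
open Cfsg.Agent.Nodes.TypeC (wt wt_apply ng wt_ng)

variable (S : Sy γ) (hQ : IsQ γ Q) {n : ℕ} (W : WFrame (PF S hQ) (n + 2))

theorem ee_zero_D (hn : 1 ≤ n) (x : Fin (n + 2) → ℤ) : ee x 0 = x 0 := by
  have h1 : ∀ j : Fin (n + 2), (x j • bt j) 0 = if j = 0 then x 0 else 0 := by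
    intro j
    rw [Pi.smul_apply, smul_eq_mul, bt_apply]
    have h2 : ((0 : Fin (n + 2)) : ℕ) = 0 := rfl
    simp only [h2]
    by_cases hj : j = 0
    · subst hj
      simp
    · have h3 : (j : ℕ) ≠ 0 := fun h => hj (Fin.ext h)
      rw [if_neg hj, if_neg (Ne.symm h3), if_neg (Ne.symm h3), if_neg (show ¬ 0 = (j : ℕ) + 1 by omega),
        if_neg (show ¬ 0 = n by omega)]
      simp
  unfold ee
  rw [Finset.sum_apply, Finset.sum_congr rfl fun j _ => h1 j, Finset.sum_ite_eq' Finset.univ (0 : Fin (n + 2)),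
    if_pos (Finset.mem_univ _)]

variable {W}

theorem fix_rg_D {W' : Type*} [Group W'] {cs : CoxeterSystem (M n) W'} (hn : 1 ≤ n) {x : Fin (n + 2) → ℤ}
    (hx : IsRoot cs (isCartan n) x) (h0 : 0 ≤ x) {g : U ≃ₗ[ZMod 2] U}
    (hg : g ∈ Cfsg.Agent.Nodes.WittRGDD.rg (toFrame W) x) : g (W.e 0) = W.e 0 := by
  obtain ⟨a, b, hab, e⟩ := exists_of_isRoot cs hx
  rw [Cfsg.Agent.Nodes.WittRGDD.rg_eq (toFrame W) hab e] at hg
  obtain ⟨t, rfl⟩ := hg
  have h1 := congrFun e 0
  rw [ee_zero_D hn, Pi.add_apply, wt_apply, wt_apply] at h1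
  have h2 : 0 ≤ x 0 := h0 0
  have hne : ∀ c d : Fin (n + 2) × Bool, c.1 ≠ d.1 →
      x 0 = (if 0 = c.1 then (if c.2 then 1 else -1) else 0) + (if 0 = d.1 then (if d.2 then 1 else -1) else 0) →
      ((0, true) : Fin (n + 2) × Bool) ≠ neg c := by
    intro c d hcd h3 h4
    have h5 : c.1 = 0 := (congrArg Prod.fst h4).symm
    have h6 : c.2 = false := by
      have := congrArg Prod.snd h4
      simpa [neg] using this.symm
    rw [h5, if_pos rfl, h6] at h3
    rw [h5] at hcd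
    rw [if_neg hcd] at h3
    simp at h3
    omega
  exact X_apply_of_ne (toFrame W) hab (hne a b hab h1) (hne b a (Ne.symm hab) (by rw [h1, add_comm])) t

theorem out_D [Finite U] (h : OG γ Q G0) (hn : 1 ≤ n) (hV : W.V0 = ⊥) :
    ∃ (T B : Subgroup G0) (P : Fin (n + 2) → Subgroup G0),
      WOut G0.subtype (W.e 0) (0 : Fin (n + 2)) (fun i j => M n i j) (fun _ => 2) (2 ^ ((n + 2) * (n + 1))) T B P := by
  classical
  set Fr := toFrame W with hFr
  have hA := h.amb S hQ W hV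
  let cs := (M n).toCoxeterSystem
  have hfinW : Finite (M n).Group := finite_W cs
  have hfinG : Finite (U ≃ₗ[ZMod 2] U) :=
    Finite.of_injective (fun g : U ≃ₗ[ZMod 2] U => (g : U → U)) DFunLike.coe_injective
  have h0 : ∀ p : Fr.Adm, p = 1 := by
    intro p
    have hw : p.w = 0 := by
      have h1 : p.w ∈ W.V0 := p.ok.1
      rwa [hV, Submodule.mem_bot] at h1
    have hc : p.c = Q p.w := p.ok.2
    apply Frame.Adm.ext
    · exact hw
    · rw [hc, hw, hQ.zero]; rfl
  have hle : ∀ x, Cfsg.Agent.Nodes.WittRGDD.rg Fr x ≤ G0 := by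
    intro x
    refine iSup_le fun q => ?_
    rintro _ ⟨t, rfl⟩
    exact hA.X_mem _ _ _
  have R := rgd_restrict (rgdD (p := 2) hA h0 cs) G0 (fun x _ => hle x)
    (fun i => Cfsg.Agent.Nodes.WittRGDD.nn_mem hA i)
  set T' := (Cfsg.Agent.Nodes.WittRGD.Tor Fr G0).subgroupOf G0 with hT'
  set X' : (Fin (n + 2) → ℤ) → Subgroup G0 := fun x => (Cfsg.Agent.Nodes.WittRGDD.rg Fr x).subgroupOf G0 with hX'
  -- generation
  have hG1 : G1 cs (isCartan n) X' = ⊤ := by
    set L := (G1 cs (isCartan n) X').map G0.subtype with hL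
    have key : ∀ a b : Fin (n + 2) × Bool, a.1 ≠ b.1 → ∀ t, Fr.X a b t ∈ L := by
      intro a b hab t
      obtain ⟨x, hx, ex⟩ := rt_of_ok (cs := cs) (a := a) (b := b) hab
      refine ⟨⟨Fr.X a b t, hA.X_mem _ _ _⟩, ?_, rfl⟩
      refine X_le_G1 hx ?_
      show Fr.X a b t ∈ Cfsg.Agent.Nodes.WittRGDD.rg Fr x
      rw [Cfsg.Agent.Nodes.WittRGDD.rg_eq Fr hab ex]
      exact ⟨t, rfl⟩
    have hne : pd n ≠ (⟨n + 1, by omega⟩ : Fin (n + 2)) := by simp [pd, Fin.ext_iff]
    have hC : W.Contains L := contains_D W (pd n) ⟨n + 1, by omega⟩ hne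
      (fun i j hij t => by
        have h1 : i ≠ j := by rintro rfl; omega
        exact ⟨key _ _ h1 t, key _ _ h1.symm t⟩)
      (fun t => ⟨key _ _ hne t, key _ _ hne t⟩) h0
    have htop := top_of_contains S hQ W h hC
    rw [eq_top_iff]
    intro k _
    obtain ⟨g', hg', he⟩ := htop k.2
    have : g' = k := Subtype.ext he
    exact this ▸ hg'
  have hG : GG cs (isCartan n) T' X' = ⊤ := by
    rw [eq_top_iff, ← hG1]
    exact le_sup_right
  -- orders
  have hq : ∀ j, Nat.card (X' (sr j)) = 2 := by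
    intro j
    have h1 : Nat.card (X' (sr j)) = Nat.card (Cfsg.Agent.Nodes.WittRGDD.rg Fr (sr j)) :=
      Nat.card_congr (Subgroup.subgroupOfEquivOfLe (hle (sr j))).toEquiv
    rw [h1, Cfsg.Agent.Nodes.WittRGDD.rg_sr, card_XG Fr (ok_nx j), Nat.card_zmod]
  -- the stabiliser of `e₀`
  have hTS : T' ≤ St G0.subtype (W.e 0) := fun t ht => b_mem_Tor S hQ W ht (0, true)
  have hXS : ∀ x, IsRoot cs (isCartan n) x → 0 ≤ x → X' x ≤ St G0.subtype (W.e 0) :=
    fun x hx hx0 g hg => fix_rg_D S hQ hn hx hx0 hg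
  refine ⟨_, _, _, xsys_of_rgd R hG hq, xtr R, ?_, ?_, ?_, ?_⟩
  · intro j hj x hx
    have hnS : (⟨Cfsg.Agent.Nodes.WittRGDD.nn Fr j, Cfsg.Agent.Nodes.WittRGDD.nn_mem hA j⟩ : G0) ∈
        St G0.subtype (W.e 0) := by
      rw [mem_St]
      show Cfsg.Agent.Nodes.WittRGDD.nn Fr j (Fr.b (0, true)) = Fr.b (0, true)
      rw [mono_apply S hQ W (Cfsg.Agent.Nodes.WittRGDD.mono_nn j) (0, true)]
      congr 1
      by_cases hj1 : (j : ℕ) + 1 < n + 2
      · exact sg_of_ne hj1 (Ne.symm hj) (by simp)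
      · exact sg_last_of_ne hj1 (by show 0 < n; omega)
    exact PJ_le R hTS hXS hnS hx
  · refine ⟨_, (n_mem_P R 0).1, ?_⟩
    show Cfsg.Agent.Nodes.WittRGDD.nn Fr 0 (Fr.b (0, true)) ≠ Fr.b (0, true)
    rw [mono_apply S hQ W (Cfsg.Agent.Nodes.WittRGDD.mono_nn 0) (0, true)]
    intro e
    exact Cfsg.Agent.Nodes.WittRGD.not_prop (Fr := Fr) (Cfsg.Agent.Nodes.WittRGDD.sg_ne (0 : Fin (n + 2)))
      one_ne_zero (by rw [one_smul]; exact e.symm)
  · intro v hv
    have hfix : ∀ y : Fin (n + 2) × Bool, y.1 ≠ 0 → γ v (Fr.b (0, true)) = 0 ∧ γ v (Fr.b y) = 0 := by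
      intro y hy
      obtain ⟨x, hx, ex⟩ := rt_of_ok (cs := cs) (a := (0, true)) (b := y) (Ne.symm hy)
      have hx0 : 0 ≤ x := by
        rcases hx.pos_or_neg with h1 | h1
        · exact h1
        · exfalso
          have h2 : x 0 ≤ 0 := h1 0
          have h3 := congrFun ex 0
          rw [ee_zero_D hn, Pi.add_apply, wt_apply, wt_apply, if_neg (Ne.symm hy)] at h3
          simp at h3
          omega
      refine perp_of_X S hQ W (x := (0, true)) (y := y) (Ne.symm hy) ?_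
      have h1 : (⟨Fr.X (0, true) y 1, hA.X_mem _ _ _⟩ : G0) ∈ RGD.Sup X' (RGD.Pos cs (isCartan n)) := by
        refine RGD.le_Sup (X := X') (S := RGD.Pos cs (isCartan n)) (z := x) ⟨hx, hx0⟩ ?_
        show Fr.X (0, true) y 1 ∈ Cfsg.Agent.Nodes.WittRGDD.rg Fr x
        rw [Cfsg.Agent.Nodes.WittRGDD.rg_eq Fr (a := (0, true)) (b := y) (Ne.symm hy) ex]
        exact ⟨1, rfl⟩
      exact hv _ h1
    have h1 : v + γ v (W.f 0) • W.e 0 ∈ W.V0 := by
      refine sub_mem_V0 S hQ W fun x hx => ?_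
      by_cases hx0 : x.1 = 0
      · have hx1 : x = (0, true) := by
          rcases x with ⟨i, s⟩
          simp only at hx0
          subst hx0
          cases s
          · exact absurd rfl hx
          · rfl
        rw [hx1]
        exact (hfix (1, true) (by simp)).1
      · exact (hfix x hx0).2
    rw [hV, Submodule.mem_bot, add_eq_zero] at h1
    rcases z2 (γ v (W.f 0)) with h2 | h2
    · left; rw [h1, h2, zero_smul]
    · right; rw [h2, one_smul] at h1; exact h1
  · obtain ⟨F, hF, he⟩ := cs.exists_isReduced (w0 cs)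
    rw [XCard.card_U R hF he.symm hq]
    have hM : HasQ (M n) (fun _ => 2) (2 ^ ((n + 2) * (n + 1))) := by
      refine hasQ_D (Equiv.refl _) ?_ fun _ => rfl
      intro i j hij
      rw [CoxeterMatrix.reindex_apply]
      show M n i j = _
      rw [M_apply, if_neg hij]
      unfold Cfsg.Agent.Nodes.TypeD.Adj
      have h1 := i.2
      have h2 := j.2
      congr 1
      apply propext
      constructor
      · rintro ((⟨h3, h4⟩ | ⟨h3, h4⟩) | (⟨h3, h4⟩ | ⟨h3, h4⟩)) <;> omega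
      · rintro (⟨h3, h4⟩ | ⟨h3, h4⟩ | ⟨h3, h4⟩ | ⟨h3, h4⟩) <;> omega
    exact hM.2 F hF he.symm

end D

/-! ### Minus type -/

section C

open Cfsg.Agent.Nodes.TypeC
open Cfsg.Agent.Nodes.WittRGD (Tor nn mono_nn rg_sr rg_neg_sr not_prop)

variable (S : Sy γ) (hQ : IsQ γ Q) {m : ℕ} (W : WFrame (PF S hQ) (m + 1))

theorem ee_zero_C (hm : 1 ≤ m) (x : Fin (m + 1) → ℤ) : ee x 0 = x 0 := by
  have h1 : ∀ j : Fin (m + 1), (x j • bt j) 0 = if j = 0 then x 0 else 0 := by
    intro j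
    rw [Pi.smul_apply, smul_eq_mul, bt_apply]
    have h2 : ((0 : Fin (m + 1)) : ℕ) = 0 := rfl
    simp only [h2]
    by_cases hj : j = 0
    · subst hj
      simp
      omega
    · have h3 : (j : ℕ) ≠ 0 := fun h => hj (Fin.ext h)
      rw [if_neg hj, if_neg (Ne.symm h3), if_neg (Ne.symm h3), if_neg (show ¬ 0 = (j : ℕ) + 1 by omega)]
      simp
  unfold ee
  rw [Finset.sum_apply, Finset.sum_congr rfl fun j _ => h1 j, Finset.sum_ite_eq' Finset.univ (0 : Fin (m + 1)),
    if_pos (Finset.mem_univ _)]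

variable {W}

theorem fix_rg_C {W' : Type*} [Group W'] {cs : CoxeterSystem (CoxeterMatrix.B (m + 1)) W'} (hm : 1 ≤ m)
    {x : Fin (m + 1) → ℤ} (hx : IsRoot cs (isCartan (m + 1)) x) (h0 : 0 ≤ x) {g : U ≃ₗ[ZMod 2] U}
    (hg : g ∈ Cfsg.Agent.Nodes.WittRoot.rg (toFrame W) x) : g (W.e 0) = W.e 0 := by
  obtain ⟨a, b, hab, e⟩ := exists_of_isRoot cs hx
  rw [Cfsg.Agent.Nodes.WittRoot.rg_eq (toFrame W) hab e] at hg
  have h1 := congrFun e 0
  rw [ee_zero_C hm, Pi.add_apply, wt_apply, wt_apply] at h1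
  have h2 : 0 ≤ x 0 := h0 0
  have hne : ∀ c d : Fin (m + 1) × Bool, (c.1 ≠ d.1 ∨ c = d) →
      x 0 = (if 0 = c.1 then (if c.2 then 1 else -1) else 0) + (if 0 = d.1 then (if d.2 then 1 else -1) else 0) →
      ((0, true) : Fin (m + 1) × Bool) ≠ neg c := by
    intro c d hcd h3 h4
    have h5 : c.1 = 0 := (congrArg Prod.fst h4).symm
    have h6 : c.2 = false := by
      have := congrArg Prod.snd h4
      simpa [neg] using this.symm
    rcases hcd with hcd | hcd
    · rw [h5, if_pos rfl, h6] at h3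
      rw [h5] at hcd
      rw [if_neg hcd] at h3
      simp at h3
      omega
    · rw [← hcd, h5, if_pos rfl, h6] at h3
      simp at h3
      omega
  rcases hab with hab | hab
  · rw [PG_ne _ hab] at hg
    obtain ⟨t, rfl⟩ := hg
    exact X_apply_of_ne (toFrame W) hab (hne a b (Or.inl hab) h1)
      (hne b a (Or.inl (Ne.symm hab)) (by rw [h1, add_comm])) t
  · subst hab
    rw [PG_self] at hg
    obtain ⟨p, rfl⟩ := hg
    exact Z_apply_of_ne (toFrame W) (hne a a (Or.inr rfl) h1) p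

theorem out_C [Finite U] (h : OG γ Q G0) (hm : 1 ≤ m) {u₁ u₂ : U} (hV : Aniso γ Q W.V0 u₁ u₂)
    (hev : Even (Module.finrank (ZMod 2) U)) :
    ∃ (T B : Subgroup G0) (P : Fin (m + 1) → Subgroup G0),
      WOut G0.subtype (W.e 0) (0 : Fin (m + 1)) (fun i j => CoxeterMatrix.B (m + 1) i j)
        (fun j => if (j : ℕ) = m then 4 else 2) (2 ^ ((m + 1) * m) * 4 ^ (m + 1)) T B P := by
  classical
  set Fr := toFrame W with hFr
  have hA := h.ambT S hQ W hV hev
  let cs := (CoxeterMatrix.B (m + 1)).toCoxeterSystem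
  have hfinW : Finite (CoxeterMatrix.B (m + 1)).Group := finite_W cs
  have hfinG : Finite (U ≃ₗ[ZMod 2] U) :=
    Finite.of_injective (fun g : U ≃ₗ[ZMod 2] U => (g : U → U)) DFunLike.coe_injective
  let p0 : Fr.Adm := ⟨u₁, 1, hV.x_mem, hV.qx.symm⟩
  have hp0 : p0.c ≠ 0 := one_ne_zero
  have hcardA : Nat.card Fr.Adm = 4 := by
    rw [← card_aniso hQ hV]
    refine Nat.card_congr
      { toFun := fun p => ⟨p.w, p.ok.1⟩
        invFun := fun w => ⟨w, Q w, w.2, rfl⟩
        left_inv := fun p => by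
          apply Frame.Adm.ext
          · rfl
          · exact (p.ok.2 : p.c = Q p.w).symm
        right_inv := fun w => rfl }
  have hle : ∀ x, Cfsg.Agent.Nodes.WittRoot.rg Fr x ≤ G0 := fun x => hA.rg_le x
  have R := rgd_restrict (rgdC (p := 2) hA hp0 cs) G0 (fun x _ => hle x) (fun i => Cfsg.Agent.Nodes.WittAll.nn_mem hA p0 i)
  set T' := (Tor Fr G0).subgroupOf G0 with hT'
  set X' : (Fin (m + 1) → ℤ) → Subgroup G0 := fun x => (Cfsg.Agent.Nodes.WittRoot.rg Fr x).subgroupOf G0 with hX'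
  -- generation
  have hG1 : G1 cs (isCartan (m + 1)) X' = ⊤ := by
    set L := (G1 cs (isCartan (m + 1)) X').map G0.subtype with hL
    have key : ∀ a b : Fin (m + 1) × Bool, Ok a b → PG Fr a b ≤ L := by
      intro a b hab g hg
      obtain ⟨x, hx, ex⟩ := rt_of_ok (cs := cs) (a := a) (b := b) hab
      have h1 : g ∈ Cfsg.Agent.Nodes.WittRoot.rg Fr x := by
        rw [Cfsg.Agent.Nodes.WittRoot.rg_eq Fr hab ex]
        exact hg
      exact ⟨⟨g, hle x h1⟩, X_le_G1 hx h1, rfl⟩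
    have hC : W.Contains L := contains_C W (Fin.last m)
      (fun i j hij t => by
        have h1 : i ≠ j := by rintro rfl; omega
        refine ⟨key (i, true) (j, false) (Or.inl h1) ?_, key (j, true) (i, false) (Or.inl h1.symm) ?_⟩
        · rw [PG_ne Fr (a := (i, true)) (b := (j, false)) h1]; exact ⟨t, rfl⟩
        · rw [PG_ne Fr (a := (j, true)) (b := (i, false)) h1.symm]; exact ⟨t, rfl⟩)
      (fun p => by
        refine ⟨key (Fin.last m, true) (Fin.last m, true) (Or.inr rfl) ?_,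
          key (Fin.last m, false) (Fin.last m, false) (Or.inr rfl) ?_⟩
        · rw [PG_self]; exact ⟨p, rfl⟩
        · rw [PG_self]; exact ⟨p, rfl⟩) ⟨p0, hp0⟩
    have htop := top_of_contains S hQ W h hC
    rw [eq_top_iff]
    intro k _
    obtain ⟨g', hg', he⟩ := htop k.2
    have : g' = k := Subtype.ext he
    exact this ▸ hg'
  have hG : GG cs (isCartan (m + 1)) T' X' = ⊤ := by
    rw [eq_top_iff, ← hG1]
    exact le_sup_right
  -- orders
  have hq : ∀ j : Fin (m + 1), Nat.card (X' (sr j)) = if (j : ℕ) = m then 4 else 2 := by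
    intro j
    have h1 : Nat.card (X' (sr j)) = Nat.card (Cfsg.Agent.Nodes.WittRoot.rg Fr (sr j)) :=
      Nat.card_congr (Subgroup.subgroupOfEquivOfLe (hle (sr j))).toEquiv
    rw [h1, rg_sr]
    by_cases hj : (j : ℕ) + 1 < m + 1
    · have hnx : nx j = (⟨j + 1, hj⟩, false) := by unfold nx; rw [dif_pos hj]
      have hne' : ((j, true) : Fin (m + 1) × Bool).1 ≠ (nx j).1 := by rw [hnx]; simp [Fin.ext_iff]
      rw [PG_ne Fr hne', card_XG Fr hne', Nat.card_zmod, if_neg (by omega)]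
    · have hnx : nx j = (j, true) := by unfold nx; rw [dif_neg hj]
      have h2 := j.2
      rw [hnx, PG_self, card_ZG, hcardA, if_pos (by omega)]
  -- the stabiliser of `e₀`
  have hTS : T' ≤ St G0.subtype (W.e 0) := fun t ht => b_mem_Tor S hQ W ht (0, true)
  have hXS : ∀ x, IsRoot cs (isCartan (m + 1)) x → 0 ≤ x → X' x ≤ St G0.subtype (W.e 0) :=
    fun x hx hx0 g hg => fix_rg_C S hQ hm hx hx0 hg
  refine ⟨_, _, _, xsys_of_rgd R hG hq, xtr R, ?_, ?_, ?_, ?_⟩
  · intro j hj x hx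
    have hnS : (⟨nn Fr p0 j, Cfsg.Agent.Nodes.WittAll.nn_mem hA p0 j⟩ : G0) ∈ St G0.subtype (W.e 0) := by
      rw [mem_St]
      show nn Fr p0 j (Fr.b (0, true)) = Fr.b (0, true)
      rw [mono_apply S hQ W (mono_nn hp0 j) (0, true)]
      congr 1
      exact sg_of_ne (Ne.symm hj) (by simp)
    exact PJ_le R hTS hXS hnS hx
  · refine ⟨_, (n_mem_P R 0).1, ?_⟩
    show nn Fr p0 0 (Fr.b (0, true)) ≠ Fr.b (0, true)
    rw [mono_apply S hQ W (mono_nn hp0 0) (0, true)]
    intro e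
    refine not_prop (Fr := Fr) (x := (0, true)) (y := sg 0 (0, true)) ?_ one_ne_zero (by rw [one_smul]; exact e.symm)
    rw [sg_up (show ((0 : Fin (m + 1)) : ℕ) + 1 < m + 1 by simp; omega)]
    simp [Fin.ext_iff]
  · intro v hv
    have hpos : ∀ y : Fin (m + 1) × Bool, Ok (0, true) y → ∀ g ∈ PG Fr (0, true) y, g v = v := by
      intro y hy g hg
      obtain ⟨x, hx, ex⟩ := rt_of_ok (cs := cs) (a := (0, true)) (b := y) hy
      have hx0 : 0 ≤ x := by
        rcases hx.pos_or_neg with h1 | h1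
        · exact h1
        · exfalso
          have h2 : x 0 ≤ 0 := h1 0
          have h3 := congrFun ex 0
          rw [ee_zero_C hm, Pi.add_apply, wt_apply, wt_apply] at h3
          rcases hy with hy | hy
          · rw [if_neg hy] at h3
            simp at h3
            omega
          · rw [← hy] at h3
            simp at h3
            omega
      have h0 : g ∈ Cfsg.Agent.Nodes.WittRoot.rg Fr x := by
        rw [Cfsg.Agent.Nodes.WittRoot.rg_eq Fr hy ex]
        exact hg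
      have h1 : (⟨g, hle x h0⟩ : G0) ∈ RGD.Sup X' (RGD.Pos cs (isCartan (m + 1))) :=
        RGD.le_Sup (X := X') (S := RGD.Pos cs (isCartan (m + 1))) (z := x) ⟨hx, hx0⟩ h0
      exact hv _ h1
    have hfix : ∀ y : Fin (m + 1) × Bool, y.1 ≠ 0 → γ v (Fr.b (0, true)) = 0 ∧ γ v (Fr.b y) = 0 := by
      intro y hy
      have hy' : ((0, true) : Fin (m + 1) × Bool).1 ≠ y.1 := Ne.symm hy
      refine perp_of_X S hQ W (x := (0, true)) (y := y) hy' ?_
      refine hpos y (Or.inl hy') _ ?_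
      rw [PG_ne Fr hy']
      exact ⟨1, rfl⟩
    have h00 : γ v (W.e 0) = 0 := (hfix (⟨1, by omega⟩, true) (by simp [Fin.ext_iff])).1
    have hz : ∀ w ∈ W.V0, γ v w = 0 := by
      intro w hw
      refine perp_of_Z S hQ W (o := 0) h00 (p := ⟨w, Q w, hw, rfl⟩) ?_
      refine hpos (0, true) (Or.inr rfl) _ ?_
      rw [PG_self]
      exact ⟨_, rfl⟩
    have h1 : v + γ v (W.f 0) • W.e 0 ∈ W.V0 := by
      refine sub_mem_V0 S hQ W fun x hx => ?_
      by_cases hx0 : x.1 = 0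
      · have hx1 : x = (0, true) := by
          rcases x with ⟨i, s⟩
          simp only at hx0
          subst hx0
          cases s
          · exact absurd rfl hx
          · rfl
        rw [hx1]
        exact h00
      · exact (hfix x hx0).2
    have h2 : ∀ w ∈ W.V0, γ (v + γ v (W.f 0) • W.e 0) w = 0 := by
      intro w hw
      rw [map_add, map_smul, LinearMap.add_apply, LinearMap.smul_apply, hz w hw, S.comm (W.e 0)]
      have h3 : γ w (W.e 0) = 0 := W.V0e w hw 0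
      rw [h3, smul_zero, add_zero]
    have h3 : v + γ v (W.f 0) • W.e 0 = 0 := by
      rcases hV.all _ h1 with h4 | h4 | h4 | h4
      · exact h4
      · have := h2 u₂ hV.y_mem
        rw [h4, hV.xy] at this
        exact absurd this (by decide)
      · have := h2 u₁ hV.x_mem
        rw [h4, S.comm, hV.xy] at this
        exact absurd this (by decide)
      · have := h2 u₁ hV.x_mem
        rw [h4, map_add, LinearMap.add_apply, S.alt, S.comm, hV.xy] at this
        exact absurd this (by decide)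
    rw [add_eq_zero] at h3
    rcases z2 (γ v (W.f 0)) with h4 | h4
    · left; rw [h3, h4, zero_smul]
    · right; rw [h4, one_smul] at h3; exact h3
  · obtain ⟨F, hF, he⟩ := cs.exists_isReduced (w0 cs)
    rw [XCard.card_U R hF he.symm hq]
    have hM : HasQ (CoxeterMatrix.B (m + 1)) (fun j : Fin (m + 1) => if (j : ℕ) = m then 4 else 2)
        (2 ^ ((m + 1) * m) * 4 ^ (m + 1)) := by
      refine hasQ_B (Equiv.refl _) ?_ fun _ => rfl
      intro i j hij
      rw [CoxeterMatrix.reindex_apply]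
      show (if i = j then 1 else (if (i : ℕ) = m + 1 - 1 ∧ (j : ℕ) = m + 1 - 2 ∨
        (j : ℕ) = m + 1 - 1 ∧ (i : ℕ) = m + 1 - 2 then 4
        else (if (j : ℕ) + 1 = i ∨ (i : ℕ) + 1 = j then 3 else 2))) = _
      rw [if_neg hij]
      have h1 := i.2
      have h2 := j.2
      have h5 : (i : ℕ) ≠ j := fun h => hij (Fin.ext h)
      split_ifs <;> omega
    exact hM.2 F hF he.symm

end C

end Cfsg.Agent.Omega.EH3.RowS.XWitt
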