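import Cfsg.Agent.Omega.EH3.RowS.FrontTwo
import Cfsg.Agent.Omega.EH3.RowS.XWitt
import Cfsg.Agent.Omega.EH3.RowS.XS3

/-!
# RowS, BACK (helper73), part 8: the system of `⟨d, t⟩ × L`

`XOut ρ a N M₂ q₂ N₂ T B P` : the parabolic system of `N = ⟨d,t⟩ ⊔ L`, diagram `Unit ⊕ Fin (r+1)`;
`main_sys` : `L` of type `D_{n+2}` (`w = 2 (n+2)`) or `²D_{m+2}` (diagram `B_{m+1}`, `w = 2 (m+2)`).
-/

set_option autoImplicit false

namespace Cfsg.Agent.Omega.EH3.RowS.SysOf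

open Subgroup Cfsg.Agent.Omega.ThmID Cfsg.Agent.Omega.EH3.RowS Cfsg.Agent.Omega.EH3.RowS.XProd
  Cfsg.Agent.Omega.EH3.RowS.XS3 Cfsg.Agent.Omega.EH3.RowS.XWitt Cfsg.Agent.Omega.EH3.RowS.WF
open Cfsg.Agent.Omega.EH3.RowS.Tri (gam ρ₀)

/-! ### Transport of `WOut` -/

theorem wout_comap {U Y Y' : Type*} [AddCommGroup U] [Module (ZMod 2) U] [Group Y] [Group Y']
    {ρ : Y →* (U ≃ₗ[ZMod 2] U)} {a : U} {J : Type*} {o : J} {M : J → J → ℕ} {q : J → ℕ} {N : ℕ}
    {T B : Subgroup Y} {P : J → Subgroup Y} (f : Y' ≃* Y) (h : WOut ρ a o M q N T B P) :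
    WOut (ρ.comp f.toMonoidHom) a o M q N (T.comap f.toMonoidHom) (B.comap f.toMonoidHom)
      (fun j => (P j).comap f.toMonoidHom) where
  sys := comap f h.sys
  tr :=
    { ex := fun j => by
        obtain ⟨x, hx, h1⟩ := h.tr.ex j
        refine ⟨f.symm x, ?_, ?_⟩
        · show f (f.symm x) ∈ P j
          rw [f.apply_symm_apply]; exact hx
        · intro h2
          have h3 : f (f.symm x) ∈ B := h2
          rw [f.apply_symm_apply] at h3
          exact h1 h3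
      tr := fun j x hx hxB y hy hyB => by
        obtain ⟨b, hb, h1⟩ := h.tr.tr j (f x) hx hxB (f y) hy hyB
        refine ⟨f.symm b, ?_, ?_⟩
        · show f (f.symm b) ∈ B
          rw [f.apply_symm_apply]; exact hb
        · show f ((f.symm b * x)⁻¹ * y) ∈ B
          rw [map_mul, map_inv, map_mul, f.apply_symm_apply]; exact h1 }
  fix j hj x hx := h.fix j hj (f x) hx
  mov := by
    obtain ⟨x, hx, h1⟩ := h.mov
    refine ⟨f.symm x, ?_, ?_⟩
    · show f (f.symm x) ∈ P o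
      rw [f.apply_symm_apply]; exact hx
    · show ρ (f (f.symm x)) a ≠ a
      rw [f.apply_symm_apply]; exact h1
  cen v hv := h.cen v fun x hx => by
    have h1 := hv (f.symm x) (by
      show f (f.symm x) ∈ T
      rw [f.apply_symm_apply]; exact hx)
    have h2 : ρ (f (f.symm x)) v = v := h1
    rwa [f.apply_symm_apply] at h2
  card := by
    rw [← h.card]
    refine Nat.card_congr
      { toFun := fun x => ⟨f x, x.2⟩
        invFun := fun x => ⟨f.symm x, by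
          show f (f.symm x) ∈ T
          rw [f.apply_symm_apply]; exact x.2⟩
        left_inv := fun x => Subtype.ext (f.symm_apply_apply x)
        right_inv := fun x => Subtype.ext (f.apply_symm_apply x) }

/-! ### The direct product -/

section sup

variable {H : Type*} [Group H] (E L : Subgroup H)

/-- `E × L → E ⊔ L` -/
def toSup (hc : ∀ s ∈ E, ∀ l ∈ L, s * l = l * s) : E × L →* ↥(E ⊔ L) where
  toFun x := ⟨x.1 * x.2, mul_mem (mem_sup_left x.1.2) (mem_sup_right x.2.2)⟩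
  map_one' := Subtype.ext (by simp)
  map_mul' x y := Subtype.ext (by
    show (x.1 * y.1 : H) * (x.2 * y.2 : H) = x.1 * x.2 * (y.1 * y.2)
    have h := hc y.1 y.1.2 x.2 x.2.2
    calc (x.1 * y.1 : H) * (x.2 * y.2 : H) = x.1 * (y.1 * x.2) * y.2 := by group
      _ = x.1 * (x.2 * y.1) * y.2 := by rw [h]
      _ = _ := by group)

variable {E L}

theorem toSup_bij (hc : ∀ s ∈ E, ∀ l ∈ L, s * l = l * s) (hd : ∀ g ∈ E, g ∈ L → g = 1) (hL : L.Normal) :
    Function.Bijective (toSup E L hc) := by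
  constructor
  · rw [injective_iff_map_eq_one]
    rintro ⟨⟨s, hs⟩, ⟨l, hl⟩⟩ h
    have h1 : s * l = 1 := congrArg Subtype.val h
    have h2 : s = l⁻¹ := eq_inv_of_mul_eq_one_left h1
    have h3 : s = 1 := hd s hs (by rw [h2]; exact inv_mem hl)
    subst h3
    rw [one_mul] at h1
    subst h1
    rfl
  · rintro ⟨x, hx⟩
    obtain ⟨s, hs, l, hl, rfl⟩ := mem_sup_of_normal_right.1 hx
    exact ⟨(⟨s, hs⟩, ⟨l, hl⟩), rfl⟩

/-- `E ⊔ L ≃ E × L` -/
noncomputable def supE (hc : ∀ s ∈ E, ∀ l ∈ L, s * l = l * s) (hd : ∀ g ∈ E, g ∈ L → g = 1) (hL : L.Normal) :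
    ↥(E ⊔ L) ≃* E × L :=
  (MulEquiv.ofBijective (toSup E L hc) (toSup_bij hc hd hL)).symm

theorem supE_spec (hc : ∀ s ∈ E, ∀ l ∈ L, s * l = l * s) (hd : ∀ g ∈ E, g ∈ L → g = 1) (hL : L.Normal)
    (x : ↥(E ⊔ L)) : (x : H) = (supE hc hd hL x).1 * (supE hc hd hL x).2 := by
  have h := (MulEquiv.ofBijective (toSup E L hc) (toSup_bij hc hd hL)).apply_symm_apply x
  exact (congrArg Subtype.val h).symm

theorem supE_mk (hc : ∀ s ∈ E, ∀ l ∈ L, s * l = l * s) (hd : ∀ g ∈ E, g ∈ L → g = 1) (hL : L.Normal)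
    (x : E × L) : supE hc hd hL (toSup E L hc x) = x :=
  (MulEquiv.ofBijective (toSup E L hc) (toSup_bij hc hd hL)).symm_apply_apply x

end sup

/-! ### The output -/

/-- the parabolic system of `N = ⟨d,t⟩ × L` -/
structure XOut {H V : Type*} [Group H] [AddCommGroup V] [Module (ZMod 2) V] (ρ : H →* (V ≃ₗ[ZMod 2] V)) (a : V)
    (N : Subgroup H) {r : ℕ} (M₂ : Fin (r + 1) → Fin (r + 1) → ℕ) (q₂ : Fin (r + 1) → ℕ) (N₂ : ℕ)
    (T B : Subgroup N) (P : Unit ⊕ Fin (r + 1) → Subgroup N) : Prop where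
  sys : XSys T B P (MM (fun _ _ => 1) M₂) (Sum.elim (fun _ => 2) q₂)
  fixT : ∀ v, (∀ g ∈ T, ρ (g : H) v = v) → v = 0 ∨ v = a
  mov0 : ∃ x ∈ P (Sum.inl ()), ρ (x : H) a ≠ a
  mov1 : ∃ x ∈ P (Sum.inr 0), ρ (x : H) a ≠ a
  fix : ∀ j, j ≠ 0 → ∀ x ∈ P (Sum.inr j), ρ (x : H) a = a
  card : Nat.card T = 2 * N₂

variable {H V : Type*} [Group H] [AddCommGroup V] [Module (ZMod 2) V]
  {ρ : H →* (V ≃ₗ[ZMod 2] V)} {b : LinearMap.BilinForm (ZMod 2) V} {q : V → ZMod 2}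
  {a : V} {D : Submodule (ZMod 2) V} {X : Subgroup H} {w : ℕ} {L : Subgroup H} {d t : H}

variable (C : Cfg ρ b q a D X w) (S : Tri ρ X L d t)

section

include C S

/-- the group generated by the Siegel maps -/
theorem og (hN : L.Normal) (hq : IsQuasisimple L) (hZ : Odd (Nat.card (center L))) {Q : UU ρ t → ZMod 2}
    (hQ : QD (ρ₀ ρ d t) (gam ρ b d t) (⟨a, S.a_mem C⟩ : UU ρ t) (X.subgroupOf (HH d t)) (L.subgroupOf (HH d t)) Q) :
    OG (gam ρ b d t) Q ((L.subgroupOf (HH d t)).map (ρ₀ ρ d t)) where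
  iso := by
    rintro _ ⟨m, _, rfl⟩ u v
    exact (S.ab C hN hq hZ).iso m u v
  isq := by
    rintro _ ⟨m, _, rfl⟩ v
    exact hQ.inv m v
  mem := by
    intro u w hu hQu huw
    obtain ⟨l, hl, h⟩ := hQ.exists_siegel (S.ab C hN hq hZ) hu hQu huw
    exact ⟨_, ⟨l, hl, rfl⟩, h⟩
  gen := by
    rw [hQ.map_L (S.ab C hN hq hZ)]
    apply Subgroup.closure_mono
    rintro g ⟨u, w, _, h2, h3, h4⟩
    exact ⟨u, w, h2, h3, h4⟩

/-- `L ≃ Ω(U,Q)` -/
noncomputable def eL : L ≃* ↥((L.subgroupOf (HH d t)).map (ρ₀ ρ d t)) :=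
  (subgroupOfEquivOfLe S.L_le).symm.trans ((L.subgroupOf (HH d t)).equivMapOfInjective _ (S.ρ₀_inj C))

theorem eL_coe (l : L) : ((eL C S l : ↥((L.subgroupOf (HH d t)).map (ρ₀ ρ d t))) : UU ρ t ≃ₗ[ZMod 2] UU ρ t) =
    ρ₀ ρ d t ⟨l, S.L_le l.2⟩ := rfl

theorem eL_apply (l : L) (u : UU ρ t) : ((((((L.subgroupOf (HH d t)).map (ρ₀ ρ d t)).subtype.comp
    (eL C S).toMonoidHom) l) u : UU ρ t) : V) = ρ (l : H) u := rfl

omit C in
theorem hcomm {s : H} (hs : s ∈ closure {d, t}) {l : H} (hl : l ∈ L) : s * l = l * s :=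
  S.closure_comm hs (S.L_le hl)

theorem hdis (hN : L.Normal) (hq : IsQuasisimple L) (hZ : Odd (Nat.card (center L))) {g : H}
    (h1 : g ∈ closure {d, t}) (h2 : g ∈ L) : g = 1 := S.closure_inf C hN hq hZ h1 (S.L_le h2)

/-- `⟨d,t⟩ = S₃` -/
theorem isS3 (hN : L.Normal) (hq : IsQuasisimple L) (hZ : Odd (Nat.card (center L))) :
    IsS3 (⟨d, subset_closure (by simp)⟩ : ↥(closure {d, t})) ⟨t, subset_closure (by simp)⟩ := by
  have hd : (d : H) ∈ closure {d, t} := subset_closure (by simp)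
  have ht : (t : H) ∈ closure {d, t} := subset_closure (by simp)
  refine isS3_of ?_ ?_ ?_ ?_
  · rw [← orderOf_coe]; exact S.d_ord
  · rw [← orderOf_coe]; exact S.t_ord
  · exact Subtype.ext S.conj
  · rintro ⟨g, hg⟩
    have key : ∀ i j : ℤ, g = d ^ i * t ^ j → ∃ x ∈ zpowers (⟨d, hd⟩ : ↥(closure {d, t})),
        ∃ y ∈ zpowers (⟨t, ht⟩ : ↥(closure {d, t})), (⟨g, hg⟩ : ↥(closure {d, t})) = x * y := by
      intro i j h
      exact ⟨_, ⟨i, rfl⟩, _, ⟨j, rfl⟩, Subtype.ext h⟩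
    rcases S.cent_L C hN hq hZ (g := g) (fun l hl => (hcomm S hg hl).symm) with h | h | h | h | h | h
    · exact key 0 0 (by rw [h]; simp)
    · exact key 0 1 (by rw [h]; simp)
    · exact key 1 0 (by rw [h]; simp)
    · exact key 1 1 (by rw [h]; simp)
    · exact key (-1) 0 (by rw [h]; simp)
    · exact key (-1) 1 (by rw [h]; simp)

/-- **The system of `⟨d,t⟩ ⊔ L`.** -/
theorem exists_xout (hN : L.Normal) (hq : IsQuasisimple L) (hZ : Odd (Nat.card (center L))) {r : ℕ}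
    {M₂ : Fin (r + 1) → Fin (r + 1) → ℕ} {q₂ : Fin (r + 1) → ℕ} {N₂ : ℕ}
    {T₀ B₀ : Subgroup ↥((L.subgroupOf (HH d t)).map (ρ₀ ρ d t))}
    {P₀ : Fin (r + 1) → Subgroup ↥((L.subgroupOf (HH d t)).map (ρ₀ ρ d t))}
    (h : WOut ((L.subgroupOf (HH d t)).map (ρ₀ ρ d t)).subtype (⟨a, S.a_mem C⟩ : UU ρ t) (0 : Fin (r + 1)) M₂ q₂ N₂
      T₀ B₀ P₀) :
    ∃ T B P, XOut ρ a (closure {d, t} ⊔ L) M₂ q₂ N₂ T B P := by
  have hW := wout_comap (eL C S) h
  have h3 := isS3 C S hN hq hZ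
  set f : ↥(closure {d, t} ⊔ L) ≃* ↥(closure {d, t}) × L :=
    supE (fun s hs l hl => hcomm S hs hl) (fun g h1 h2 => hdis C S hN hq hZ h1 h2) hN with hf
  have hspec : ∀ x : ↥(closure {d, t} ⊔ L), (x : H) = (f x).1 * (f x).2 := fun x => supE_spec _ _ _ x
  have hmk : ∀ x : ↥(closure {d, t}) × L, ∃ y : ↥(closure {d, t} ⊔ L), f y = x ∧ (y : H) = x.1 * x.2 :=
    fun x => ⟨toSup _ _ (fun s hs l hl => hcomm S hs hl) x, supE_mk _ _ _ x, rfl⟩
  have hprod := prod h3.xsys hW.sys h3.xtr hW.tr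
  have hmem : ∀ (K : Subgroup (↥(closure {d, t}) × L)) {y : ↥(closure {d, t} ⊔ L)} {x : ↥(closure {d, t}) × L},
      f y = x → x ∈ K → y ∈ K.comap f.toMonoidHom := by
    rintro K y _ rfl h
    exact h
  refine ⟨_, _, _, comap f hprod, ?_, ?_, ?_, ?_, ?_⟩
  · -- fixed points
    intro v hv
    have ht : v ∈ UU ρ t := by
      obtain ⟨y, hy, hy'⟩ := hmk (⟨t, subset_closure (by simp)⟩, 1)
      have h1 := hv y (hmem _ hy (mem_prod.2 ⟨mem_zpowers _, one_mem _⟩))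
      rw [hy'] at h1
      have e : (((⟨t, subset_closure (by simp)⟩ : ↥(closure {d, t})), (1 : L)).1 : H) *
          (((⟨t, subset_closure (by simp)⟩ : ↥(closure {d, t})), (1 : L)).2 : H) = t := by simp
      rw [e] at h1
      exact h1
    have h1 := hW.cen ⟨v, ht⟩ (by
      intro l hl
      apply Subtype.ext
      rw [eL_apply]
      obtain ⟨y, hy, hy'⟩ := hmk (1, l)
      have h2 := hv y (hmem _ hy (mem_prod.2 ⟨one_mem _, hl⟩))
      rw [hy'] at h2
      have e : (((1 : ↥(closure {d, t})), l).1 : H) * (((1 : ↥(closure {d, t})), l).2 : H) = l := by simp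
      rw [e] at h2
      exact h2)
    rcases h1 with h1 | h1
    · exact Or.inl (congrArg Subtype.val h1)
    · exact Or.inr (congrArg Subtype.val h1)
  · -- `d` moves `a`
    obtain ⟨y, hy, hy'⟩ := hmk (⟨d, subset_closure (by simp)⟩, 1)
    refine ⟨y, hmem _ hy (mem_prod.2 ⟨mem_top _, one_mem _⟩), ?_⟩
    · rw [hy']
      have e : (((⟨d, subset_closure (by simp)⟩ : ↥(closure {d, t})), (1 : L)).1 : H) *
          (((⟨d, subset_closure (by simp)⟩ : ↥(closure {d, t})), (1 : L)).2 : H) = d := by simp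
      rw [e]
      exact fun h0 => C.a_ne (S.d_fix a h0)
  · obtain ⟨l, hl, h1⟩ := hW.mov
    obtain ⟨y, hy, hy'⟩ := hmk (1, l)
    refine ⟨y, hmem _ hy (mem_prod.2 ⟨one_mem _, hl⟩), ?_⟩
    · rw [hy']
      have e : (((1 : ↥(closure {d, t})), l).1 : H) * (((1 : ↥(closure {d, t})), l).2 : H) = l := by simp
      rw [e]
      exact fun h0 => h1 (Subtype.ext h0)
  · intro j hj x hx
    have hx' : f x ∈ (zpowers (⟨t, subset_closure (by simp)⟩ : ↥(closure {d, t}))).prod _ := hx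
    obtain ⟨h1, h2⟩ := mem_prod.1 hx'
    have h4 := congrArg Subtype.val (hW.fix j hj (f x).2 h2)
    rw [eL_apply] at h4
    have h5 : ρ ((f x).1 : H) a = a := by
      rcases h3.mem_B.1 h1 with h6 | h6
      · rw [h6]
        show ρ 1 a = a
        rw [map_one]; rfl
      · rw [h6]
        exact C.X_a S.t_mem
    have h4' : ρ ((f x).2 : H) a = a := h4
    rw [hspec x, C.ρ_mul, h4', h5]
  · have hc : Nat.card ↥(((zpowers (⟨t, subset_closure (by simp)⟩ : ↥(closure {d, t}))).prod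
        (T₀.comap (eL C S).toMonoidHom)).comap f.toMonoidHom) =
        Nat.card ↥((zpowers (⟨t, subset_closure (by simp)⟩ : ↥(closure {d, t}))).prod
        (T₀.comap (eL C S).toMonoidHom)) := by
      refine Nat.card_congr
        { toFun := fun x => ⟨f x, x.2⟩
          invFun := fun x => ⟨f.symm x, hmem _ (f.apply_symm_apply x) x.2⟩
          left_inv := fun x => Subtype.ext (f.symm_apply_apply x)
          right_inv := fun x => Subtype.ext (f.apply_symm_apply x) }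
    rw [hc, Nat.card_congr (Subgroup.prodEquiv _ _).toEquiv, Nat.card_prod, h3.card_t, hW.card]

/-- **The system of `⟨d,t⟩ ⊔ L`: the two types.** -/
theorem main_sys (hN : L.Normal) (hq : IsQuasisimple L) (hZ : Odd (Nat.card (center L))) :
    (∃ n : ℕ, 1 ≤ n ∧ w = 2 * (n + 2) ∧ ∃ T B P, XOut ρ a (closure {d, t} ⊔ L) (r := n + 1)
      (fun i j => Cfsg.Agent.Nodes.TypeD.M n i j) (fun _ => 2) (2 ^ ((n + 2) * (n + 1))) T B P) ∨
    (∃ m : ℕ, 1 ≤ m ∧ w = 2 * (m + 2) ∧ ∃ T B P, XOut ρ a (closure {d, t} ⊔ L) (r := m)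
      (fun i j => CoxeterMatrix.B (m + 1) i j) (fun j => if (j : ℕ) = m then 4 else 2)
      (2 ^ ((m + 1) * m) * 4 ^ (m + 1)) T B P) := by
  obtain ⟨Q, hQ⟩ := S.exists_QD C hN hq hZ
  have A := S.ab C hN hq hZ
  have hS := A.sy
  have hfin := A.finite
  have hog := og C S hN hq hZ hQ
  have hcard := S.card_U C
  obtain ⟨k, W, hWe, hcd, hV⟩ := exists_wframe hS hQ.isQ (a := (⟨a, S.a_mem C⟩ : UU ρ t)) A.a_ne (hQ.Q_a A)
  rw [hcard] at hcd
  rcases hV with hV | ⟨x, y, hV⟩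
  · -- plus type
    left
    have h1 : Nat.card W.V0 = 1 := by rw [hV]; simp
    rw [h1, mul_one] at hcd
    have h2 : w = 2 * (k + 1) := Nat.pow_right_injective le_rfl hcd
    have h5 := C.five
    obtain ⟨n, rfl⟩ : ∃ n, k = n + 1 := ⟨k - 1, by omega⟩
    have hn : 1 ≤ n := by omega
    obtain ⟨T₀, B₀, P₀, hW⟩ := out_D hS hQ.isQ (W := W) hog hn hV
    refine ⟨n, hn, by omega, ?_⟩
    have hW' : WOut ((L.subgroupOf (HH d t)).map (ρ₀ ρ d t)).subtype (⟨a, S.a_mem C⟩ : UU ρ t) (0 : Fin (n + 1 + 1))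
      (fun i j => Cfsg.Agent.Nodes.TypeD.M n i j) (fun _ => 2) (2 ^ ((n + 2) * (n + 1))) T₀ B₀ P₀ := by
      rw [← hWe]; exact hW
    exact exists_xout C S hN hq hZ hW'
  · -- minus type
    right
    have h1 : Nat.card W.V0 = 4 := card_aniso hQ.isQ hV
    have h0 : (4 : ℕ) = 2 ^ 2 := by norm_num
    rw [h1, h0, ← pow_add] at hcd
    have h2 : w = 2 * (k + 1) + 2 := Nat.pow_right_injective le_rfl hcd
    have h5 := C.five
    have hk : 1 ≤ k := by omega
    have hev : Even (Module.finrank (ZMod 2) (UU ρ t)) := by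
      have h3 : Nat.card (UU ρ t) = 2 ^ Module.finrank (ZMod 2) (UU ρ t) := by
        rw [Module.natCard_eq_pow_finrank (K := ZMod 2) (V := UU ρ t), Nat.card_zmod]
      rw [hcard] at h3
      have h4 : w = Module.finrank (ZMod 2) (UU ρ t) := Nat.pow_right_injective le_rfl h3
      rw [← h4, h2]
      exact ⟨k + 2, by ring⟩
    obtain ⟨T₀, B₀, P₀, hW⟩ := out_C hS hQ.isQ (W := W) hog hk hV hev
    refine ⟨k, hk, by omega, ?_⟩
    have hW' : WOut ((L.subgroupOf (HH d t)).map (ρ₀ ρ d t)).subtype (⟨a, S.a_mem C⟩ : UU ρ t) (0 : Fin (k + 1))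
      (fun i j => CoxeterMatrix.B (k + 1) i j) (fun j => if (j : ℕ) = k then 4 else 2)
      (2 ^ ((k + 1) * k) * 4 ^ (k + 1)) T₀ B₀ P₀ := by
      rw [← hWe]; exact hW
    exact exists_xout C S hN hq hZ hW'

end

end Cfsg.Agent.Omega.EH3.RowS.SysOf
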