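import Cfsg.Agent.Omega.EH3.RowS.WF
import Cfsg.Agent.LargeExtra.Dickson
import Cfsg.Agent.Nodes.WittInst

/-!
# RowS, BACK (helper73), part 4: the group generated by the Siegel maps

`OG γ Q G0` : `G0` is the group of isometries of `(U, γ, Q)` generated by the Siegel maps `rr γ u w (Q w)`.
`OG.even_fix` : the Dickson parity; `OG.ambT`, `OG.amb` : the ambient structures for the root group data of Witt frames.
-/

set_option autoImplicit false

namespace Cfsg.Agent.Omega.EH3.RowS

open Module Cfsg.Agent.LargeExtra.Dickson Cfsg.Agent.TitsThree.Siegel Cfsg.Agent.TitsThree.SiegelGen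
  Cfsg.Agent.TitsThree.WittFrame Cfsg.Agent.TitsThree.WBridge Cfsg.Agent.Nodes.WittAll Cfsg.Agent.Nodes.WittRoot
  Cfsg.Agent.Nodes.WittU WF

variable {U : Type*} [AddCommGroup U] [Module (ZMod 2) U] {γ : LinearMap.BilinForm (ZMod 2) U} {Q : U → ZMod 2}

/-- the group generated by the Siegel maps -/
structure OG (γ : LinearMap.BilinForm (ZMod 2) U) (Q : U → ZMod 2) (G0 : Subgroup (U ≃ₗ[ZMod 2] U)) : Prop where
  iso : ∀ g ∈ G0, ∀ u v, γ (g u) (g v) = γ u v
  isq : ∀ g ∈ G0, ∀ v, Q (g v) = Q v
  mem : ∀ u w, u ≠ 0 → Q u = 0 → γ u w = 0 → ∃ g ∈ G0, ∀ v, g v = rr γ u w (Q w) v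
  gen : G0 ≤ Subgroup.closure {g | ∃ u w, Q u = 0 ∧ γ u w = 0 ∧ ∀ v, g v = rr γ u w (Q w) v}

theorem finrank_dual_ker [Finite U] (S : Sy γ) {u : U} (hu : u ≠ 0) :
    finrank (ZMod 2) (LinearMap.ker (γ u)) + 1 = finrank (ZMod 2) U := by
  have : FiniteDimensional (ZMod 2) U := Module.Finite.of_finite
  have hne : γ u ≠ 0 := by
    intro h0
    apply hu
    apply S.nondeg
    intro w
    rw [h0]; rfl
  have h1 := LinearMap.finrank_range_add_finrank_ker (γ u)
  have h2 : LinearMap.range (γ u) = ⊤ := LinearMap.range_eq_top.2 (LinearMap.surjective hne)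
  rw [h2, finrank_top, finrank_self] at h1
  omega

theorem even_one : Even (finrank (ZMod 2) (fix (1 : U ≃ₗ[ZMod 2] U)) + finrank (ZMod 2) U) := by
  have e : fix (1 : U ≃ₗ[ZMod 2] U) = ⊤ := by
    rw [eq_top_iff]
    intro v _
    rw [mem_fix]; rfl
  rw [e, finrank_top]
  exact ⟨_, rfl⟩

/-- Siegel maps have even Dickson invariant. -/
theorem even_siegel [Finite U] (S : Sy γ) (hQ : IsQ γ Q) {u w : U} (hu : Q u = 0) (_huw : γ u w = 0)
    {g : U ≃ₗ[ZMod 2] U} (hg : ∀ v, g v = rr γ u w (Q w) v) :
    Even (finrank (ZMod 2) (fix g) + finrank (ZMod 2) U) := by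
  have : FiniteDimensional (ZMod 2) U := Module.Finite.of_finite
  have triv : (∀ v, rr γ u w (Q w) v = v) → Even (finrank (ZMod 2) (fix g) + finrank (ZMod 2) U) := by
    intro h
    have : g = 1 := by
      ext v
      rw [hg, h]; rfl
    rw [this]
    exact even_one
  by_cases hu0 : u = 0
  · apply triv
    intro v
    rw [hu0]
    simp [rr]
  by_cases hw0 : w = 0
  · apply triv
    intro v
    rw [hw0]
    simp [rr, hQ.zero]
  by_cases hwu : w = u
  · apply triv
    intro v
    rw [hwu, hu]
    unfold rr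
    rw [zero_mul, zero_smul, add_zero, add_assoc, add_self, add_zero]
  have e : fix g = LinearMap.ker ((γ u).prod (γ w)) := by
    ext v
    rw [mem_fix, hg, LinearMap.mem_ker, LinearMap.prod_apply]
    show rr γ u w (Q w) v = v ↔ (γ u v, γ w v) = (0, 0)
    rw [Prod.mk_inj]
    unfold rr
    constructor
    · intro h
      have h1 : γ u v • w + (γ w v + Q w * γ u v) • u = 0 := by
        have h2 : v + (γ u v • w + (γ w v + Q w * γ u v) • u) = v := by
          rw [add_smul]
          calc _ = v + γ u v • w + γ w v • u + (Q w * γ u v) • u := by abel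
            _ = v := h
        exact add_eq_left.1 h2
      rcases z2 (γ u v) with h3 | h3
      · refine ⟨h3, ?_⟩
        rw [h3, zero_smul, zero_add, mul_zero, add_zero] at h1
        exact (smul_eq_zero.1 h1).resolve_right hu0
      · exfalso
        rw [h3, one_smul, mul_one] at h1
        have h4 := add_eq_zero.1 h1
        rcases z2 (γ w v + Q w) with h5 | h5
        · rw [h5, zero_smul] at h4
          exact hw0 h4
        · rw [h5, one_smul] at h4
          exact hwu h4
    · rintro ⟨h1, h2⟩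
      rw [h1, h2]
      simp
  have hsurj : LinearMap.range ((γ u).prod (γ w)) = ⊤ := by
    rw [LinearMap.range_eq_top]
    rintro ⟨α, β⟩
    obtain ⟨y, h1, h2⟩ := S.exists_two hu0 hw0 hwu α β
    exact ⟨y, Prod.ext (by show γ u y = α; rw [S.comm]; exact h1) (by show γ w y = β; rw [S.comm]; exact h2)⟩
  have h1 := LinearMap.finrank_range_add_finrank_ker ((γ u).prod (γ w))
  rw [hsurj, finrank_top, Module.finrank_prod, finrank_self] at h1
  rw [e, ← h1, Nat.even_iff]
  omega

namespace OG

variable {G0 : Subgroup (U ≃ₗ[ZMod 2] U)}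

/-- **the Dickson parity** -/
theorem even_fix [Finite U] (S : Sy γ) (hQ : IsQ γ Q) (h : OG γ Q G0) {g : U ≃ₗ[ZMod 2] U} (hg : g ∈ G0) :
    Even (finrank (ZMod 2) (fix g) + finrank (ZMod 2) U) := by
  have : FiniteDimensional (ZMod 2) U := Module.Finite.of_finite
  have key : ∀ g ∈ Subgroup.closure {g : U ≃ₗ[ZMod 2] U | ∃ u w, Q u = 0 ∧ γ u w = 0 ∧ ∀ v, g v = rr γ u w (Q w) v},
      (∀ v, Q (g v) = Q v) ∧ Even (finrank (ZMod 2) (fix g) + finrank (ZMod 2) U) := by
    intro g hg
    induction hg using Subgroup.closure_induction with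
    | mem g hg =>
      obtain ⟨u, w, hu, huw, h1⟩ := hg
      refine ⟨fun v => ?_, even_siegel S hQ hu huw h1⟩
      by_cases hu0 : u = 0
      · rw [h1, hu0]; simp [rr]
      · obtain ⟨k, hk, hk'⟩ := h.mem u w hu0 hu huw
        rw [h1, ← hk']
        exact h.isq k hk v
    | one => exact ⟨fun v => rfl, even_one⟩
    | mul g k _ _ h1 h2 =>
      refine ⟨fun v => ?_, ?_⟩
      · show Q (g (k v)) = Q v
        rw [h1.1, h2.1]
      · have h3 := even_sum Q γ hQ.add S.nondeg S.comm g k h1.1 h2.1
        have h4 := h1.2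
        have h5 := h2.2
        rw [Nat.even_iff] at h3 h4 h5 ⊢
        omega
    | inv g _ h1 =>
      refine ⟨fun v => ?_, ?_⟩
      · have h2 := h1.1 (g⁻¹ v)
        have e : g (g⁻¹ v) = v := g.apply_symm_apply v
        rw [e] at h2
        exact h2.symm
      · have e : fix g⁻¹ = fix g := by
          ext v
          rw [mem_fix, mem_fix]
          constructor
          · intro h2
            have e : g (g⁻¹ v) = v := g.apply_symm_apply v
            rwa [h2] at e
          · intro h2
            have e : g⁻¹ (g v) = v := g.symm_apply_apply v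
            rwa [h2] at e
        rw [e]
        exact h1.2
  exact (key g (h.gen hg)).2

variable (S : Sy γ) (hQ : IsQ γ Q) (h : OG γ Q G0)

include h

theorem sie_mem {u w : U} {c : ZMod 2} (hu : (HF S).h u u = 0) (hw : (HF S).h u w = 0) (hq : Q u = 0) (hc : c = Q w) :
    (HF S).sie u w c hu hw ∈ G0 := by
  subst hc
  by_cases hu0 : u = 0
  · have : (HF S).sie u w (Q w) hu hw = 1 := by
      ext v
      rw [sie_eq, hu0]
      simp [rr]
    rw [this]
    exact one_mem _
  · obtain ⟨g, hg, h1⟩ := h.mem u w hu0 hq hw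
    have : (HF S).sie u w (Q w) hu hw = g := by
      ext v
      rw [sie_eq, h1]
    rw [this]
    exact hg

variable {k : ℕ} (W : WFrame (PF S hQ) k)

theorem X_mem (x y : Fin k × Bool) (t : ZMod 2) : (toFrame W).X x y t ∈ G0 := by
  by_cases hxy : x.1 ≠ y.1
  · rw [Frame.X_eq _ hxy]
    refine h.sie_mem S _ _ ?_ ?_
    · exact ((b_sing W x : (0 : ZMod 2) = Q _)).symm
    · rw [hQ.smul, ← (b_sing W y : (0 : ZMod 2) = Q _), mul_zero]
  · unfold Frame.X
    rw [dif_neg hxy]
    exact one_mem _

theorem Z_mem (x : Fin k × Bool) (p : (toFrame W).Adm) : (toFrame W).Z x p ∈ G0 := by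
  unfold Frame.Z
  exact h.sie_mem S _ _ (b_sing W x : (0 : ZMod 2) = Q _).symm p.ok.2

theorem amb (h0 : W.V0 = ⊥) : Amb (toFrame W) G0 := by
  refine amb_of W G0 (fun g hg u v => h.iso g hg u v) ?_ (h.X_mem S hQ W) (h.Z_mem S hQ W) ?_
  · intro g hg w c hc
    have hc : c = Q w := hc
    show c = Q (g w)
    rw [hc, h.isq g hg]
  · intro w hw _
    rw [h0, Submodule.mem_bot] at hw
    rw [hw]
    exact (PF S hQ).zero

theorem map_V0 {g : U ≃ₗ[ZMod 2] U} (hg : g ∈ G0) (hb : ∀ x, g ((toFrame W).b x) = (toFrame W).b x) {w : U}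
    (hw : w ∈ W.V0) : g w ∈ W.V0 := by
  refine mem_V0_of_orth W (fun i => ?_) (fun i => ?_)
  · show γ (g w) (W.e i) = 0
    have h1 : g (W.e i) = W.e i := hb (i, true)
    rw [← h1, h.iso g hg]
    exact W.V0e w hw i
  · show γ (g w) (W.f i) = 0
    have h1 : g (W.f i) = W.f i := hb (i, false)
    rw [← h1, h.iso g hg]
    exact W.V0f w hw i

/-- an involution fixing the frame is trivial -/
theorem fixp [Finite U] {x y : U} (hV : Aniso γ Q W.V0 x y) (hev : Even (finrank (ZMod 2) U)) {g : U ≃ₗ[ZMod 2] U}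
    (hg : g ∈ G0) (hg2 : g ^ 2 = 1) (hb : ∀ x, g ((toFrame W).b x) = (toFrame W).b x) : g = 1 := by
  have hgg : ∀ v, g (g v) = v := fun v => by
    have h1 : (g * g) v = v := by rw [← pow_two, hg2]; rfl
    exact h1
  have hx0 : x ≠ 0 := by rintro rfl; exact absurd (hV.qx.symm.trans hQ.zero) (by decide)
  have hy0 : y ≠ 0 := by rintro rfl; exact absurd (hV.qy.symm.trans hQ.zero) (by decide)
  have hyx : γ y x = 1 := by rw [S.comm]; exact hV.xy
  have hxy : x ≠ y := by
    rintro rfl
    rw [S.alt] at hyx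
    exact absurd hyx (by decide)
  have hgx : g x = x ∨ g x = y ∨ g x = x + y := by
    rcases hV.all _ (h.map_V0 S hQ W hg hb hV.x_mem) with h1 | h1 | h1 | h1
    · exact absurd ((LinearEquiv.map_eq_zero_iff g).1 h1) hx0
    · exact Or.inl h1
    · exact Or.inr (Or.inl h1)
    · exact Or.inr (Or.inr h1)
  have hgy : g y = x ∨ g y = y ∨ g y = x + y := by
    rcases hV.all _ (h.map_V0 S hQ W hg hb hV.y_mem) with h1 | h1 | h1 | h1
    · exact absurd ((LinearEquiv.map_eq_zero_iff g).1 h1) hy0
    · exact Or.inl h1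
    · exact Or.inr (Or.inl h1)
    · exact Or.inr (Or.inr h1)
  have hxyy : x + y + y = x := add_add_cancel x y
  have hxyx : x + y + x = y := by rw [add_comm x y]; exact add_add_cancel y x
  -- `g` is a reflection on `V0`
  by_contra hne
  have key : ∃ r, r ≠ 0 ∧ r ∈ W.V0 ∧ g x = x + γ r x • r ∧ g y = y + γ r y • r := by
    rcases hgx with h1 | h1 | h1 <;> rcases hgy with h2 | h2 | h2
    · exact absurd (g.injective (h1.trans h2.symm)) hxy
    · exfalso
      apply hne
      ext v
      obtain ⟨α, β, w, hw, e⟩ := W.span v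
      have hfix : g w = w := by
        rcases hV.all w hw with rfl | rfl | rfl | rfl
        · exact map_zero g
        · exact h1
        · exact h2
        · rw [map_add, h1, h2]
      show g v = v
      rw [e, map_add, map_add, map_sum, map_sum, hfix]
      congr 2
      · exact Finset.sum_congr rfl fun i _ => by rw [map_smul]; congr 1; exact hb (i, true)
      · exact Finset.sum_congr rfl fun i _ => by rw [map_smul]; congr 1; exact hb (i, false)
    · exact ⟨x, hx0, hV.x_mem, by rw [S.alt, zero_smul, add_zero, h1], by rw [hV.xy, one_smul, h2, add_comm]⟩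
    · refine ⟨x + y, fun h3 => hxy (add_eq_zero.1 h3), W.V0.add_mem hV.x_mem hV.y_mem, ?_, ?_⟩
      · rw [map_add, LinearMap.add_apply, S.alt, hyx, zero_add, one_smul, h1, ← add_assoc, add_self, zero_add]
      · rw [map_add, LinearMap.add_apply, S.alt, hV.xy, add_zero, one_smul, h2, add_comm x y, ← add_assoc, add_self,
          zero_add]
    · exact absurd (g.injective (h1.trans h2.symm)) hxy
    · exfalso
      have h3 := hgg x
      rw [h1, h2] at h3
      exact hy0 (add_eq_left.1 h3)
    · exfalso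
      have h3 := hgg x
      rw [h1, map_add, h1, h2, hxyx] at h3
      exact hxy h3.symm
    · exact ⟨y, hy0, hV.y_mem, by rw [hyx, one_smul, h1], by rw [S.alt, zero_smul, add_zero, h2]⟩
    · exact absurd (g.injective (h1.trans h2.symm)) hxy
  obtain ⟨r, hr0, hr, e1, e2⟩ := key
  have hrefl : ∀ v, g v = v + γ r v • r := by
    intro v
    obtain ⟨α, β, w, hw, e⟩ := W.span v
    have h3 : g w = w + γ r w • r := by
      rcases hV.all w hw with rfl | rfl | rfl | rfl
      · rw [map_zero, map_zero, zero_smul, add_zero]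
      · exact e1
      · exact e2
      · rw [map_add, e1, e2, map_add, add_smul]; abel
    have hs : ∀ (c : Fin k → ZMod 2) (t : Fin k → U), (∀ i, γ r (t i) = 0) → γ r (∑ i, c i • t i) = 0 := by
      intro c t ht
      rw [map_sum]
      exact Finset.sum_eq_zero fun i _ => by rw [map_smul, ht, smul_zero]
    have h4 : γ r v = γ r w := by
      rw [e, map_add, map_add, hs _ _ fun i => W.V0e r hr i, hs _ _ fun i => W.V0f r hr i, zero_add, zero_add]
    rw [h4, e, map_add, map_add, map_sum, map_sum, h3]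
    have h7 : ∑ i, g (α i • W.e i) = ∑ i, α i • W.e i :=
      Finset.sum_congr rfl fun i _ => by rw [map_smul]; congr 1; exact hb (i, true)
    have h8 : ∑ i, g (β i • W.f i) = ∑ i, β i • W.f i :=
      Finset.sum_congr rfl fun i _ => by rw [map_smul]; congr 1; exact hb (i, false)
    rw [h7, h8]
    abel
  have e : fix g = LinearMap.ker (γ r) := by
    ext v
    rw [mem_fix, hrefl, LinearMap.mem_ker]
    rcases z2 (γ r v) with h1 | h1
    · rw [h1, zero_smul, add_zero]; simp
    · rw [h1, one_smul]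
      constructor
      · intro h2
        exact absurd (add_eq_left.1 h2) hr0
      · intro h2; exact absurd h2 (by decide)
  have h1 := finrank_dual_ker S hr0
  have h2 := h.even_fix S hQ hg
  rw [e] at h2
  rw [Nat.even_iff] at h2 hev
  omega

theorem ambT [Finite U] {x y : U} (hV : Aniso γ Q W.V0 x y) (hev : Even (finrank (ZMod 2) U)) :
    AmbT (toFrame W) 2 G0 where
  iso g hg u v := h.iso g hg u v
  ok g hg w c hw hgw := by
    refine ⟨hgw, ?_⟩
    have h2 : c = Q w := hw.2
    show c = Q (g w)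
    rw [h2, h.isq g hg]
  X_mem := h.X_mem S hQ W
  Z_mem := h.Z_mem S hQ W
  V0 v hv := mem_V0_of_orth W (fun i => hv (i, true)) (fun i => hv (i, false))
  ok_aniso w hw := W.aniso w hw.1 hw.2
  fixp g hg hg2 hb := h.fixp S hQ W hV hev hg hg2 hb

end OG

end Cfsg.Agent.Omega.EH3.RowS
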