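import Cfsg.Agent.Omega.EH3.RowS.Tensor

/-!
# EH3, the `S₃ × Ω_w(2)`-row: output of the front (helper888)

`C : Cfg ρ b q a D X w`, `S : Tri ρ X L d t`, `L ⊴ H` quasisimple.  `U = UU ρ t = C_V(t)`, `H₀ = HH d t = C_H({d, t})`.

* `Tri.gam` : the form `gam u v = b u (ρ d v)` on `U`; `Tri.ρ₀` : the action of `H₀` on `U`; `Tri.X₀ = X ∩ H₀`;
* `Tri.q_U_zero` : `q = 0` on `U`; `Tri.q_dec` : `q (u + ρ d v) = gam u v`;
* `Tri.mem_D` : `D = {u + k ρ(d) a | gam a u = 0}`;
* `Tri.scfg` : `SCfg ρ₀ gam a X₀ w`; `Tri.exists_form` : the quadratic form on `U`.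
-/

set_option autoImplicit false

namespace Cfsg.Agent.Omega.EH3.RowS

open Subgroup

namespace Tri

variable {H V : Type*} [Group H] [AddCommGroup V] [Module (ZMod 2) V]
  {ρ : H →* (V ≃ₗ[ZMod 2] V)} {b : LinearMap.BilinForm (ZMod 2) V} {q : V → ZMod 2}
  {a : V} {D : Submodule (ZMod 2) V} {X : Subgroup H} {w : ℕ} {L : Subgroup H} {d t : H}

/-- `gam u v = b u (ρ d v)` -/
def gam (ρ : H →* (V ≃ₗ[ZMod 2] V)) (b : LinearMap.BilinForm (ZMod 2) V) (d t : H) :
    LinearMap.BilinForm (ZMod 2) (UU ρ t) :=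
  LinearMap.mk₂ (ZMod 2) (fun u v => b (u : V) (ρ d (v : V)))
    (fun u u' v => by simp only [Submodule.coe_add, map_add, LinearMap.add_apply])
    (fun k u v => by simp only [Submodule.coe_smul, map_smul, LinearMap.smul_apply])
    (fun u v v' => by simp only [Submodule.coe_add, map_add])
    (fun k u v => by simp only [Submodule.coe_smul, map_smul])

@[simp] theorem gam_apply (u v : UU ρ t) : gam ρ b d t u v = b (u : V) (ρ d (v : V)) := rfl

/-- the action of `H₀` on `U` -/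
def ρ₀ (ρ : H →* (V ≃ₗ[ZMod 2] V)) (d t : H) : HH d t →* (UU ρ t ≃ₗ[ZMod 2] UU ρ t) where
  toFun h :=
    { toFun := fun u => ⟨ρ (h : H) (u : V), inv_U h.2 u.2⟩
      map_add' := fun u v => Subtype.ext (by simp only [Submodule.coe_add, map_add])
      map_smul' := fun k u => Subtype.ext (by simp only [Submodule.coe_smul, map_smul, RingHom.id_apply])
      invFun := fun u => ⟨ρ (h : H)⁻¹ (u : V), inv_U (inv_mem h.2) u.2⟩
      left_inv := fun u => Subtype.ext (by
        show ρ (h : H)⁻¹ (ρ (h : H) (u : V)) = u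
        rw [← LinearEquiv.mul_apply, ← map_mul, inv_mul_cancel, map_one]; rfl)
      right_inv := fun u => Subtype.ext (by
        show ρ (h : H) (ρ (h : H)⁻¹ (u : V)) = u
        rw [← LinearEquiv.mul_apply, ← map_mul, mul_inv_cancel, map_one]; rfl) }
  map_one' := LinearEquiv.ext fun u => Subtype.ext (by
    show ρ ((1 : HH d t) : H) (u : V) = u
    rw [OneMemClass.coe_one, map_one]; rfl)
  map_mul' g h := LinearEquiv.ext fun u => Subtype.ext (by
    show ρ ((g * h : HH d t) : H) (u : V) = ρ (g : H) (ρ (h : H) (u : V))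
    rw [Subgroup.coe_mul, map_mul]; rfl)

@[simp] theorem ρ₀_apply (h : HH d t) (u : UU ρ t) : ((ρ₀ ρ d t h u : UU ρ t) : V) = ρ (h : H) (u : V) := rfl

variable (C : Cfg ρ b q a D X w) (S : Tri ρ X L d t)
include C S

/-- `U ≤ W` if `W` contains the orbit `a^L` -/
theorem U_le (hN : L.Normal) (hq : IsQuasisimple L) {W : Submodule (ZMod 2) V}
    (h : ∀ l ∈ L, ρ l a ∈ W) {v : V} (hv : v ∈ UU ρ t) : v ∈ W := by
  apply C.mem_of_perp W
  intro u' hu'
  obtain ⟨u1, h1, u2, h2, rfl⟩ := S.dec C u'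
  have h3 : u2 = 0 := S.rad C hN hq h2 fun l hl => by
    have := hu' _ (h l hl)
    rwa [map_add, S.b_U C (inv_U (S.L_le hl) (S.a_mem C)) h1, zero_add] at this
  rw [h3, map_zero, add_zero]
  exact S.b_U C h1 hv

theorem q_U_zero (hN : L.Normal) (hq : IsQuasisimple L) {u : V} (hu : u ∈ UU ρ t) : q u = 0 := by
  let W : Submodule (ZMod 2) V :=
    { carrier := {v | v ∈ UU ρ t ∧ q v = 0}
      zero_mem' := ⟨zero_mem _, C.q_zero⟩
      add_mem' := fun {v v'} hv hv' => ⟨add_mem hv.1 hv'.1, by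
        rw [C.q_add, hv.2, hv'.2, S.b_U C hv.1 hv'.1, add_zero, add_zero]⟩
      smul_mem' := fun k v hv => ⟨Submodule.smul_mem _ k hv.1, by
        rcases zmod_two k with h | h
        · rw [h, zero_smul]; exact C.q_zero
        · rw [h, one_smul]; exact hv.2⟩ }
  have h1 : ∀ l ∈ L, ρ l a ∈ W := fun l hl => ⟨inv_U (S.L_le hl) (S.a_mem C), by
    rw [C.q_inv, C.q_a]⟩
  have h : u ∈ W := S.U_le C hN hq h1 hu
  exact h.2

theorem q_dec (hN : L.Normal) (hq : IsQuasisimple L) {u v : V} (hu : u ∈ UU ρ t)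
    (hv : v ∈ UU ρ t) : q (u + ρ d v) = b u (ρ d v) := by
  rw [C.q_add, C.q_inv, S.q_U_zero C hN hq hu, S.q_U_zero C hN hq hv, add_zero, zero_add]

/-- the `U'`-component of `d' ∈ D` is `0` or `a` -/
theorem D_dec {d' u u' : V} (hd : d' ∈ D) (hu : u ∈ UU ρ t) (hu' : u' ∈ UU ρ t)
    (h : d' = u + ρ d u') : u' = 0 ∨ u' = a := by
  have h1 : ρ t d' = d' + u' := by
    rw [h, map_add, S.t_om C, mem_UU.1 hu, mem_UU.1 hu']
    abel
  rcases C.X_D t S.t_mem d' hd with h2 | h2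
  · left; exact add_eq_left.1 (h1.symm.trans h2)
  · right; exact add_left_cancel (h1.symm.trans h2)

theorem om_a_mem (hN : L.Normal) (hq : IsQuasisimple L) : ρ d a ∈ D := by
  apply C.perp_D
  intro d' hd'
  obtain ⟨u, hu, u', hu', h⟩ := S.dec C d'
  have ha := S.a_mem C
  have h1 : b d' (ρ d a) = b u (ρ d a) := by
    rw [h, map_add, LinearMap.add_apply, C.b_inv, S.b_U C hu' ha, add_zero]
  rw [h1]
  rcases S.D_dec C hd' hu hu' h with h2 | h2
  · rw [h2, map_zero, add_zero] at h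
    rw [S.gam_symm C hu ha]
    exact S.D_U C hu (h ▸ hd')
  · have h3 := C.q_D d' hd'
    rw [h, h2, S.q_dec C hN hq hu ha] at h3
    exact h3

/-- **`D = U₁ ⊕ ⟨ρ(d) a⟩`** -/
theorem mem_D (hN : L.Normal) (hq : IsQuasisimple L) {v : V} :
    v ∈ D ↔ ∃ u ∈ UU ρ t, b a (ρ d u) = 0 ∧ (v = u ∨ v = u + ρ d a) := by
  constructor
  · intro hv
    obtain ⟨u, hu, u', hu', h⟩ := S.dec C v
    have ha := S.a_mem C
    rcases S.D_dec C hv hu hu' h with h2 | h2
    · rw [h2, map_zero, add_zero] at h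
      exact ⟨u, hu, S.D_U C hu (h ▸ hv), Or.inl h⟩
    · rw [h2] at h
      have h3 : u ∈ D := by
        have := D.add_mem hv (S.om_a_mem C hN hq)
        rwa [h, C.add_add_self] at this
      exact ⟨u, hu, S.D_U C hu h3, Or.inr h⟩
  · rintro ⟨u, hu, h1, rfl | rfl⟩
    · exact S.U_le_D C hu h1
    · exact D.add_mem (S.U_le_D C hu h1) (S.om_a_mem C hN hq)

/-- **the symplectic configuration of `H₀` on `U`** -/
theorem scfg (hN : L.Normal) (hq : IsQuasisimple L) :
    SCfg (ρ₀ ρ d t) (gam ρ b d t) (⟨a, S.a_mem C⟩ : UU ρ t) (X.subgroupOf (HH d t)) w where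
  five := C.five
  card_U := S.card_U C
  B_self := fun v => by
    rw [gam_apply, ← S.q_U C]
    exact S.q_U_zero C hN hq v.2
  nondeg := fun v h => by
    apply Subtype.ext
    apply C.nondeg
    intro x
    obtain ⟨u1, h1, u2, h2, rfl⟩ := S.dec C x
    rw [map_add, S.b_U C v.2 h1, zero_add]
    exact h ⟨u2, h2⟩
  B_inv := fun h u v => by
    rw [gam_apply, gam_apply, ρ₀_apply, ρ₀_apply, ← comm_om h.2, C.b_inv]
  irr := by
    intro W hW
    by_cases h0 : W = ⊥
    · left; exact h0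
    right
    rw [eq_top_iff]
    rintro ⟨v, hv⟩ -
    have h1 : ∀ x ∈ X, ∀ v ∈ W.map (UU ρ t).subtype, ρ x v ∈ W.map (UU ρ t).subtype := by
      rintro x hx _ ⟨⟨v, hv⟩, hvW, rfl⟩
      obtain ⟨y, hy, hyH, -, h2⟩ := S.X_zero C hx
      refine ⟨_, hW ⟨y, hyH⟩ _ hvW, ?_⟩
      exact h2 v hv
    have h2 : W.map (UU ρ t).subtype ≠ ⊥ := by
      intro h
      apply h0
      rw [eq_bot_iff]
      intro x hx
      have h3 : (x : V) ∈ W.map (UU ρ t).subtype := ⟨x, hx, rfl⟩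
      rw [h, Submodule.mem_bot] at h3
      exact (Submodule.mem_bot _).2 (Subtype.ext h3)
    obtain ⟨⟨a', ha'⟩, ha'W, ha'e⟩ := C.a_mem_of_inv h1 h2
    have ha'e' : a' = a := ha'e
    subst ha'e'
    have h4 : ∀ l ∈ L, ρ l a' ∈ W.map (UU ρ t).subtype := fun l hl =>
      ⟨_, hW ⟨l, S.L_le hl⟩ _ ha'W, rfl⟩
    have h3 : v ∈ W.map (UU ρ t).subtype := S.U_le C hN hq h4 hv
    obtain ⟨⟨v', hv'⟩, hvW, he⟩ := h3
    have he' : v' = v := he
    subst he'
    exact hvW
  a_ne := fun h => C.a_ne (congrArg Subtype.val h)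
  X_norm := by
    intro h hh x hx
    rw [mem_subgroupOf] at hx ⊢
    exact C.X_norm h (congrArg Subtype.val hh) x hx
  X_a := by
    intro x hx
    exact Subtype.ext (C.X_a hx)
  X_perp := by
    intro x hx u hu
    rcases C.X_D x hx u (S.U_le_D C u.2 hu) with h | h
    · left; exact Subtype.ext h
    · right; exact Subtype.ext h
  X_all := by
    intro s hs
    obtain ⟨x, hx, hxH, h⟩ := S.exists_x C (s := (s : V)) hs
    exact ⟨⟨x, hxH⟩, hx, fun u hu => Subtype.ext (h u u.2 hu)⟩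
  X_semi := by
    intro x hx h
    apply Subtype.ext
    have ha := S.a_mem C
    -- `c₀`
    obtain ⟨c, hc⟩ := C.exists_off
    obtain ⟨c1, hc1, c0, hc0, rfl⟩ := S.dec C c
    rw [map_add, S.b_U C ha hc1, zero_add] at hc
    apply C.X_semi (x : H) hx (ρ d c0) hc
    have hxU : ρ (x : H) c0 ∈ UU ρ t := inv_U x.2 hc0
    rw [comm_om x.2, ← map_add]
    have h2 : ρ (x : H) c0 + c0 = 0 ∨ ρ (x : H) c0 + c0 = a := by
      apply S.eq_of_gam C (add_mem hxU hc0)
      intro u hu hau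
      have h3 : ρ (x : H) u = u := congrArg Subtype.val (h ⟨u, hu⟩ hau)
      have h4 : b (ρ (x : H) u) (ρ (x : H) (ρ d c0)) = b u (ρ d c0) := C.b_inv _ _ _
      rw [h3, comm_om x.2] at h4
      rw [map_add, map_add, h4, CharTwo.add_self_eq_zero]
    rcases h2 with h2 | h2
    · rw [h2, map_zero]; exact D.zero_mem
    · rw [h2]; exact S.om_a_mem C hN hq

/-- **the quadratic form on `U`** -/
theorem exists_form (hN : L.Normal) (hq : IsQuasisimple L) : ∃ f : UU ρ t → ZMod 2,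
    Form (ρ₀ ρ d t) (gam ρ b d t) (⟨a, S.a_mem C⟩ : UU ρ t) f :=
  (S.scfg C hN hq).exists_form

end Tri

end Cfsg.Agent.Omega.EH3.RowS
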