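import Cfsg.Agent.Omega.EH3.TCL.Form

/-!
# RowS: groups generated by "Siegel groups" in a symplectic group over `F₂` (helper465)

`SpFam f H O X`: `(U, f)` symplectic over `F₂`, `H ≤ Sp(U)`, `O` an `H`-orbit spanning `U`, `X p ≤ H_p` (`p ∈ O`)
equivariant, trivial on `p^⊥/p`, inducing all of `Hom(p^⊥/p, ⟨p⟩)` and containing no transvection.  If
`dim U ≥ 6` then there is an `H`-invariant quadratic form `q` with polar form `f`, `O` is the set of nonzero
singular vectors of `q` and `X p` is the full group of Siegel elements `sg q f p y`, `y ∈ p^⊥` (`main`).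
-/

set_option autoImplicit false

namespace Cfsg.Agent.Omega.EH3.RowS

open Module Cfsg.Agent.LargeExtra.SiegFam Cfsg.Agent.LargeExtra.SiegFam.Lin
open Cfsg.Agent.Omega.EH3.TCL (mul_app inv_app app_inv one_app z2 z4 z6 z8 n2 n4 n6 n8)

variable {U : Type*} [AddCommGroup U] [Module (ZMod 2) U]

/-- the element of `Sp(U)_p`, trivial on `p^⊥/p`, with data `y`, `γ` -/
def tx (f : LinearMap.BilinForm (ZMod 2) U) (p y : U) (γ : ZMod 2) (u : U) : U :=
  u + f y u • p + f p u • (y + γ • p)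

/-- the abstract family -/
structure SpFam (f : LinearMap.BilinForm (ZMod 2) U) (H : Subgroup (U ≃ₗ[ZMod 2] U))
    (O : Set U) (X : U → Subgroup (U ≃ₗ[ZMod 2] U)) : Prop where
  alt : Alt f
  dim : 6 ≤ finrank (ZMod 2) U
  f_H : ∀ h ∈ H, ∀ u v, f (h u) (h v) = f u v
  ne : O.Nonempty
  zero : ∀ p ∈ O, p ≠ 0
  stable : ∀ h ∈ H, ∀ p ∈ O, h p ∈ O
  trans : ∀ p ∈ O, ∀ p' ∈ O, ∃ h ∈ H, h p = p'
  X_le : ∀ p ∈ O, X p ≤ H
  X_map : ∀ h ∈ H, ∀ p ∈ O, ∀ x ∈ X p, h * x * h⁻¹ ∈ X (h p)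
  X_fix : ∀ p ∈ O, ∀ x ∈ X p, x p = p
  X_perp : ∀ p ∈ O, ∀ x ∈ X p, ∀ u, f p u = 0 → x u = u ∨ x u = u + p
  X_tv : ∀ p ∈ O, ∀ x ∈ X p, (∀ u, f p u = 0 → x u = u) → x = 1
  X_surj : ∀ p ∈ O, ∀ y, f p y = 0 → ∃ x ∈ X p, ∀ u, f p u = 0 → x u = u + f y u • p
  span : ∀ v, (∀ p ∈ O, f p v = 0) → v = 0

open Classical in
/-- the quadratic form at `p` -/
noncomputable def cc (f : LinearMap.BilinForm (ZMod 2) U) (X : U → Subgroup (U ≃ₗ[ZMod 2] U)) (p y : U) :
    ZMod 2 := if ∃ x ∈ X p, ∀ u, x u = tx f p y 1 u then 1 else 0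

theorem eq_of_perp' {f : LinearMap.BilinForm (ZMod 2) U} (A : Alt f) {a d : U}
    (h : ∀ v, f a v = 0 → f d v = 0) : d = 0 ∨ d = a := by
  by_cases h0 : d = 0
  · exact Or.inl h0
  · right
    obtain ⟨v1, h1⟩ := A.exists_ne h0
    have h2 : f a v1 = 1 := zm_ne fun h2 => by rw [h v1 h2] at h1; exact zero_ne_one h1
    apply eq_of_add
    apply A.nondeg
    intro v
    rw [map_add, LinearMap.add_apply]
    rcases zm (f a v) with h3 | h3
    · rw [h v h3, h3, add_zero]
    · have h4 : f a (v + v1) = 0 := by rw [map_add, h3, h2]; decide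
      have h5 := h _ h4
      rw [map_add, h1] at h5
      rw [h3, h5]

/-- every functional is `f m` -/
theorem exists_rep {f : LinearMap.BilinForm (ZMod 2) U} (A : Alt f) (φ : U →ₗ[ZMod 2] ZMod 2) :
    ∃ m, ∀ v, φ v = f m v := by
  have := A.finDim
  have h1 : Function.Injective f := by
    rw [injective_iff_map_eq_zero]
    intro v hv
    apply A.nondeg
    intro w
    rw [hv, LinearMap.zero_apply]
  have h2 : Function.Surjective f := by
    refine (LinearMap.injective_iff_surjective_of_finrank_eq_finrank ?_).1 h1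
    exact (Subspace.dual_finrank_eq (K := ZMod 2) (V := U)).symm
  obtain ⟨m, hm⟩ := h2 φ
  exact ⟨m, fun v => by rw [hm]⟩

namespace SpFam

variable {f : LinearMap.BilinForm (ZMod 2) U} {H : Subgroup (U ≃ₗ[ZMod 2] U)} {O : Set U}
  {X : U → Subgroup (U ≃ₗ[ZMod 2] U)} {p y : U} {γ γ' : ZMod 2} {x : U ≃ₗ[ZMod 2] U}

theorem comm (F : SpFam f H O X) (v w : U) : f v w = f w v := F.alt.comm v w

theorem self (F : SpFam f H O X) (v : U) : f v v = 0 := F.alt.self v

theorem tx_perp {u : U} (h : f p u = 0) : tx f p y γ u = u + f y u • p := by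
  rw [tx, h, zero_smul, add_zero]

/-- the form of the elements of `X p` -/
theorem eq_tx (F : SpFam f H O X) (hp : p ∈ O) (hx : x ∈ X p) (hy : f p y = 0)
    (h : ∀ u, f p u = 0 → x u = u + f y u • p) : ∃ γ, ∀ u, x u = tx f p y γ u := by
  obtain ⟨e, he⟩ := F.alt.exists_ne (F.zero p hp)
  have hxH := F.X_le p hp hx
  have key : x e + e + y = 0 ∨ x e + e + y = p := by
    apply eq_of_perp' F.alt
    intro u hu
    have h1 := F.f_H x hxH e u
    rw [h u hu, map_add, map_smul] at h1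
    have h2 : f (x e) p = 1 := by
      have h3 := F.f_H x hxH p e
      rw [F.X_fix p hp x hx] at h3
      rw [F.comm, h3, he]
    rw [h2, smul_eq_mul, mul_one] at h1
    rw [map_add, map_add, LinearMap.add_apply, LinearMap.add_apply, ← h1]
    generalize f (x e) u = s, f y u = t
    revert s t; decide
  have hg : ∃ γ : ZMod 2, x e = e + y + γ • p := by
    rcases key with h1 | h1
    · refine ⟨0, ?_⟩
      rw [zero_smul, add_zero]
      calc x e = (x e + e + y) + (e + y) := by v2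
        _ = e + y := by rw [h1, zero_add]
    · refine ⟨1, ?_⟩
      rw [one_smul]
      calc x e = (x e + e + y) + (e + y) := by v2
        _ = e + y + p := by rw [h1]; abel
  obtain ⟨γ, hg⟩ := hg
  refine ⟨γ + f y e, fun u => ?_⟩
  rcases zm (f p u) with h1 | h1
  · rw [h u h1, tx_perp h1]
  · have h2 : f p (u + e) = 0 := by rw [map_add, h1, he]; decide
    have h3 := h _ h2
    rw [map_add, hg] at h3
    rw [tx, h1, one_smul]
    have h4 : x u = (u + e + f y (u + e) • p) + (e + y + γ • p) := by rw [← h3]; v2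
    rw [h4, map_add, add_smul, add_smul]; v2

theorem tx_mul (F : SpFam f H O X) {y' : U} (hy : f p y = 0) (hy' : f p y' = 0) (u : U) :
    tx f p y γ (tx f p y' γ' u) = tx f p (y + y') (γ + γ' + f y y') u := by
  have h1 : f p (tx f p y' γ' u) = f p u := by
    rw [tx, map_add, map_add, map_smul, map_smul, map_add, map_smul, F.self, hy']; simp
  have h2 : f y (tx f p y' γ' u) = f y u + f p u * f y y' := by
    rw [tx, map_add, map_add, map_smul, map_smul, map_add, map_smul, F.comm y p, hy]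
    simp only [smul_eq_mul, mul_zero, add_zero]
  rw [tx, h1, h2, tx, tx, map_add, LinearMap.add_apply]
  rcases zm (f p u) with h3 | h3 <;> rw [h3]
  · simp only [zero_smul, add_zero, zero_mul, add_smul]; v2
  · simp only [one_smul, one_mul, add_smul]; v2

theorem tx_self (F : SpFam f H O X) (p u : U) : tx f p p 0 u = u := by
  rw [tx, zero_smul, add_zero]; v2

theorem tx_add_self (F : SpFam f H O X) (u : U) : tx f p (y + p) γ u = tx f p y γ u := by
  rw [tx, tx, map_add, LinearMap.add_apply, add_smul, smul_add, smul_add, smul_add]; v2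

theorem map_tx (F : SpFam f H O X) {h : U ≃ₗ[ZMod 2] U} (hh : h ∈ H) (u : U) :
    h (tx f p y γ u) = tx f (h p) (h y) γ (h u) := by
  rw [tx, tx, map_add, map_add, map_smul, map_smul, map_add, map_smul, F.f_H h hh, F.f_H h hh]

/-- uniqueness of `γ` -/
theorem uniq (F : SpFam f H O X) (hp : p ∈ O) (hy : f p y = 0) {x' : U ≃ₗ[ZMod 2] U} (hx : x ∈ X p)
    (hx' : x' ∈ X p) (h : ∀ u, x u = tx f p y γ u) (h' : ∀ u, x' u = tx f p y γ' u) : γ = γ' := by
  have h1 : ∀ u, (x * x') u = tx f p 0 (γ + γ') u := by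
    intro u
    rw [mul_app, h, h', F.tx_mul hy hy, F.self, add_zero, add_self]
  have h2 := F.X_tv p hp _ ((X p).mul_mem hx hx') fun u hu => by
    rw [h1, tx_perp hu, map_zero, LinearMap.zero_apply, zero_smul, add_zero]
  obtain ⟨e, he⟩ := F.alt.exists_ne (F.zero p hp)
  have h3 := h1 e
  rw [h2, one_app, tx, he, map_zero, LinearMap.zero_apply, zero_smul, add_zero, one_smul, zero_add] at h3
  have h4 : (γ + γ') • p = 0 := left_eq_add.1 h3
  rcases zm (γ + γ') with h5 | h5
  · exact CharTwo.add_eq_zero.1 h5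
  · rw [h5, one_smul] at h4
    exact absurd h4 (F.zero p hp)

/-- the element of `X p` belonging to `y` -/
theorem exists_tx (F : SpFam f H O X) (hp : p ∈ O) (hy : f p y = 0) :
    ∃ x ∈ X p, ∀ u, x u = tx f p y (cc f X p y) u := by
  obtain ⟨x, hx, h1⟩ := F.X_surj p hp y hy
  obtain ⟨γ, h2⟩ := F.eq_tx hp hx hy h1
  rcases zm γ with h3 | h3
  · have h4 : cc f X p y = 0 := by
      rw [cc, if_neg]
      rintro ⟨x', hx', h5⟩
      have h6 := F.uniq hp hy hx hx' h2 h5
      rw [h3] at h6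
      exact zero_ne_one h6
    exact ⟨x, hx, by rw [h4, ← h3]; exact h2⟩
  · have h4 : cc f X p y = 1 := by
      rw [cc, if_pos]
      exact ⟨x, hx, by rw [← h3]; exact h2⟩
    exact ⟨x, hx, by rw [h4, ← h3]; exact h2⟩

theorem cc_eq (F : SpFam f H O X) (hp : p ∈ O) (hy : f p y = 0) (hx : x ∈ X p)
    (h : ∀ u, x u = tx f p y γ u) : cc f X p y = γ := by
  obtain ⟨x', hx', h'⟩ := F.exists_tx hp hy
  exact F.uniq hp hy hx' hx h' h

theorem cc_add (F : SpFam f H O X) (hp : p ∈ O) {y' : U} (hy : f p y = 0) (hy' : f p y' = 0) :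
    cc f X p (y + y') = cc f X p y + cc f X p y' + f y y' := by
  obtain ⟨x, hx, h⟩ := F.exists_tx hp hy
  obtain ⟨x', hx', h'⟩ := F.exists_tx hp hy'
  refine F.cc_eq hp (by rw [map_add, hy, hy', add_zero]) ((X p).mul_mem hx hx') fun u => ?_
  rw [mul_app, h, h', F.tx_mul hy hy']

theorem cc_self (F : SpFam f H O X) (hp : p ∈ O) : cc f X p p = 0 :=
  F.cc_eq hp (F.self p) (X p).one_mem fun u => by rw [F.tx_self]; rfl

theorem cc_zero (F : SpFam f H O X) (hp : p ∈ O) : cc f X p 0 = 0 :=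
  F.cc_eq hp (map_zero _) (X p).one_mem fun u => by
    simp [tx]

theorem cc_map (F : SpFam f H O X) {h : U ≃ₗ[ZMod 2] U} (hh : h ∈ H) (hp : p ∈ O) (hy : f p y = 0) :
    cc f X (h p) (h y) = cc f X p y := by
  obtain ⟨x, hx, h1⟩ := F.exists_tx hp hy
  refine F.cc_eq (F.stable h hh p hp) (by rw [F.f_H h hh]; exact hy) (F.X_map h hh p hp x hx) fun u => ?_
  rw [mul_app, mul_app, h1, F.map_tx hh, inv_app]

/-- orbits of `X p` off `p^⊥` -/
theorem orbit (F : SpFam f H O X) (hp : p ∈ O) {e s : U} (he : f p e = 1) (hs : f p s = 0) :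
    ∃ x ∈ X p, x e = e + s + (f s e + cc f X p s) • p := by
  obtain ⟨x, hx, h⟩ := F.exists_tx hp hs
  refine ⟨x, hx, ?_⟩
  rw [h, tx, he, one_smul, add_smul]; abel

end SpFam

end Cfsg.Agent.Omega.EH3.RowS
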